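import Groth.Agent.Red.K213.RkOneR
import Groth.Agent.Sga3B.PinModelOf
import Groth.Agent.Sga3B.ChartEx
import Groth.Agent.Sga3B.AffYoneda

/-!
# Dictionary between points of a split reductive group scheme and the datum of a chart

To prove an identity between `X`-points of `G` it suffices to treat `X = tB s R` (`hom_ext_tB`), and there
points are in bijection with `Pt R c.A R` for a chart `c`; see `pt_u`, `pt_w`, `rank1_of_hpair`.
-/

set_option autoImplicit false
universe u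

open CategoryTheory MonoidalCategory CartesianMonoidalCategory MonObj GrpObj AlgebraicGeometry Limits

namespace K213.PtKit

open Groth.Agent.Sga3B Groth.Agent.Sga3B.Cell Groth.Agent.Sga3B.PinMod Groth.Agent.Sga3B.DSPts
  Groth.Agent.Sga3B.GaPts Groth.Agent.Sga3B.Chart K213.RkOneR

variable {S : Scheme.{u}}

section reduce

variable {G : Over S}

/-- morphisms over `S` agreeing on the points with values in `tB s R` are equal -/
theorem hom_ext_tB {X : Over S} {f f' : X ⟶ G}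
    (h : ∀ (R : Type u) [CommRing R] (s : Spec (CommRingCat.of R) ⟶ S) (g : tB s R ⟶ X),
      g ≫ f = g ≫ f') : f = f' := by
  apply AffYoneda.hom_ext
  intro R s g
  let e : tB (R := R) s R ≅ Over.mk s := Over.isoMk (Iso.refl _) (by
    change 𝟙 _ ≫ s = Spec.map (CommRingCat.ofHom (algebraMap R R)) ≫ s
    congr 1
    exact (Spec.map_id _).symm)
  have h1 := h R s (e.hom ≫ g)
  rw [Category.assoc, Category.assoc] at h1
  exact (cancel_epi e.hom).mp h1

end reduce

section ga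

variable {R : Type u} [CommRing R] (s : Spec (CommRingCat.of R) ⟶ S)
variable {B : Type u} [CommRing B] [Algebra R B]

/-- the ring element of a point of `𝔾_a` -/
noncomputable def gaR (x : tB s B ⟶ Red.Ga S) : B := (exists_fnOf s (Red.gaFn x)).choose

lemma fnOf_gaR (x : tB s B ⟶ Red.Ga S) : fnOf s (gaR s x) = Red.gaFn x :=
  (exists_fnOf s (Red.gaFn x)).choose_spec.symm

lemma gaR_eq {x : tB s B ⟶ Red.Ga S} {r : B} (h : Red.gaFn x = fnOf s r) : gaR s x = r :=
  fnOf_injective s (by rw [fnOf_gaR, h])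

lemma gaPt_gaR (x : tB s B ⟶ Red.Ga S) : gaPt (tB s B) (fnOf s (gaR s x)) = x := by
  rw [fnOf_gaR, gaPt_gaFn]

/-- `fnOf` as a ring homomorphism -/
noncomputable def fnHom : B →+* Γ((tB s B).left, ⊤) := (Scheme.ΓSpecIso (CommRingCat.of B)).inv.hom

lemma fnHom_apply (x : B) : fnHom s x = fnOf s x := rfl

lemma gaR_gaPt (r : B) : gaR s (gaPt (tB s B) (fnOf s r)) = r := gaR_eq s (by rw [gaFn_gaPt])

/-- transport of an identity between functions -/
lemma gaR_of {x : tB s B ⟶ Red.Ga S} {r : B} (h : Red.gaFn x = fnHom s r) : gaR s x = r :=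
  gaR_eq s h

lemma gaFn_eq (x : tB s B ⟶ Red.Ga S) : Red.gaFn x = fnHom s (gaR s x) := (fnOf_gaR s x).symm

lemma gaR_mul (x y : tB s B ⟶ Red.Ga S) : gaR s (x * y) = gaR s x + gaR s y := by
  apply gaR_of
  rw [gaFn_mul, map_add, ← gaFn_eq, ← gaFn_eq]

lemma gaR_inv (x : tB s B ⟶ Red.Ga S) : gaR s (x⁻¹) = - gaR s x := by
  apply gaR_of
  rw [gaFn_inv, map_neg, ← gaFn_eq]

end ga

section gm

variable {R : Type u} [CommRing R] (s : Spec (CommRingCat.of R) ⟶ S)
variable {B : Type u} [CommRing B] [Algebra R B]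

/-- points of `𝔾_m` are units -/
lemma exists_gm (z : tB s B ⟶ Red.Gm S) : ∃ v : Bˣ, Red.gmFn z = fnOf s (v : B) := by
  obtain ⟨t, ht⟩ := exists_chΓ s (M := ℤ) z
  refine ⟨t (Multiplicative.ofAdd 1), ?_⟩
  rw [gmFn_eq, ht, dsChar_dsEquiv]
  rfl

/-- cocharacters on points -/
lemma gm_DSmap {M : Type} [AddCommGroup M] (f : Module.Dual ℤ M) {z : tB s B ⟶ Red.Gm S} {v : Bˣ}
    (hz : Red.gmFn z = fnOf s (v : B)) :
    z ≫ Red.DSmap S f.toAddMonoidHom = dsEquiv (tB s B) M (chΓ s (TPt.cow f v)) := by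
  obtain ⟨t, rfl⟩ := exists_chΓ s (M := ℤ) z
  rw [dsEquiv_DSmap]
  congr 1
  rw [gmFn_eq, dsChar_dsEquiv] at hz
  have h1 : t (Multiplicative.ofAdd 1) = v := Units.ext (fnOf_injective s hz)
  refine MonoidHom.ext fun m => ?_
  change fnOf s ((t (Multiplicative.ofAdd (f m.toAdd)) : Bˣ) : B) = fnOf s ((v ^ (f m.toAdd) : Bˣ) : B)
  congr 2
  rw [← h1, ← map_zpow, ← ofAdd_zsmul]
  simp

end gm

section split

variable {G : Over S} [GrpObj G] (D : Red.SplitRed G) {R : Type u} [CommRing R]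
  {s : Spec (CommRingCat.of R) ⟶ S} (c : Chart G s) {B : Type u} [CommRing B] [Algebra R B]

/-- root homomorphisms on points -/
lemma pt_u (a : D.idx) (x : tB s B ⟶ Red.Ga S) :
    x ≫ D.u a = c.pts B ((c.datum D).uu a B (gaR s x)) := by
  rw [c.pts_uu, gaPt_gaR]

/-- coroots on points -/
lemma pt_av (f : Module.Dual ℤ D.M) {z : tB s B ⟶ Red.Gm S} {v : Bˣ}
    (hz : Red.gmFn z = fnOf s (v : B)) :
    z ≫ Red.DSmap S f.toAddMonoidHom ≫ D.split.inv.hom.hom ≫ D.i =
      c.pts B ((c.datum D).i B (TPt.cow f v)) := by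
  refine Eq.trans ?_ (c.pts_i D _).symm
  have h := congrArg (fun g => g ≫ D.split.inv.hom.hom ≫ D.i) (gm_DSmap s f hz)
  simp only [Category.assoc] at h
  exact h

variable (e₁ : 𝟙_ (Over S) ⟶ Red.Ga S) (he₁ : Red.gaFn e₁ = 1)

include he₁ in
lemma gaR_e : gaR s (toUnit (tB s B) ≫ e₁) = 1 := by
  apply gaR_of
  rw [gaFn_comp, he₁, map_one, map_one]

include he₁ in
/-- the element `w_a` on points -/
lemma pt_w (a : D.idx) : toUnit (tB s B) ≫ ((e₁ ≫ D.u a) *
      (e₁ ≫ D.u (D.P.reflectionPerm a a))⁻¹ * (e₁ ≫ D.u a)) =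
    c.pts B (nn (D := c.datum D) D.P a B) := by
  rw [MonObj.comp_mul, MonObj.comp_mul, GrpObj.comp_inv, ← Category.assoc, ← Category.assoc,
    pt_u D c, pt_u D c, gaR_e e₁ he₁, nn, map_mul, map_mul, Datum.uu_neg, map_inv]
  rfl

/-- the rank one relation in a chart -/
theorem rank1_of_hpair (a : D.idx)
    (hpair : ∀ (X : Over S) (x y : X ⟶ Red.Ga S), IsUnit (1 + Red.gaFn x * Red.gaFn y) →
        ∃ (x' y' : X ⟶ Red.Ga S) (z : X ⟶ Red.Gm S), Red.gmFn z = 1 + Red.gaFn x * Red.gaFn y ∧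
          Red.gaFn x' * Red.gmFn z = Red.gaFn x ∧ Red.gaFn y' * Red.gmFn z = Red.gaFn y ∧
          (x ≫ D.u a) * (y ≫ D.u (D.P.reflectionPerm a a)) =
            (y' ≫ D.u (D.P.reflectionPerm a a)) *
              (z ≫ (Red.DSmap S (D.P.coroot a).toAddMonoidHom ≫ D.split.inv.hom.hom) ≫ D.i) *
              (x' ≫ D.u a)) :
    Rank1 (D := c.datum D) D.P a := by
  intro B _ _ x y v hv
  obtain ⟨x', y', z, h1, h2, h3, h4⟩ := hpair (tB s B) (gaPt _ (fnOf s x)) (gaPt _ (fnOf s y)) (by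
    rw [gaFn_gaPt, gaFn_gaPt, ← fnHom_apply, ← fnHom_apply, ← map_mul, ← map_one (fnHom s),
      ← map_add, ← hv]
    exact v.isUnit.map _)
  have hz : Red.gmFn z = fnOf s (v : B) := by
    rw [h1, gaFn_gaPt, gaFn_gaPt, hv, ← fnHom_apply, ← fnHom_apply, ← fnHom_apply, map_add,
      map_mul, map_one]
  have e : ∀ (w : tB s B ⟶ Red.Ga S) (r : B), Red.gaFn w * Red.gmFn z = fnHom s r →
      gaR s w = (v⁻¹ : Bˣ) * r := by
    intro w r h
    apply gaR_of
    rw [hz, ← fnHom_apply] at h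
    rw [map_mul, ← h, mul_comm (fnHom s _), _root_.mul_assoc, ← map_mul, Units.mul_inv, map_one,
      _root_.mul_one]
  have hx' := e x' x (by rw [h2, gaFn_gaPt]; rfl)
  have hy' := e y' y (by rw [h3, gaFn_gaPt]; rfl)
  apply (c.pts B).injective
  rw [Category.assoc, pt_av D c (D.P.coroot a) hz, pt_u D c, pt_u D c, pt_u D c, pt_u D c, hx', hy', gaR_gaPt, gaR_gaPt] at h4
  rw [map_mul, map_mul, map_mul]
  exact h4

/-- charts exist -/
lemma exists_chart' (D : Red.SplitRed G) (R : Type u) [CommRing R]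
    (s : Spec (CommRingCat.of R) ⟶ S) : Nonempty (Chart G s) := by
  have : IsAffineHom G.hom := D.reductive.1
  exact exists_chart G s

end split

end K213.PtKit

namespace K213.PtKit

open Groth.Agent.Sga3B Groth.Agent.Sga3B.Cell Groth.Agent.Sga3B.PinMod Groth.Agent.Sga3B.DSPts
  Groth.Agent.Sga3B.GaPts Groth.Agent.Sga3B.Chart K213.RkOneR

variable {S : Scheme.{u}}

section nat

variable {R : Type u} [CommRing R] (s : Spec (CommRingCat.of R) ⟶ S)
variable {B : Type u} [CommRing B] [Algebra R B]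

/-- functions of points of `𝔾_a` after pullback to `tB s B` -/
lemma app_gaFn {X : Over S} (g : tB s B ⟶ X) (x : X ⟶ Red.Ga S) :
    g.left.appTop (Red.gaFn x) = fnHom s (gaR s (g ≫ x)) := by
  rw [← gaFn_comp, gaFn_eq]

lemma gaR_comp {X : Over S} (g : tB s B ⟶ X) {z : X ⟶ Red.Ga S} {r : B}
    (h : g.left.appTop (Red.gaFn z) = fnHom s r) : gaR s (g ≫ z) = r := by
  apply gaR_of
  rw [gaFn_comp, h]

end nat

section split

variable {G : Over S} [GrpObj G] (D : Red.SplitRed G) {R : Type u} [CommRing R]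
  {s : Spec (CommRingCat.of R) ⟶ S} (c : Chart G s) {B : Type u} [CommRing B] [Algebra R B]

lemma pt_u' {X : Over S} (g : tB s B ⟶ X) (a : D.idx) (x : X ⟶ Red.Ga S) :
    g ≫ x ≫ D.u a = c.pts B ((c.datum D).uu a B (gaR s (g ≫ x))) := by
  rw [← Category.assoc, pt_u D c]

lemma pt_w' (e₁ : 𝟙_ (Over S) ⟶ Red.Ga S) (he₁ : Red.gaFn e₁ = 1)
    {w : D.idx → (𝟙_ (Over S) ⟶ G)}
    (hw : ∀ a, w a = (e₁ ≫ D.u a) * (e₁ ≫ D.u (D.P.reflectionPerm a a))⁻¹ * (e₁ ≫ D.u a))
    {X : Over S} (g : tB s B ⟶ X) (a : D.idx) :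
    g ≫ toUnit X ≫ w a = c.pts B (nn (D := c.datum D) D.P a B) := by
  rw [comp_toUnit_assoc, hw, pt_w D c e₁ he₁]

end split

end K213.PtKit
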