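import Groth.Agent.Red.K213.TwUniq

/-!
# Homomorphisms attached to `p`-morphisms of pinned root data: glueing
-/

set_option autoImplicit false
set_option linter.unusedSectionVars false
universe u v

open CategoryTheory MonoidalCategory CartesianMonoidalCategory MonObj GrpObj AlgebraicGeometry

namespace K213.PMor

open Groth.Agent.Sga3B.Cell Groth.Agent.Sga3B Groth.Agent.Sga3B.PtDescent
  Groth.Agent.Sga3B.PinMod Groth.Agent.Sga3B.DSPts Groth.Agent.Sga3B.GaPts K213.RkOneR K213.PtKit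

/-- Pinned cell data computing the points of `G` over all affine schemes over `s : Spec R ⟶ S`. -/
structure Mdl {idx M : Type} [Fintype idx] [AddCommGroup M] [Module.Free ℤ M]
    [Module.Finite ℤ M] (P : RootPairing idx ℤ M (Module.Dual ℤ M)) (b : P.Base)
    {S : Scheme.{u}} (G : Over S) [GrpObj G] (j : Red.DS S M ⟶ G) (u : idx → (Red.Ga S ⟶ G))
    {R : Type u} [CommRing R] (s : Spec (CommRingCat.of R) ⟶ S) where
  A : Type u
  [ring : CommRing A]
  [alg : Algebra R A]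
  [grp : PtGrp R A]
  E : PinCell P b R A
  pts : ∀ (B : Type u) [CommRing B] [Algebra R B], Pt R A B ≃* (tB s B ⟶ G)
  pts_nat : ∀ {B C : Type u} [CommRing B] [Algebra R B] [CommRing C] [Algebra R C] (φ : B →ₐ[R] C)
    (g : Pt R A B), tMap s φ ≫ pts B g = pts C (Pt.map φ g)
  pts_i : ∀ (B : Type u) [CommRing B] [Algebra R B] (t : TPt M B),
    pts B (E.i B t) = dsEquiv (tB s B) M (chΓ s t) ≫ j
  pts_uu : ∀ a, ∀ (B : Type u) [CommRing B] [Algebra R B] (x : B),
    pts B (E.uu a B x) = gaPt (tB s B) (fnOf s x) ≫ u a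

attribute [instance] Mdl.ring Mdl.alg Mdl.grp

variable {idx M : Type} [Fintype idx] [AddCommGroup M] [Module.Free ℤ M]
    [Module.Finite ℤ M] {P : RootPairing idx ℤ M (Module.Dual ℤ M)} {b : P.Base}
    {idx' M' : Type} [Fintype idx'] [AddCommGroup M'] [Module.Free ℤ M']
    [Module.Finite ℤ M'] {P' : RootPairing idx' ℤ M' (Module.Dual ℤ M')} {b' : P'.Base}
    {S : Scheme.{u}}

/-- A natural homomorphism on affine points over `s : Spec R ⟶ S`, with prescribed values on the tori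
and the simple root homomorphisms. -/
structure LocHom (τ : Tw P b P' b') (G G' : Over S) [GrpObj G] [GrpObj G'] (j : Red.DS S M ⟶ G)
    (j' : Red.DS S M' ⟶ G') (u : idx → (Red.Ga S ⟶ G)) (u' : idx' → (Red.Ga S ⟶ G'))
    {R : Type u} [CommRing R] (s : Spec (CommRingCat.of R) ⟶ S) where
  f : ∀ (B : CommRingCat.{u}) (ρ : CommRingCat.of R ⟶ B) (σ : Spec B ⟶ S)
    (_ : Spec.map ρ ≫ s = σ), (Over.mk σ ⟶ G) → (Over.mk σ ⟶ G')
  nat : ∀ (B C : CommRingCat.{u}) (ψ : B ⟶ C) (ρ : CommRingCat.of R ⟶ B)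
    (ρ' : CommRingCat.of R ⟶ C) (_ : ρ ≫ ψ = ρ') (σ : Spec B ⟶ S) (κ : Spec C ⟶ S)
    (hσ : Spec.map ρ ≫ s = σ) (hκ : Spec.map ρ' ≫ s = κ) (h : Over.mk κ ⟶ Over.mk σ)
    (_ : h.left = Spec.map ψ) (g : Over.mk σ ⟶ G), f C ρ' κ hκ (h ≫ g) = h ≫ f B ρ σ hσ g
  mul : ∀ (B : CommRingCat.{u}) (ρ : CommRingCat.of R ⟶ B) (σ : Spec B ⟶ S)
    (hσ : Spec.map ρ ≫ s = σ) (g h : Over.mk σ ⟶ G), f B ρ σ hσ (g * h) = f B ρ σ hσ g * f B ρ σ hσ h
  torus : ∀ (B : CommRingCat.{u}) (ρ : CommRingCat.of R ⟶ B) (σ : Spec B ⟶ S)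
    (hσ : Spec.map ρ ≫ s = σ) (x : Over.mk σ ⟶ Red.DS S M),
    f B ρ σ hσ (x ≫ j) = x ≫ Red.DSmap S τ.hM.toAddMonoidHom ≫ j'
  root : ∀ a ∈ b.support, ∀ (B : CommRingCat.{u}) (ρ : CommRingCat.of R ⟶ B) (σ : Spec B ⟶ S)
    (hσ : Spec.map ρ ≫ s = σ) (x y : Over.mk σ ⟶ Red.Ga S), Red.gaFn y = Red.gaFn x ^ τ.q a →
    f B ρ σ hσ (x ≫ u a) = y ≫ u' (τ.d a) ∧
    f B ρ σ hσ (x ≫ u (P.reflectionPerm a a)) = y ≫ u' (P'.reflectionPerm (τ.d a) (τ.d a))

section

variable {τ : Tw P b P' b'} {G G' : Over S} [GrpObj G] [GrpObj G'] {j : Red.DS S M ⟶ G}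
  {j' : Red.DS S M' ⟶ G'}
  {u : idx → (Red.Ga S ⟶ G)} {u' : idx' → (Red.Ga S ⟶ G')}
  {R : Type u} [CommRing R] {s : Spec (CommRingCat.of R) ⟶ S}

/-- restriction of local homomorphisms along a map of affine schemes -/
noncomputable def LocHom.restrict (F : LocHom τ G G' j j' u u' s) {R' : Type u} [CommRing R']
    (χ : CommRingCat.of R ⟶ CommRingCat.of R') {s' : Spec (CommRingCat.of R') ⟶ S}
    (hs : Spec.map χ ≫ s = s') : LocHom τ G G' j j' u u' s' where
  f B ρ σ hσ := F.f B (χ ≫ ρ) σ (by rw [Spec.map_comp, Category.assoc, hs, hσ])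
  nat B C ψ ρ ρ' hρ σ κ hσ hκ h hh g := F.nat B C ψ (χ ≫ ρ) (χ ≫ ρ')
    (by rw [Category.assoc, hρ]) σ κ _ _ h hh g
  mul B ρ σ hσ := F.mul B _ σ _
  torus B ρ σ hσ := F.torus B _ σ _
  root a ha B ρ σ hσ := F.root a ha B _ σ _

/-- restriction of a global homomorphism -/
noncomputable def LocHom.ofHom (s : Spec (CommRingCat.of R) ⟶ S) (f : G ⟶ G') [IsMonHom f]
    (hj : j ≫ f = Red.DSmap S τ.hM.toAddMonoidHom ≫ j')
    (hu : ∀ a ∈ b.support, ∀ (X : Over S) (x y : X ⟶ Red.Ga S), Red.gaFn y = Red.gaFn x ^ τ.q a →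
      (x ≫ u a) ≫ f = y ≫ u' (τ.d a) ∧
      (x ≫ u (P.reflectionPerm a a)) ≫ f = y ≫ u' (P'.reflectionPerm (τ.d a) (τ.d a))) :
    LocHom τ G G' j j' u u' s where
  f B ρ σ hσ g := g ≫ f
  nat B C ψ ρ ρ' hρ σ τ hσ hτ h hh g := Category.assoc _ _ _
  mul B ρ σ hσ g h := MonObj.mul_comp _ _ _
  torus B ρ σ hσ x := by rw [Category.assoc, hj]
  root a ha B ρ σ hσ x y h := hu a ha _ x y h

variable (m : Mdl P b G j u s) (m' : Mdl P' b' G' j' u' s)

variable (τ) in
/-- the conditions on an algebra homomorphism `A' → A` corresponding to a local homomorphism -/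
structure IsGood (φ : m'.A →ₐ[R] m.A) : Prop where
  mul : ∀ (B : Type u) [CommRing B] [Algebra R B] (g h : Pt R m.A B),
    comap φ (g * h) = comap φ g * comap φ h
  torus : ∀ (B : Type u) [CommRing B] [Algebra R B] (t : TPt M B),
    comap φ (m.E.i B t) = m'.E.i B (τ.hT t)
  root : ∀ a ∈ b.support, ∀ (B : Type u) [CommRing B] [Algebra R B] (x : B),
    comap φ (m.E.uu a B x) = m'.E.uu (τ.d a) B (x ^ τ.q a) ∧
    comap φ (m.E.uu (P.reflectionPerm a a) B x) =
      m'.E.uu (P'.reflectionPerm (τ.d a) (τ.d a)) B (x ^ τ.q a)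

variable {m m'}

/-- the algebra homomorphism of a local homomorphism -/
noncomputable def phiOf (m : Mdl P b G j u s) (m' : Mdl P' b' G' j' u' s)
    (F : LocHom τ G G' j j' u u' s) : m'.A →ₐ[R] m.A :=
  ((m'.pts m.A).symm (F.f (CommRingCat.of m.A) (CommRingCat.ofHom (algebraMap R m.A)) _ rfl
    (m.pts m.A (univ R m.A)))).hom

lemma pts_comap_phiOf (F : LocHom τ G G' j j' u u' s) {B : Type u} [CommRing B] [Algebra R B]
    (g : Pt R m.A B) :
    m'.pts B (comap (phiOf m m' F) g) =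
      F.f (CommRingCat.of B) (CommRingCat.ofHom (algebraMap R B)) _ rfl (m.pts B g) := by
  have h1 : comap (phiOf m m' F) g = Pt.map g.hom ((m'.pts m.A).symm
      (F.f (CommRingCat.of m.A) (CommRingCat.ofHom (algebraMap R m.A)) _ rfl
      (m.pts m.A (univ R m.A)))) := rfl
  rw [h1, ← m'.pts_nat, MulEquiv.apply_symm_apply]
  have h2 := F.nat (CommRingCat.of m.A) (CommRingCat.of B) (CommRingCat.ofHom (g.hom : m.A →+* B))
    (CommRingCat.ofHom (algebraMap R m.A)) (CommRingCat.ofHom (algebraMap R B))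
    (by rw [← CommRingCat.ofHom_comp, AlgHom.comp_algebraMap]) _ _ rfl rfl (tMap s g.hom) rfl
    (m.pts m.A (univ R m.A))
  rw [m.pts_nat, map_univ] at h2
  exact h2.symm

lemma ga_pow {B : Type u} [CommRing B] [Algebra R B] (x : B) (n : ℕ) :
    Red.gaFn (gaPt (tB s B) (fnOf s (x ^ n))) = Red.gaFn (gaPt (tB s B) (fnOf s x)) ^ n := by
  rw [gaFn_gaPt, gaFn_gaPt, ← fnHom_apply, ← fnHom_apply, map_pow]

lemma ds_hT {B : Type u} [CommRing B] [Algebra R B] (t : TPt M B) :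
    dsEquiv (tB s B) M' (chΓ s (τ.hT t)) =
      dsEquiv (tB s B) M (chΓ s t) ≫ Red.DSmap S τ.hM.toAddMonoidHom := by
  rw [dsEquiv_DSmap]
  rfl

lemma isGood_phiOf (F : LocHom τ G G' j j' u u' s) : IsGood τ m m' (phiOf m m' F) where
  mul B _ _ g h := by
    apply (m'.pts B).injective
    rw [pts_comap_phiOf, map_mul, F.mul, map_mul, pts_comap_phiOf, pts_comap_phiOf]
  torus B _ _ t := by
    apply (m'.pts B).injective
    rw [pts_comap_phiOf, m.pts_i, m'.pts_i, ds_hT, Category.assoc]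
    exact F.torus _ _ _ _ _
  root a ha B _ _ x := by
    have h := F.root a ha (CommRingCat.of B) (CommRingCat.ofHom (algebraMap R B)) _ rfl
      (gaPt (tB s B) (fnOf s x)) (gaPt (tB s B) (fnOf s (x ^ τ.q a))) (ga_pow x _)
    refine ⟨?_, ?_⟩
    · apply (m'.pts B).injective
      rw [pts_comap_phiOf, m.pts_uu, m'.pts_uu]
      exact h.1
    · apply (m'.pts B).injective
      rw [pts_comap_phiOf, m.pts_uu, m'.pts_uu]
      exact h.2

/-- Two local homomorphisms with the same algebra homomorphism are equal. -/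
lemma f_eq_of_phiOf_eq (m : Mdl P b G j u s) (m' : Mdl P' b' G' j' u' s)
    {F F' : LocHom τ G G' j j' u u' s} (h : phiOf m m' F = phiOf m m' F')
    (B : CommRingCat.{u}) (ρ : CommRingCat.of R ⟶ B) (σ : Spec B ⟶ S)
    (hσ : Spec.map ρ ≫ s = σ) (g : Over.mk σ ⟶ G) : F.f B ρ σ hσ g = F'.f B ρ σ hσ g := by
  subst hσ
  let _ : Algebra R B := ρ.hom.toAlgebra
  obtain ⟨p, hp⟩ := (m.pts B).surjective g
  have h1 := pts_comap_phiOf (m' := m') F p
  have h2 := pts_comap_phiOf (m' := m') F' p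
  rw [h, h2, hp] at h1
  exact h1.symm

/-- the point map of an algebra homomorphism on affine points -/
noncomputable def fOf (m : Mdl P b G j u s) (m' : Mdl P' b' G' j' u' s)
    (φ : m'.A →ₐ[R] m.A) (B : CommRingCat.{u}) (ρ : CommRingCat.of R ⟶ B)
    (σ : Spec B ⟶ S) (hσ : Spec.map ρ ≫ s = σ) (g : Over.mk σ ⟶ G) : Over.mk σ ⟶ G' :=
  letI : Algebra R B := ρ.hom.toAlgebra
  recast hσ (m'.pts B (comap φ ((m.pts B).symm (recast hσ.symm g))))

/-- The local homomorphism of a good algebra homomorphism. -/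
noncomputable def locOf {φ : m'.A →ₐ[R] m.A} (hφ : IsGood τ m m' φ) :
    LocHom τ G G' j j' u u' s where
  f := fOf m m' φ
  nat B C ψ ρ ρ' hρ σ κ hσ hκ h hh g := by
    subst hρ hσ hκ
    let _ : Algebra R B := ρ.hom.toAlgebra
    let _ : Algebra R C := (ρ ≫ ψ).hom.toAlgebra
    let ψ' : B →ₐ[R] C := { ψ.hom with commutes' := fun r => rfl }
    have hh' : h = tMap s ψ' := by
      ext1
      exact hh
    subst hh'
    change m'.pts C (comap φ ((m.pts C).symm (tMap s ψ' ≫ g))) =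
      tMap s ψ' ≫ m'.pts B (comap φ ((m.pts B).symm g))
    rw [m'.pts_nat, map_comap]
    congr 2
    apply (m.pts C).injective
    rw [MulEquiv.apply_symm_apply, ← m.pts_nat, MulEquiv.apply_symm_apply]
  mul B ρ σ hσ g h := by
    subst hσ
    let _ : Algebra R B := ρ.hom.toAlgebra
    change m'.pts B (comap φ ((m.pts B).symm (g * h))) =
      m'.pts B (comap φ ((m.pts B).symm g)) * m'.pts B (comap φ ((m.pts B).symm h))
    rw [map_mul, hφ.mul, map_mul]
  torus B ρ σ hσ x := by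
    subst hσ
    let _ : Algebra R B := ρ.hom.toAlgebra
    change m'.pts B (comap φ ((m.pts B).symm (x ≫ j))) = x ≫ Red.DSmap S τ.hM.toAddMonoidHom ≫ j'
    obtain ⟨t, ht⟩ := exists_chΓ s x
    rw [ht, ← m.pts_i, MulEquiv.symm_apply_apply, hφ.torus, m'.pts_i, ds_hT, Category.assoc]
  root a ha B ρ σ hσ x y hxy := by
    subst hσ
    let _ : Algebra R B := ρ.hom.toAlgebra
    change m'.pts B (comap φ ((m.pts B).symm (x ≫ u a))) = y ≫ u' (τ.d a) ∧
      m'.pts B (comap φ ((m.pts B).symm (x ≫ u (P.reflectionPerm a a)))) =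
        y ≫ u' (P'.reflectionPerm (τ.d a) (τ.d a))
    obtain ⟨z, hz⟩ := exists_gaPt s x
    have hy : y = gaPt (tB s B) (fnOf s (z ^ τ.q a)) := by
      apply gaFn_injective
      rw [ga_pow, ← hz]
      exact hxy
    rw [hz, hy, ← m.pts_uu, MulEquiv.symm_apply_apply, ← m.pts_uu, MulEquiv.symm_apply_apply,
      (hφ.root a ha B z).1, (hφ.root a ha B z).2, m'.pts_uu, m'.pts_uu]
    exact ⟨rfl, rfl⟩

/-- Uniqueness of local homomorphisms. -/
theorem LocHom.eq (m : Mdl P b G j u s) (m' : Mdl P' b' G' j' u' s)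
    (F F' : LocHom τ G G' j j' u u' s) (B : CommRingCat.{u})
    (ρ : CommRingCat.of R ⟶ B) (σ : Spec B ⟶ S)
    (hσ : Spec.map ρ ≫ s = σ) (g : Over.mk σ ⟶ G) : F.f B ρ σ hσ g = F'.f B ρ σ hσ g := by
  apply f_eq_of_phiOf_eq m m'
  have h := isGood_phiOf (m := m) (m' := m') F
  have h' := isGood_phiOf (m := m) (m' := m') F'
  refine algHom_unique h.mul h'.mul m.E ?_ ?_
  · intro a ha B _ _ x
    rw [(h.root a ha B x).1, (h.root a ha B x).2, (h'.root a ha B x).1, (h'.root a ha B x).2]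
    exact ⟨rfl, rfl⟩
  · intro B _ _ t
    rw [h.torus, h'.torus]

/-- Existence of local homomorphisms -/
theorem LocHom.exist (hp : Add R τ.p) (m : Mdl P b G j u s) (m' : Mdl P' b' G' j' u' s) :
    Nonempty (LocHom τ G G' j j' u u' s) := by
  obtain ⟨φ, h1, h2, h3⟩ := exists_algHom τ hp m.E m'.E
  exact ⟨locOf (m := m) (m' := m') ⟨h1, h2, h3⟩⟩

end

section glue

variable {τ : Tw P b P' b'} {G G' : Over S} [GrpObj G] [GrpObj G'] {j : Red.DS S M ⟶ G}
  {j' : Red.DS S M' ⟶ G'}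
  {u : idx → (Red.Ga S ⟶ G)} {u' : idx' → (Red.Ga S ⟶ G')}

/-- **Existence and uniqueness of the global homomorphism.** -/
theorem existsUnique_hom
    (mod : ∀ (R : Type u) [CommRing R] (s : Spec (CommRingCat.of R) ⟶ S),
      Add R τ.p ∧ Nonempty (Mdl P b G j u s) ∧ Nonempty (Mdl P' b' G' j' u' s)) :
    ∃! f : G ⟶ G', IsMonHom f ∧ j ≫ f = Red.DSmap S τ.hM.toAddMonoidHom ≫ j' ∧
      ∀ a ∈ b.support, ∀ (X : Over S) (x y : X ⟶ Red.Ga S), Red.gaFn y = Red.gaFn x ^ τ.q a →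
        (x ≫ u a) ≫ f = y ≫ u' (τ.d a) ∧
        (x ≫ u (P.reflectionPerm a a)) ≫ f = y ≫ u' (P'.reflectionPerm (τ.d a) (τ.d a)) := by
  have hloc : ∀ (R : Type u) [CommRing R] (s : Spec (CommRingCat.of R) ⟶ S),
      Nonempty (LocHom τ G G' j j' u u' s) := by
    intro R _ s
    obtain ⟨hp, ⟨m⟩, ⟨m'⟩⟩ := mod R s
    exact LocHom.exist hp m m'
  have huniq : ∀ (R : Type u) [CommRing R] (s : Spec (CommRingCat.of R) ⟶ S)
      (F F' : LocHom τ G G' j j' u u' s) (B : CommRingCat.{u})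
      (ρ : CommRingCat.of R ⟶ B) (σ : Spec B ⟶ S) (hσ : Spec.map ρ ≫ s = σ) (g : Over.mk σ ⟶ G),
      F.f B ρ σ hσ g = F'.f B ρ σ hσ g := by
    intro R _ s F F'
    obtain ⟨hp, ⟨m⟩, ⟨m'⟩⟩ := mod R s
    exact LocHom.eq m m' F F'
  let L : ∀ (R : CommRingCat.{u}) (s : Spec R ⟶ S),
      LocHom τ G G' j j' u u' (R := R) s := fun R s => (hloc R s).some
  obtain ⟨f, hf, -⟩ := AffYoneda.existsUnique_hom (G := G) (G' := G')
    (fun R s g => (L R s).f R (𝟙 R) s (by rw [Spec.map_id, Category.id_comp]) g) (by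
      intro R R' s s' h g
      obtain ⟨χ, hχ⟩ : ∃ χ : R ⟶ R', Spec.map χ = h.left := ⟨Spec.preimage h.left, Spec.map_preimage _⟩
      have hs : Spec.map χ ≫ s = s' := by
        have := Over.w h
        simp only [Over.mk_hom] at this
        rw [hχ]; exact this
      have h1 := huniq R' s' (L R' s') ((L R s).restrict (R := R) (R' := R') χ hs) R' (𝟙 R') s'
        (by rw [Spec.map_id, Category.id_comp]) (h ≫ g)
      refine h1.trans ?_
      exact (L R s).nat R R' χ (𝟙 R) (χ ≫ 𝟙 R') (by rw [Category.comp_id, Category.id_comp]) s s'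
        _ _ h hχ.symm g)
  refine ⟨f, ⟨?_, ?_, ?_⟩, ?_⟩
  · apply isMonHom_of_affine
    intro R s g g'
    rw [hf, hf, hf]
    exact (L R s).mul _ _ _ _ _ _
  · apply AffYoneda.hom_ext
    intro R s x
    rw [← Category.assoc, hf]
    exact (L R s).torus _ _ _ _ _
  · intro a ha X x y hxy
    have key : ∀ (R : CommRingCat.{u}) (s : Spec R ⟶ S) (t : Over.mk s ⟶ X),
        t ≫ (x ≫ u a) ≫ f = t ≫ y ≫ u' (τ.d a) ∧
        t ≫ (x ≫ u (P.reflectionPerm a a)) ≫ f =
          t ≫ y ≫ u' (P'.reflectionPerm (τ.d a) (τ.d a)) := by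
      intro R s t
      have h1 := (L R s).root a ha R (𝟙 R) s (by rw [Spec.map_id, Category.id_comp]) (t ≫ x) (t ≫ y)
        (by rw [gaFn_comp, gaFn_comp, hxy, map_pow])
      rw [← hf, ← hf] at h1
      simpa only [Category.assoc] using h1
    exact ⟨AffYoneda.hom_ext fun R s t => (key R s t).1, AffYoneda.hom_ext fun R s t => (key R s t).2⟩
  · rintro f' ⟨hf1, hf2, hf3⟩
    apply AffYoneda.hom_ext
    intro R s g
    rw [hf]
    exact huniq R s (LocHom.ofHom s f' hf2 hf3) (L R s) R (𝟙 R) s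
      (by rw [Spec.map_id, Category.id_comp]) g

end glue

section chart

variable {S : Scheme.{u}} {G : Over S} [GrpObj G] (D : Red.Pinning G)

/-- models of pinned groups -/
theorem exists_mdl (R : Type u) [CommRing R] (s : Spec (CommRingCat.of R) ⟶ S)
    (hr : ∀ (c : Chart G s), ∀ a ∈ D.base.support, Rank1 (D := c.datum D.toSplitRed) D.P a) :
    Nonempty (Mdl D.P D.base G (D.split.inv.hom.hom ≫ D.i) D.u s) := by
  obtain ⟨c⟩ := exists_chart' D.toSplitRed R s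
  obtain ⟨E, hEi, hEu⟩ := Rigid.exists_pinCell_chart D c (hr c)
  exact ⟨{ A := c.A
           E := E
           pts := c.pts
           pts_nat := c.pts_nat
           pts_i := fun B _ _ t => by rw [hEi]; exact c.pts_i D.toSplitRed t
           pts_uu := fun a B _ _ x => by rw [hEu]; exact c.pts_uu D.toSplitRed a x }⟩

end chart

end K213.PMor
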