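import Groth.Agent.Sga3B.PinComb829

/-!
# Positive roots of the rank two subsystem spanned by two simple roots
-/

set_option autoImplicit false

namespace K213.Comb

open Groth.Agent.Sga3B

variable {ι M N : Type*} [Finite ι] [AddCommGroup M] [AddCommGroup N] {P : RootPairing ι ℤ M N}
  (Δ : P.Base) {a b : ι} (ha : a ∈ Δ.support) (hb : b ∈ Δ.support) (hab : a ≠ b)

include ha hb hab

/-- coefficients of a root in the span of two simple roots have the same sign -/
theorem sign {d : ι} {i j : ℤ} (h : P.root d = i • P.root a + j • P.root b) :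
    (0 ≤ i ∧ 0 ≤ j) ∨ (i ≤ 0 ∧ j ≤ 0) := by
  classical
  let f : ι → ℤ := Pi.single a i + Pi.single b j
  have hsum : ∑ k ∈ Δ.support, f k • P.root k = P.root d := by
    rw [h]
    simp only [f, Pi.add_apply, add_smul, Finset.sum_add_distrib]
    rw [Finset.sum_eq_single_of_mem a ha (by intro k _ hk; simp [hk]),
      Finset.sum_eq_single_of_mem b hb (by intro k _ hk; simp [hk])]
    simp
  have hsupp : Function.support f ⊆ Δ.support := by
    intro k hk
    by_contra hkb
    apply hk
    have h3 : k ≠ a := fun h => hkb (h ▸ ha)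
    have h4 : k ≠ b := fun h => hkb (h ▸ hb)
    simp [f, h3, h4]
  rcases Δ.pos_or_neg_of_sum_smul_root_mem f ⟨d, hsum.symm⟩ hsupp with h | h
  · left
    have h1 := h.le a
    have h2 := h.le b
    simp [f, hab, hab.symm] at h1 h2
    exact ⟨h1, h2⟩
  · right
    have h1 := h.le a
    have h2 := h.le b
    simp [f, hab, hab.symm] at h1 h2
    exact ⟨h1, h2⟩

/-- linear independence of two simple roots -/
theorem coeff_inj {i j i' j' : ℤ} (h : i • P.root a + j • P.root b = i' • P.root a + j' • P.root b) :
    i = i' ∧ j = j' := by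
  classical
  have key : ∀ (i j : ℤ), ∑ k ∈ Δ.support, (Pi.single a i + Pi.single b j : ι → ℤ) k • P.root k =
      i • P.root a + j • P.root b := by
    intro i j
    simp only [Pi.add_apply, add_smul, Finset.sum_add_distrib]
    rw [Finset.sum_eq_single_of_mem a ha (by intro k _ hk; simp [hk]),
      Finset.sum_eq_single_of_mem b hb (by intro k _ hk; simp [hk])]
    simp
  rw [← key, ← key] at h
  have h1 := PinComb.coeff_unique Δ h ha
  have h2 := PinComb.coeff_unique Δ h hb
  simp [hab, hab.symm] at h1 h2
  exact ⟨h1, h2⟩

omit [Finite ι] ha hb hab in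
theorem refl_left {d : ι} {i j : ℤ} (h : P.root d = i • P.root a + j • P.root b) :
    P.root (P.reflectionPerm a d) = (-i - j * P.pairing b a) • P.root a + j • P.root b := by
  rw [P.root_reflectionPerm, h, map_add, map_smul, map_smul, P.reflection_apply_self,
    P.reflection_apply_root]
  module

omit [Finite ι] ha hb hab in
theorem refl_right {d : ι} {i j : ℤ} (h : P.root d = i • P.root a + j • P.root b) :
    P.root (P.reflectionPerm b d) = i • P.root a + (-j - i * P.pairing a b) • P.root b := by
  rw [P.root_reflectionPerm, h, map_add, map_smul, map_smul, P.reflection_apply_self,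
    P.reflection_apply_root]
  module

omit ha hb hab in
include Δ in
theorem mult_one {c d : ι} {n : ℤ} (hn : 0 < n) (h : P.root d = n • P.root c) : n = 1 := by
  obtain ⟨m, rfl⟩ := Int.eq_ofNat_of_zero_le hn.le
  exact_mod_cast PinComb.eq_one_of_root_eq_nsmul Δ h

/-- type `A₁ × A₁` -/
theorem a1a1_pos (hba : P.pairing b a = 0) {d : ι} {i j : ℤ} (hi : 0 < i) (hj : 0 < j)
    (h : P.root d = i • P.root a + j • P.root b) : False := by
  have h1 := sign Δ ha hb hab (refl_left h)
  rw [hba] at h1
  omega

/-- type `A₂` -/
theorem a2_pos (hba : P.pairing b a = -1) (hab' : P.pairing a b = -1) {d : ι} {i j : ℤ}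
    (hi : 0 < i) (hj : 0 < j) (h : P.root d = i • P.root a + j • P.root b) : i = 1 ∧ j = 1 := by
  have h1 := sign Δ ha hb hab (refl_left h)
  have h2 := sign Δ ha hb hab (refl_right h)
  rw [hba] at h1
  rw [hab'] at h2
  have h3 : i = j := by omega
  subst h3
  have h4 : P.root (P.reflectionPerm a b) = P.root a + P.root b := by
    have := refl_left (P := P) (a := a) (b := b) (d := b) (i := 0) (j := 1) (by module)
    rw [this, hba]; module
  have h5 : P.root d = i • P.root (P.reflectionPerm a b) := by rw [h, h4]; module
  have := mult_one Δ hi h5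
  omega

/-- type `B₂`, `a` short -/
theorem b2_pos (hba : P.pairing b a = -2) (hab' : P.pairing a b = -1) {d : ι} {i j : ℤ}
    (hi : 0 < i) (hj : 0 < j) (h : P.root d = i • P.root a + j • P.root b) :
    (i = 1 ∧ j = 1) ∨ (i = 2 ∧ j = 1) := by
  have h1 := sign Δ ha hb hab (refl_left h)
  have h2 := sign Δ ha hb hab (refl_right h)
  have h3 := sign Δ ha hb hab (refl_right (refl_left h))
  rw [hba] at h1 h3
  rw [hab'] at h2 h3
  have h4 : P.root (P.reflectionPerm b a) = P.root a + P.root b := by
    have := refl_right (P := P) (a := a) (b := b) (d := a) (i := 1) (j := 0) (by module)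
    rw [this, hab']; module
  by_cases h5 : i = 2 * j
  · right
    subst h5
    have h6 : P.root (P.reflectionPerm a d) = j • P.root b := by
      rw [refl_left h, hba]; module
    have := mult_one Δ hj h6
    omega
  · left
    have h6 : i = j := by omega
    subst h6
    have h7 : P.root d = i • P.root (P.reflectionPerm b a) := by rw [h, h4]; module
    have := mult_one Δ hi h7
    omega

/-- type `G₂`, `a` short -/
theorem g2_pos (hba : P.pairing b a = -3) (hab' : P.pairing a b = -1) {d : ι} {i j : ℤ}
    (hi : 0 < i) (hj : 0 < j) (h : P.root d = i • P.root a + j • P.root b) :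
    (i = 1 ∧ j = 1) ∨ (i = 2 ∧ j = 1) ∨ (i = 3 ∧ j = 1) ∨ (i = 3 ∧ j = 2) := by
  -- first step: `(i, j) = (3, 1)` or `i ≤ 2 j`
  have step1 : ∀ (d : ι) (i j : ℤ), 0 < i → 0 < j → P.root d = i • P.root a + j • P.root b →
      j ≤ i ∧ ((i = 3 ∧ j = 1) ∨ i ≤ 2 * j) := by
    intro d i j hi hj h
    have h1 := sign Δ ha hb hab (refl_left h)
    have h2 := sign Δ ha hb hab (refl_right h)
    rw [hba] at h1
    rw [hab'] at h2
    refine ⟨by omega, ?_⟩
    by_cases h5 : i = 3 * j
    · left
      subst h5
      have h6 : P.root (P.reflectionPerm a d) = j • P.root b := by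
        rw [refl_left h, hba]; module
      have := mult_one Δ hj h6
      omega
    · right
      have h3 := sign Δ ha hb hab (refl_right (refl_left h))
      rw [hba, hab'] at h3
      omega
  obtain ⟨h1, h2⟩ := step1 d i j hi hj h
  have hr := refl_right (P := P) h
  rw [hab'] at hr
  have h4 : P.root (P.reflectionPerm b a) = P.root a + P.root b := by
    have := refl_right (P := P) (a := a) (b := b) (d := a) (i := 1) (j := 0) (by module)
    rw [this, hab']; module
  by_cases h5 : i = j
  · left
    subst h5
    have h6 : P.root d = i • P.root (P.reflectionPerm b a) := by rw [h, h4]; module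
    have := mult_one Δ hi h6
    omega
  · obtain ⟨h6, h7⟩ := step1 _ i (-j - i * -1) hi (by omega) hr
    by_cases h8 : i = 2 * j
    · have h9 : P.root (P.reflectionPerm a (P.reflectionPerm b a)) =
          (2 : ℤ) • P.root a + P.root b := by
        have := refl_left (P := P) (a := a) (b := b) (d := P.reflectionPerm b a) (i := 1) (j := 1)
          (by rw [h4]; module)
        rw [this, hba]; module
      have h10 : P.root d = j • P.root (P.reflectionPerm a (P.reflectionPerm b a)) := by
        rw [h, h9, h8]; module
      have := mult_one Δ hj h10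
      omega
    · omega

end K213.Comb
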