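import Groth.Agent.Sga3B.PinF829

/-!
# The commutator formula with explicit lists of roots, uniqueness of coordinates (ring level)
-/

set_option autoImplicit false
universe u

namespace K213.CommR

open Groth.Agent.Sga3B.Cell Groth.Agent.Sga3B.Cell.Datum

variable {R A : Type u} [CommRing R] [CommRing A] [Algebra R A] [PtGrp R A] {D : Datum R A}

section complete

variable (L₀ : List D.idx)

/-- complete a list of roots to a list of all the roots -/
noncomputable def compl : List D.idx := by
  classical exact (Finset.univ.filter (fun a => a ∉ L₀)).toList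

lemma mem_compl {a : D.idx} : a ∈ compl L₀ ↔ a ∉ L₀ := by
  classical
  simp [compl]

lemma mem_append_compl (a : D.idx) : a ∈ L₀ ++ compl L₀ := by
  rw [List.mem_append, mem_compl]; tauto

lemma nodup_append_compl (h : L₀.Nodup) : (L₀ ++ compl L₀).Nodup := by
  classical
  rw [List.nodup_append]
  refine ⟨h, Finset.nodup_toList _, ?_⟩
  intro a ha b hb hab
  subst hab
  exact (mem_compl L₀).mp hb ha

end complete

variable {B : Type u} [CommRing B] [Algebra R B]

lemma cell_append_of_zero (L₀ L₁ : List D.idx) (x : D.idx → B) (h : ∀ a ∈ L₁, x a = 0) :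
    D.cell (L₀ ++ L₁) x 1 = (L₀.map (fun a => D.uu a B (x a))).prod := by
  rw [cell, List.map_append, List.prod_append, prod_uu_eq_one h, map_one, mul_one, mul_one]

/-- **uniqueness of coordinates** of products of root group elements in a half space -/
theorem uniq (hG : D.Good) (lam : D.M →+ ℤ) (L₀ : List D.idx) (hnd : L₀.Nodup)
    (hpos : ∀ c ∈ L₀, 0 < lam (D.root c)) (x y : D.idx → B)
    (h : (L₀.map (fun c => D.uu c B (x c))).prod = (L₀.map (fun c => D.uu c B (y c))).prod) :
    ∀ c ∈ L₀, x c = y c := by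
  classical
  obtain ⟨δ, hδ, hδ0⟩ := hG _ (nodup_append_compl L₀ hnd) (mem_append_compl L₀)
  let tr : (D.idx → B) → D.idx → B := fun x c => if c ∈ L₀ then x c else 0
  have h1 : ∀ x : D.idx → B, D.cell (L₀ ++ compl L₀) (tr x) 1 =
      (L₀.map (fun c => D.uu c B (x c))).prod := by
    intro x
    rw [cell_append_of_zero]
    · congr 1
      apply List.map_congr_left
      intro c hc
      simp [tr, hc]
    · intro c hc
      simp [tr, (mem_compl L₀).mp hc]
  have h2 := h
  rw [← h1, ← h1] at h2
  have hz : ∀ (x : D.idx → B) (a : D.idx), lam (D.root a) ≤ 0 → tr x a = 0 := by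
    intro x a ha
    have : a ∉ L₀ := fun h => absurd (hpos a h) (not_lt.mpr ha)
    simp [tr, this]
  have h3 := (cell_inj (k := fun a => lam (D.root a)) hδ hδ0 (θ := D.cochar lam)
    (fun a => rfl) (hz x) (hz y) h2).1
  intro c hc
  have h4 := congrFun h3 c
  simpa [tr, hc] using h4

/-- **Commutator formula** with an explicit list of roots. -/
theorem comm_formula (hG : D.Good) (a c : D.idx) (lam : D.M →+ ℤ) (ha : 0 < lam (D.root a))
    (hc : 0 < lam (D.root c))
    (hlin : ∀ i j i' j' : ℕ, i • D.root a + j • D.root c = i' • D.root a + j' • D.root c →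
      i = i' ∧ j = j')
    (L₀ : List D.idx) (hnd : L₀.Nodup) (e : D.idx → ℕ × ℕ)
    (he : ∀ d ∈ L₀, (e d).1 • D.root a + (e d).2 • D.root c = D.root d)
    (hall : ∀ (d : D.idx) (i j : ℕ), i ≠ 0 → j ≠ 0 → i • D.root a + j • D.root c = D.root d →
      d ∈ L₀) :
    ∃ C : D.idx → R, ∀ {B : Type u} [CommRing B] [Algebra R B] (x y : B),
      D.uu a B x * D.uu c B y * (D.uu a B x)⁻¹ * (D.uu c B y)⁻¹ =
        (L₀.map (fun d => D.uu d B (algebraMap R B (C d) * x ^ (e d).1 * y ^ (e d).2))).prod := by
  classical
  obtain ⟨δ, hδ, hδ0⟩ := hG _ (nodup_append_compl L₀ hnd) (mem_append_compl L₀)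
  obtain ⟨p, hp, h⟩ := exists_commutator hδ hδ0 a c lam ha hc
  let n : D.idx → (Fin 2 →₀ ℕ) := fun d =>
    Finsupp.single 0 (e d).1 + Finsupp.single 1 (e d).2
  refine ⟨fun d => MvPolynomial.coeff (n d) (p d), ?_⟩
  intro B _ _ x y
  have h1 := h B ![x, y]
  simp only [Matrix.cons_val_zero, Matrix.cons_val_one] at h1
  rw [h1, cell_append_of_zero]
  · congr 1
    apply List.map_congr_left
    intro d hd
    congr 1
    have h2 : p d = MvPolynomial.monomial (n d) (MvPolynomial.coeff (n d) (p d)) := by
      ext m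
      rw [MvPolynomial.coeff_monomial]
      by_cases hm : n d = m
      · rw [if_pos hm, hm]
      · rw [if_neg hm]
        by_contra hne
        apply hm
        obtain ⟨-, -, h3⟩ := hp d m hne
        rw [← he d hd] at h3
        obtain ⟨h4, h5⟩ := hlin _ _ _ _ h3
        ext s
        fin_cases s
        · simp [n, h4]
        · simp [n, h5]
    rw [h2, MvPolynomial.aeval_monomial]
    rw [Finsupp.prod_fintype _ _ (by simp)]
    simp [Fin.prod_univ_two, n, mul_assoc]
  · intro d hd
    have h2 : p d = 0 := by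
      ext m
      rw [MvPolynomial.coeff_zero]
      by_contra hne
      obtain ⟨h3, h4, h5⟩ := hp d m hne
      exact (mem_compl L₀).mp hd (hall d _ _ h3 h4 h5)
    rw [h2, map_zero]

end K213.CommR
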