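import Groth.Agent.Red.K213.PtKit
import Groth.Agent.Red.K213.CommR

/-!
# Commutation of root groups when `a + b` is neither `0` nor a root
-/

set_option autoImplicit false
universe u

open CategoryTheory MonoidalCategory CartesianMonoidalCategory MonObj GrpObj AlgebraicGeometry Limits

namespace K213.CommSplit

section comb

variable {κ M N : Type*} [Finite κ] [AddCommGroup M] [AddCommGroup N] {P : RootPairing κ ℤ M N}

omit [Finite κ] in
lemma pairingIn_eq (i j : κ) : P.pairingIn ℤ i j = P.pairing i j := by
  have := P.algebraMap_pairingIn ℤ i j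
  simpa using this

lemma rsub_mem {i j : κ} (h : 0 < P.pairing i j) (h' : i ≠ j) :
    P.root i - P.root j ∈ Set.range P.root :=
  P.root_sub_root_mem_of_pairingIn_pos (by rwa [pairingIn_eq]) h'

lemma radd_mem {i j : κ} (h : P.pairing i j < 0) (h' : P.root i + P.root j ≠ 0) :
    P.root i + P.root j ∈ Set.range P.root :=
  P.root_add_root_mem_of_pairingIn_neg (by rwa [pairingIn_eq]) (by
    intro h2; apply h'; rw [h2, neg_add_cancel])

omit [Finite κ] in
lemma pairing_comb {a b d c : κ} {i j : ℤ} (h : P.root d = i • P.root a + j • P.root b) :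
    P.pairing d c = i * P.pairing a c + j * P.pairing b c := by
  have h1 := P.root_coroot'_eq_pairing c d
  rw [h, map_add, map_smul, map_smul, P.root_coroot'_eq_pairing, P.root_coroot'_eq_pairing] at h1
  rw [← h1]; simp

variable {a b : κ} (h0 : P.root a + P.root b ≠ 0) (hab : P.root a + P.root b ∉ Set.range P.root)

include h0 hab

lemma pairing_nonneg : 0 ≤ P.pairing a b := by
  by_contra h
  exact hab (radd_mem (not_le.mp h) h0)

lemma pairing_nonneg' : 0 ≤ P.pairing b a := by
  by_contra h
  have := radd_mem (P := P) (not_le.mp h) (by rwa [add_comm])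
  rw [add_comm] at this
  exact hab this

/-- no positive combination of `a` and `b` is a root -/
theorem no_comb (i j : ℕ) (hi : i ≠ 0) (hj : j ≠ 0) :
    ∀ d, P.root d ≠ (i : ℤ) • P.root a + (j : ℤ) • P.root b := by
  have hA := pairing_nonneg h0 hab
  have hB := pairing_nonneg' h0 hab
  induction h : i + j using Nat.strong_induction_on generalizing i j with
  | _ n ih =>
    subst h
    intro d hd
    have h1 : 0 < P.pairing d a := by
      rw [pairing_comb hd, P.pairing_same]
      have : (0 : ℤ) < i := by omega
      nlinarith [mul_nonneg (show (0 : ℤ) ≤ j by omega) hB]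
    have h2 : 0 < P.pairing d b := by
      rw [pairing_comb hd, P.pairing_same]
      have : (0 : ℤ) < j := by omega
      nlinarith [mul_nonneg (show (0 : ℤ) ≤ i by omega) hA]
    rcases Nat.lt_or_ge 1 i with hi2 | hi2
    · have hda : d ≠ a := by
        rintro rfl
        have h3 := pairing_comb (c := b) hd
        rw [P.pairing_same] at h3
        have : (1 : ℤ) < i := by exact_mod_cast hi2
        have : (0 : ℤ) < j := by omega
        nlinarith
      obtain ⟨e, he⟩ := rsub_mem h1 hda
      refine ih (i - 1 + j) (by omega) (i - 1) j (by omega) hj rfl e ?_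
      rw [he, hd]
      push_cast [show 1 ≤ i by omega]
      module
    · rcases Nat.lt_or_ge 1 j with hj2 | hj2
      · have hdb : d ≠ b := by
          rintro rfl
          have h3 := pairing_comb (c := a) hd
          rw [P.pairing_same] at h3
          have : (1 : ℤ) < j := by exact_mod_cast hj2
          have : (0 : ℤ) < i := by omega
          nlinarith
        obtain ⟨e, he⟩ := rsub_mem h2 hdb
        refine ih (i + (j - 1)) (by omega) i (j - 1) hi (by omega) rfl e ?_
        rw [he, hd]
        push_cast [show 1 ≤ j by omega]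
        module
      · have : i = 1 := by omega
        have : j = 1 := by omega
        subst_vars
        apply hab
        exact ⟨d, by rw [hd]; simp⟩

end comb

open Groth.Agent.Sga3B Groth.Agent.Sga3B.Cell Groth.Agent.Sga3B.Cell.Datum K213.RkOneR

section ring

variable {R A : Type u} [CommRing R] [CommRing A] [Algebra R A] [PtGrp R A] {D : Datum R A}
variable (P : RootPairing D.idx ℤ D.M (Module.Dual ℤ D.M)) (hP : ∀ a, P.root a = D.root a)
  (hpe : P.toLinearMap = Module.Dual.eval ℤ D.M) (hG : D.Good)

include hP hpe in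
/-- a functional positive on both roots -/
lemma exists_pos {a b : D.idx} (h0 : P.root a + P.root b ≠ 0)
    (hab : P.root a + P.root b ∉ Set.range P.root) :
    0 < (P.coroot a + P.coroot b : Module.Dual ℤ D.M).toAddMonoidHom (D.root a) ∧
      0 < (P.coroot a + P.coroot b : Module.Dual ℤ D.M).toAddMonoidHom (D.root b) := by
  have h1 := pairing_nonneg h0 hab
  have h2 := pairing_nonneg' h0 hab
  have e : ∀ c, (P.coroot a + P.coroot b : Module.Dual ℤ D.M).toAddMonoidHom (D.root c) =
      P.pairing c a + P.pairing c b := by
    intro c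
    change P.coroot a (D.root c) + P.coroot b (D.root c) = _
    rw [coroot_root' P hP hpe, coroot_root' P hP hpe]
  rw [e, e, P.pairing_same, P.pairing_same]
  omega

include hP hpe hG in
theorem comm_ring {a b : D.idx} (h0 : P.root a + P.root b ≠ 0)
    (hab : P.root a + P.root b ∉ Set.range P.root) {B : Type u} [CommRing B] [Algebra R B]
    (x y : B) : D.uu a B x * D.uu b B y = D.uu b B y * D.uu a B x := by
  obtain ⟨δ, hδ, hδ0⟩ := hG ([] ++ CommR.compl ([] : List D.idx))
    (CommR.nodup_append_compl [] List.nodup_nil) (CommR.mem_append_compl [])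
  obtain ⟨h1, h2⟩ := exists_pos P hP hpe h0 hab
  refine uu_comm hδ hδ0 _ h1 h2 ?_ x y
  intro d i j hi hj h
  apply no_comb h0 hab i j hi hj d
  rw [hP, hP, hP, ← h, natCast_zsmul, natCast_zsmul]

end ring

open Groth.Agent.Sga3B.PinMod K213.PtKit

/-- **Root groups `U_a`, `U_b` commute** if `a + b ≠ 0` is not a root. -/
theorem comm {S : Scheme.{u}} {G : Over S} [GrpObj G] (D : Red.SplitRed G)
    {a b : D.idx} (h0 : D.P.root a + D.P.root b ≠ 0)
    (hab : D.P.root a + D.P.root b ∉ Set.range D.P.root)
    {X : Over S} (x y : X ⟶ Red.Ga S) :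
    (x ≫ D.u a) * (y ≫ D.u b) = (y ≫ D.u b) * (x ≫ D.u a) := by
  apply hom_ext_tB
  intro R _ s g
  obtain ⟨c⟩ := exists_chart' D R s
  have key := comm_ring (D := c.datum D) D.P (fun _ => rfl) D.pairing_eq (PinModelOf.good D c) h0 hab
    (gaR s (g ≫ x)) (gaR s (g ≫ y))
  simp only [MonObj.comp_mul, pt_u' D c g, ← map_mul]
  rw [key]

end K213.CommSplit
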