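import Mathlib.Tactic.Group
import Mathlib.Tactic.Ring
import Mathlib.Tactic.LinearCombination
import Mathlib.Algebra.Group.Conj

/-!
# Structure constants in type `A₂` (abstract group computation)
-/

set_option autoImplicit false
set_option linter.unusedSimpArgs false

namespace K213.Const

universe v w

variable {Γ : Type v} [Group Γ] {R : Type w} [CommRing R]

lemma tail {p q r : Γ} (h : p * q = r) (z : Γ) : p * (q * z) = r * z := by rw [← mul_assoc, h]

lemma massoc (p q r : Γ) : p * q * r = p * (q * r) := mul_assoc p q r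

lemma zero_of_add {f : R → Γ} (hf : ∀ x y, f (x + y) = f x * f y) : f 0 = 1 := by
  have h := hf 0 0
  rw [add_zero] at h
  exact (mul_eq_left.mp h.symm)

lemma inv_of_add {f : R → Γ} (hf : ∀ x y, f (x + y) = f x * f y) (x : R) : (f x)⁻¹ = f (-x) := by
  rw [inv_eq_iff_mul_eq_one, ← hf, add_neg_cancel, zero_of_add hf]

/-- conjugate of a product relation -/
lemma conj_mul (n p q : Γ) : n * (p * q) * n⁻¹ = (n * p * n⁻¹) * (n * q * n⁻¹) := by group

/-- reversing a swap rule -/
lemma swap_rev {p q c : Γ} (h : p * q = q * (p * c)) : q * p = p * (q * c⁻¹) := by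
  have : q * p = p * q * c⁻¹ := by rw [h]; group
  rw [this, mul_assoc]

/-- conjugation by `n = e g e` where `e` commutes with `r` -/
lemma start {n e g p r : Γ} (hn : n = e * g * e) (hp : n * p * n⁻¹ = r) (hr : r * e = e * r) :
    g * (e * p) = r * (g * e) := by
  have h1 : n * p = r * n := by rw [← hp]; group
  rw [hn] at h1
  have h2 : e * (g * (e * p)) = e * (r * (g * e)) := by
    calc e * (g * (e * p)) = e * g * e * p := by group
      _ = r * (e * g * e) := h1
      _ = (r * e) * (g * e) := by group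
      _ = _ := by rw [hr]; group
  exact mul_left_cancel h2

lemma strip2 {p q r z : Γ} (h : p * (q * z) = r * z) : p * q = r :=
  mul_right_cancel (b := z) (by rw [mul_assoc]; exact h)

/-- Type `A₂`: `f_c = Int(n_b) f_a`. -/
theorem a2_consts (fa fb fc ga gb : R → Γ)
    (afa : ∀ x y, fa (x + y) = fa x * fa y) (afb : ∀ x y, fb (x + y) = fb x * fb y)
    (afc : ∀ x y, fc (x + y) = fc x * fc y) (C r r' : R)
    (hba : ∀ x y, fb y * fa x = fa x * (fb y * fc (C * x * y)))
    (hca : ∀ x y, fc y * fa x = fa x * fc y)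
    (hcb : ∀ x y, fc y * fb x = fb x * fc y)
    (na nb : Γ) (hna : na = fa 1 * ga (-1) * fa 1) (hnb : nb = fb 1 * gb (-1) * fb 1)
    (nb_fa : ∀ x, nb * fa x * nb⁻¹ = fc x) (nb_fb : ∀ x, nb * fb x * nb⁻¹ = gb (-x))
    (nb_fc : ∀ x, nb * fc x * nb⁻¹ = fa (-x)) (gb_fa : ∀ x y, gb y * fa x = fa x * gb y)
    (na_fa : ∀ x, na * fa x * na⁻¹ = ga (-x)) (na_fb : ∀ x, na * fb x * na⁻¹ = fc (r * x))
    (na_fc : ∀ x, na * fc x * na⁻¹ = fb (r' * x)) (hrr : r * r' = -1)
    (ga_fb : ∀ x y, ga y * fb x = fb x * ga y)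
    (uniq : ∀ x₁ x₂ x₃ y₁ y₂ y₃, fa x₁ * (fb x₂ * fc x₃) = fa y₁ * (fb y₂ * fc y₃) →
      x₁ = y₁ ∧ x₂ = y₂ ∧ x₃ = y₃) : C = 1 ∧ r = -1 ∧ r' = 1 := by
  have z_a : fa 0 = 1 := zero_of_add afa
  have z_b : fb 0 = 1 := zero_of_add afb
  have z_c : fc 0 = 1 := zero_of_add afc
  have mfa : ∀ x y, fa x * fa y = fa (x + y) := fun x y => (afa x y).symm
  have mfb : ∀ x y, fb x * fb y = fb (x + y) := fun x y => (afb x y).symm
  have mfc : ∀ x y, fc x * fc y = fc (x + y) := fun x y => (afc x y).symm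
  have hbc : ∀ x y, fb y * fc x = fc x * fb y := fun x y => (hcb y x).symm
  have hac : ∀ x y, fa y * fc x = fc x * fa y := fun x y => (hca y x).symm
  have uac : ∀ x z w, fa x * fc z = fc w → z = w := by
    intro x z w h
    exact (uniq x 0 z 0 0 w (by rw [z_a, z_b, one_mul, one_mul, one_mul]; exact h)).2.2
  have ubc : ∀ x z w, fb x * fc z = fc w → z = w := by
    intro x z w h
    exact (uniq 0 x z 0 0 w (by rw [z_a, z_b, one_mul, one_mul, one_mul]; exact h)).2.2
  have hC : C = 1 := by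
    have h1 : ∀ x y, gb y * fc x = fc x * (gb y * fa (C * x * y)) := by
      intro x y
      have h := congrArg (fun g => nb * g * nb⁻¹) (hba x (-y))
      simp only [conj_mul, nb_fb, nb_fa, nb_fc, neg_neg, mul_neg] at h
      exact h
    have h2 := start hnb (nb_fa 1) (hcb 1 1)
    simp only [massoc, hba, tail (hba _ _), hbc, tail (hbc _ _), gb_fa, tail (gb_fa _ _),
      h1, tail (h1 _ _), hca, tail (hca _ _), mfa, tail (mfa _ _), mfc, tail (mfc _ _)] at h2
    have h4 := uac _ _ _ (strip2 h2)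
    linear_combination h4
  subst hC
  have hab : ∀ x y, fa x * fb y = fb y * (fa x * fc (-(x * y))) := by
    intro x y
    have h := swap_rev (hba x y)
    rw [inv_of_add afc, one_mul] at h
    exact h
  have h1 : ∀ x z, ga x * fc z = fc z * (ga x * fb (-(r' * r' * (x * z)))) := by
    intro x z
    have h := congrArg (fun g => na * g * na⁻¹) (hab (-x) (-(r' * z)))
    simp only [conj_mul, na_fb, na_fa, na_fc, neg_neg] at h
    have e1 : r * -(r' * z) = z := by linear_combination (-z) * hrr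
    have e2 : r' * -(-x * -(r' * z)) = -(r' * r' * (x * z)) := by ring
    rw [e1, e2] at h
    exact h
  have h2 := start hna (na_fb 1) (hca _ _)
  simp only [massoc, hab, tail (hab _ _), hac, tail (hac _ _), ga_fb, tail (ga_fb _ _),
    h1, tail (h1 _ _), hcb, tail (hcb _ _), mfb, tail (mfb _ _), mfc, tail (mfc _ _)] at h2
  have h4 := ubc _ _ _ (strip2 h2)
  have h5 : r = -1 := by linear_combination -h4
  refine ⟨rfl, h5, ?_⟩
  rw [h5] at hrr
  linear_combination -hrr

end K213.Const
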