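import Groth.Agent.Red.K213.ConstA

/-!
# Structure constants in type `B₂` (abstract group computation)
-/

set_option autoImplicit false
set_option linter.unusedSimpArgs false

namespace K213.Const

universe v w

variable {Γ : Type v} [Group Γ] {R : Type w} [CommRing R]

lemma strip3 {p q r s z : Γ} (h : p * (q * (r * z)) = s * z) : p * (q * r) = s :=
  mul_right_cancel (b := z) (by rw [mul_assoc, mul_assoc]; exact h)

/-- Type `B₂` (`a` short): `f_c = Int(n_b) f_a`, `f_d = Int(n_a) f_b`, `c = a + b`, `d = 2a + b`. -/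
theorem b2_consts (fa fb fc fd ga gb : R → Γ)
    (afa : ∀ x y, fa (x + y) = fa x * fa y) (afb : ∀ x y, fb (x + y) = fb x * fb y)
    (afc : ∀ x y, fc (x + y) = fc x * fc y) (afd : ∀ x y, fd (x + y) = fd x * fd y)
    (A B E r : R)
    (hba : ∀ x y, fb y * fa x = fa x * (fb y * (fc (A * x * y) * fd (B * x ^ 2 * y))))
    (hca : ∀ x y, fc y * fa x = fa x * (fc y * fd (E * x * y)))
    (hda : ∀ x y, fd y * fa x = fa x * fd y)
    (hcb : ∀ x y, fc y * fb x = fb x * fc y)
    (hdb : ∀ x y, fd y * fb x = fb x * fd y)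
    (hdc : ∀ x y, fd y * fc x = fc x * fd y)
    (na nb : Γ) (hna : na = fa 1 * ga (-1) * fa 1) (hnb : nb = fb 1 * gb (-1) * fb 1)
    (nb_fa : ∀ x, nb * fa x * nb⁻¹ = fc x) (nb_fb : ∀ x, nb * fb x * nb⁻¹ = gb (-x))
    (nb_fc : ∀ x, nb * fc x * nb⁻¹ = fa (-x)) (nb_fd : ∀ x, nb * fd x * nb⁻¹ = fd x)
    (gb_fa : ∀ x y, gb y * fa x = fa x * gb y) (gb_fd : ∀ x y, gb y * fd x = fd x * gb y)
    (na_fa : ∀ x, na * fa x * na⁻¹ = ga (-x)) (na_fb : ∀ x, na * fb x * na⁻¹ = fd x)
    (na_fc : ∀ x, na * fc x * na⁻¹ = fc (r * x)) (na_fd : ∀ x, na * fd x * na⁻¹ = fb x)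
    (hrr : r * r = 1) (ga_fb : ∀ x y, ga y * fb x = fb x * ga y)
    (uniq : ∀ x₁ x₂ x₃ x₄ y₁ y₂ y₃ y₄,
      fa x₁ * (fb x₂ * (fc x₃ * fd x₄)) = fa y₁ * (fb y₂ * (fc y₃ * fd y₄)) →
      x₁ = y₁ ∧ x₂ = y₂ ∧ x₃ = y₃ ∧ x₄ = y₄) : A = 1 ∧ B = 1 ∧ E = 2 ∧ r = -1 := by
  have z_a : fa 0 = 1 := zero_of_add afa
  have z_b : fb 0 = 1 := zero_of_add afb
  have z_c : fc 0 = 1 := zero_of_add afc
  have z_d : fd 0 = 1 := zero_of_add afd
  have mfa : ∀ x y, fa x * fa y = fa (x + y) := fun x y => (afa x y).symm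
  have mfb : ∀ x y, fb x * fb y = fb (x + y) := fun x y => (afb x y).symm
  have mfc : ∀ x y, fc x * fc y = fc (x + y) := fun x y => (afc x y).symm
  have mfd : ∀ x y, fd x * fd y = fd (x + y) := fun x y => (afd x y).symm
  have hbc : ∀ x y, fb y * fc x = fc x * fb y := fun x y => (hcb y x).symm
  have hbd : ∀ x y, fb y * fd x = fd x * fb y := fun x y => (hdb y x).symm
  have had : ∀ x y, fa y * fd x = fd x * fa y := fun x y => (hda y x).symm
  have uac : ∀ x y z w, fa x * (fc y * fd z) = fc w → x = 0 ∧ y = w ∧ z = 0 := by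
    intro x y z w h
    have h1 := uniq x 0 y z 0 0 w 0 (by
      rw [z_a, z_b, z_d, one_mul, one_mul, one_mul, mul_one]; exact h)
    exact ⟨h1.1, h1.2.2⟩
  have ubc : ∀ x y z w, fb x * (fc y * fd z) = fd w → x = 0 ∧ y = 0 ∧ z = w := by
    intro x y z w h
    have h1 := uniq 0 x y z 0 0 0 w (by
      rw [z_a, z_b, z_c, one_mul, one_mul, one_mul, one_mul]; exact h)
    exact h1.2
  -- conjugation by `n_b`
  obtain ⟨hA, hE⟩ : A = 1 ∧ E = 2 * B := by
    have h1 : ∀ x y, gb y * fc x = fc x * (gb y * (fa (A * x * y) * fd (-(B * x ^ 2 * y)))) := by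
      intro x y
      have h := congrArg (fun g => nb * g * nb⁻¹) (hba x (-y))
      simp only [conj_mul, nb_fb, nb_fa, nb_fc, nb_fd, neg_neg, mul_neg] at h
      exact h
    have h2 := start hnb (nb_fa 1) (hcb 1 1)
    simp only [massoc, hba, tail (hba _ _), hbc, tail (hbc _ _), hbd, tail (hbd _ _),
      gb_fa, tail (gb_fa _ _), gb_fd, tail (gb_fd _ _), h1, tail (h1 _ _),
      hca, tail (hca _ _), hda, tail (hda _ _), hdc, tail (hdc _ _),
      mfa, tail (mfa _ _), mfc, tail (mfc _ _), mfd, tail (mfd _ _)] at h2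
    obtain ⟨h3, h4, h5⟩ := uac _ _ _ _ (strip3 h2)
    have hA : A = 1 := by linear_combination h4
    subst hA
    exact ⟨rfl, by linear_combination -h5⟩
  subst hA
  subst hE
  -- conjugation by `n_a`
  have hac : ∀ x y, fa x * fc y = fc y * (fa x * fd (-(2 * B * x * y))) := by
    intro x y
    have h := swap_rev (hca x y)
    rw [inv_of_add afd] at h
    exact h
  have hab : ∀ x y, fa x * fb y = fb y * (fa x * (fd (-(B * x ^ 2 * y)) * fc (-(1 * x * y)))) := by
    intro x y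
    have h := swap_rev (hba x y)
    rw [mul_inv_rev, inv_of_add afc, inv_of_add afd] at h
    exact h
  have h1 : ∀ x y, ga x * fd y = fd y * (ga x * (fb (-(B * x ^ 2 * y)) * fc (r * (x * y)))) := by
    intro x y
    have h := congrArg (fun g => na * g * na⁻¹) (hab (-x) y)
    simp only [conj_mul, na_fb, na_fa, na_fc, na_fd, neg_neg] at h
    convert h using 5 <;> ring
  have h2 : ∀ x z, ga x * fc z = fc z * (ga x * fb (2 * B * x * (r * z))) := by
    intro x z
    have h := congrArg (fun g => na * g * na⁻¹) (hac (-x) (r * z))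
    simp only [conj_mul, na_fb, na_fa, na_fc, na_fd, neg_neg] at h
    have e1 : r * (r * z) = z := by linear_combination z * hrr
    rw [e1] at h
    convert h using 4
    ring
  have h3 := start hna (na_fb 1) (hda _ _)
  simp only [massoc, hab, tail (hab _ _), hac, tail (hac _ _), had, tail (had _ _),
    ga_fb, tail (ga_fb _ _), h1, tail (h1 _ _), h2, tail (h2 _ _), 
    hcb, tail (hcb _ _), hdb, tail (hdb _ _), hdc, tail (hdc _ _),
    mfb, tail (mfb _ _), mfc, tail (mfc _ _), mfd, tail (mfd _ _)] at h3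
  obtain ⟨h4, h5, h6⟩ := ubc _ _ _ _ (strip3 h3)
  have hB : B = 1 := by linear_combination h6
  subst hB
  exact ⟨rfl, rfl, by ring, by linear_combination -h5⟩

end K213.Const
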