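import Groth.Agent.Red.K213.ConstB

/-!
# Structure constants in type `G₂` (abstract group computation)
-/

set_option autoImplicit false
set_option linter.unusedSimpArgs false

namespace K213.Const

universe v w

variable {Γ : Type v} [Group Γ] {R : Type w} [CommRing R]

lemma strip5 {p q r s t u z : Γ} (h : p * (q * (r * (s * (t * z)))) = u * z) :
    p * (q * (r * (s * t))) = u :=
  mul_right_cancel (b := z) (by rw [mul_assoc, mul_assoc, mul_assoc, mul_assoc]; exact h)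

/-- Type `G₂` (`a` short): `f_c = Int(n_b) f_a`, `f_d = Int(n_a) f_c`, `f_e(x) = Int(n_a) f_b(-x)`,
`f_f = Int(n_b) f_e`; `c = a + b`, `d = 2a + b`, `e = 3a + b`, `f = 3a + 2b`. -/
theorem g2_consts (fa fb fc fd fe ff ga gb : R → Γ)
    (afa : ∀ x y, fa (x + y) = fa x * fa y) (afb : ∀ x y, fb (x + y) = fb x * fb y)
    (afc : ∀ x y, fc (x + y) = fc x * fc y) (afd : ∀ x y, fd (x + y) = fd x * fd y)
    (afe : ∀ x y, fe (x + y) = fe x * fe y) (aff : ∀ x y, ff (x + y) = ff x * ff y)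
    (A B C D E F G H I J : R)
    (hba : ∀ x y, fb y * fa x = fa x * (fb y * (fc (A * x * y) * (fd (B * x ^ 2 * y) *
      (fe (C * x ^ 3 * y) * ff (D * x ^ 3 * y ^ 2))))))
    (hca : ∀ x y, fc y * fa x = fa x * (fc y * (fd (E * x * y) *
      (fe (F * x ^ 2 * y) * ff (G * x * y ^ 2)))))
    (hda : ∀ x y, fd y * fa x = fa x * (fd y * fe (H * x * y)))
    (hea : ∀ x y, fe y * fa x = fa x * fe y)
    (hfa : ∀ x y, ff y * fa x = fa x * ff y)
    (hcb : ∀ x y, fc y * fb x = fb x * fc y)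
    (hdb : ∀ x y, fd y * fb x = fb x * fd y)
    (heb : ∀ x y, fe y * fb x = fb x * (fe y * ff (I * x * y)))
    (hfb : ∀ x y, ff y * fb x = fb x * ff y)
    (hdc : ∀ x y, fd y * fc x = fc x * (fd y * ff (J * x * y)))
    (hec : ∀ x y, fe y * fc x = fc x * fe y)
    (hfc : ∀ x y, ff y * fc x = fc x * ff y)
    (hed : ∀ x y, fe y * fd x = fd x * fe y)
    (hfd : ∀ x y, ff y * fd x = fd x * ff y)
    (hfe : ∀ x y, ff y * fe x = fe x * ff y)
    (na nb : Γ) (hna : na = fa 1 * ga (-1) * fa 1) (hnb : nb = fb 1 * gb (-1) * fb 1)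
    (nb_fa : ∀ x, nb * fa x * nb⁻¹ = fc x) (nb_fb : ∀ x, nb * fb x * nb⁻¹ = gb (-x))
    (nb_fc : ∀ x, nb * fc x * nb⁻¹ = fa (-x)) (nb_fd : ∀ x, nb * fd x * nb⁻¹ = fd x)
    (nb_fe : ∀ x, nb * fe x * nb⁻¹ = ff x) (nb_ff : ∀ x, nb * ff x * nb⁻¹ = fe (-x))
    (gb_fa : ∀ x y, gb y * fa x = fa x * gb y) (gb_fd : ∀ x y, gb y * fd x = fd x * gb y)
    (gb_fe : ∀ x y, gb y * fe x = fe x * gb y)
    (na_fa : ∀ x, na * fa x * na⁻¹ = ga (-x)) (na_fb : ∀ x, na * fb x * na⁻¹ = fe (-x))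
    (na_fc : ∀ x, na * fc x * na⁻¹ = fd x) (na_fd : ∀ x, na * fd x * na⁻¹ = fc (-x))
    (na_fe : ∀ x, na * fe x * na⁻¹ = fb x) (na_ff : ∀ x, na * ff x * na⁻¹ = ff x)
    (ga_fb : ∀ x y, ga y * fb x = fb x * ga y) (ga_ff : ∀ x y, ga y * ff x = ff x * ga y)
    (uniq : ∀ x₁ x₂ x₃ x₄ x₅ x₆ y₁ y₂ y₃ y₄ y₅ y₆,
      fa x₁ * (fb x₂ * (fc x₃ * (fd x₄ * (fe x₅ * ff x₆)))) =
        fa y₁ * (fb y₂ * (fc y₃ * (fd y₄ * (fe y₅ * ff y₆)))) →
      x₁ = y₁ ∧ x₂ = y₂ ∧ x₃ = y₃ ∧ x₄ = y₄ ∧ x₅ = y₅ ∧ x₆ = y₆) :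
    (A = 1 ∧ B = 1 ∧ C = 1 ∧ D = 1) ∧ (E = 2 ∧ F = 3 ∧ G = 3) ∧ H = 3 ∧ I = -1 ∧ J = 3 := by
  have z_a : fa 0 = 1 := zero_of_add afa
  have z_b : fb 0 = 1 := zero_of_add afb
  have z_c : fc 0 = 1 := zero_of_add afc
  have z_d : fd 0 = 1 := zero_of_add afd
  have z_e : fe 0 = 1 := zero_of_add afe
  have z_f : ff 0 = 1 := zero_of_add aff
  have mfa : ∀ x y, fa x * fa y = fa (x + y) := fun x y => (afa x y).symm
  have mfb : ∀ x y, fb x * fb y = fb (x + y) := fun x y => (afb x y).symm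
  have mfc : ∀ x y, fc x * fc y = fc (x + y) := fun x y => (afc x y).symm
  have mfd : ∀ x y, fd x * fd y = fd (x + y) := fun x y => (afd x y).symm
  have mfe : ∀ x y, fe x * fe y = fe (x + y) := fun x y => (afe x y).symm
  have mff : ∀ x y, ff x * ff y = ff (x + y) := fun x y => (aff x y).symm
  have hbc : ∀ x y, fb y * fc x = fc x * fb y := fun x y => (hcb y x).symm
  have hbd : ∀ x y, fb y * fd x = fd x * fb y := fun x y => (hdb y x).symm
  have hbf : ∀ x y, fb y * ff x = ff x * fb y := fun x y => (hfb y x).symm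
  have hae : ∀ x y, fa y * fe x = fe x * fa y := fun x y => (hea y x).symm
  have haf : ∀ x y, fa y * ff x = ff x * fa y := fun x y => (hfa y x).symm
  have hbe : ∀ x y, fb x * fe y = fe y * (fb x * ff (-(I * x * y))) := by
    intro x y
    have h := swap_rev (heb x y)
    rw [inv_of_add aff] at h
    exact h
  have uff : ∀ x w, ff x = ff w → x = w := by
    intro x w h
    have h1 := uniq 0 0 0 0 0 x 0 0 0 0 0 w (by rw [h])
    exact h1.2.2.2.2.2
  have uef : ∀ x y w, fe x * ff y = ff w → y = w := by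
    intro x y w h
    have h1 := uniq 0 0 0 0 x y 0 0 0 0 0 w (by rw [h, z_e, one_mul])
    exact h1.2.2.2.2.2
  -- `J = H`
  have hJ : J = H := by
    have h := congrArg (fun g => nb * g * nb⁻¹) (hda 1 1)
    simp only [conj_mul, nb_fd, nb_fa, nb_fe] at h
    rw [hdc] at h
    have h1 := mul_left_cancel (mul_left_cancel h)
    linear_combination uff _ _ h1
  subst hJ
  -- the rules for `g_b`
  have hgf : ∀ x y, gb x * ff y = ff y * (gb x * fe (-(I * x * y))) := by
    intro x y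
    have h := congrArg (fun g => nb * g * nb⁻¹) (hbe (-x) y)
    simp only [conj_mul, nb_fb, nb_fe, nb_ff, neg_neg] at h
    convert h using 4
    ring
  have hgc : ∀ x y, gb y * fc x = fc x * (gb y * (fa (A * x * y) * (fd (-(B * x ^ 2 * y)) *
      (ff (-(C * x ^ 3 * y)) * fe (-(D * x ^ 3 * y ^ 2)))))) := by
    intro x y
    have h := congrArg (fun g => nb * g * nb⁻¹) (hba x (-y))
    simp only [conj_mul, nb_fb, nb_fa, nb_fc, nb_fd, nb_fe, nb_ff, neg_neg] at h
    convert h using 7 <;> ring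
  have hI : I = -1 := by
    have h1 := start hnb (nb_fe 1) (hfb _ _)
    simp only [massoc, hbe, tail (hbe _ _), hbf, tail (hbf _ _), gb_fe, tail (gb_fe _ _),
      hgf, tail (hgf _ _), hfe, tail (hfe _ _), mfe, tail (mfe _ _), mff, tail (mff _ _)] at h1
    linear_combination -uef _ _ _ (strip2 h1)
  subst hI
  have uac : ∀ x y z u v w, fa x * (fc y * (fd z * (fe u * ff v))) = fc w →
      x = 0 ∧ y = w ∧ z = 0 ∧ u = 0 ∧ v = 0 := by
    intro x y z u v w h
    have h1 := uniq x 0 y z u v 0 0 w 0 0 0 (by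
      rw [z_a, z_b, z_d, z_e, z_f, one_mul, one_mul, one_mul, mul_one, mul_one, mul_one]; exact h)
    exact ⟨h1.1, h1.2.2⟩
  have ubc : ∀ x y z u v w, fb x * (fc y * (fd z * (fe u * ff v))) = fe w →
      x = 0 ∧ y = 0 ∧ z = 0 ∧ u = w ∧ v = 0 := by
    intro x y z u v w h
    have h1 := uniq 0 x y z u v 0 0 0 0 w 0 (by
      rw [z_a, z_b, z_c, z_d, z_f, one_mul, one_mul, one_mul, one_mul, one_mul, mul_one]; exact h)
    exact h1.2
  -- conjugation by `n_b`
  have h2 := start hnb (nb_fa 1) (hcb 1 1)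
  simp only [massoc, hba, tail (hba _ _), hbc, tail (hbc _ _), hbd, tail (hbd _ _),
      hbe, tail (hbe _ _), hbf, tail (hbf _ _),
      gb_fa, tail (gb_fa _ _), gb_fd, tail (gb_fd _ _), gb_fe, tail (gb_fe _ _),
      hgc, tail (hgc _ _), hgf, tail (hgf _ _),
      hca, tail (hca _ _), hda, tail (hda _ _), hea, tail (hea _ _), hfa, tail (hfa _ _),
      hdc, tail (hdc _ _), hec, tail (hec _ _), hfc, tail (hfc _ _),
      hed, tail (hed _ _), hfd, tail (hfd _ _), hfe, tail (hfe _ _),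
      mfa, tail (mfa _ _), mfc, tail (mfc _ _), mfd, tail (mfd _ _), mfe, tail (mfe _ _),
      mff, tail (mff _ _)] at h2
  obtain ⟨h3, h4, h5, h6, h7⟩ := uac _ _ _ _ _ _ (strip5 h2)
  have hA : A = 1 := by linear_combination h4
  subst hA
  have hE : E = 2 * B := by linear_combination -h5
  have hF : F = C + 2 * D := by linear_combination h6
  have hG : G = 2 * C + D := by linear_combination -h7
  clear h2 h3 h4 h5 h6 h7
  -- conjugation by `n_a`
  have had : ∀ x y, fa x * fd y = fd y * (fa x * fe (-(J * x * y))) := by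
    intro x y
    have h := swap_rev (hda x y)
    rw [inv_of_add afe] at h
    exact h
  have hac : ∀ x y, fa x * fc y = fc y * (fa x * (ff (-(G * x * y ^ 2)) *
      (fe (-(F * x ^ 2 * y)) * fd (-(E * x * y))))) := by
    intro x y
    have h := swap_rev (hca x y)
    rw [mul_inv_rev, mul_inv_rev, inv_of_add afd, inv_of_add afe, inv_of_add aff] at h
    simp only [massoc] at h
    exact h
  have hab : ∀ x y, fa x * fb y = fb y * (fa x * (ff (-(D * x ^ 3 * y ^ 2)) *
      (fe (-(C * x ^ 3 * y)) * (fd (-(B * x ^ 2 * y)) * fc (-(1 * x * y)))))) := by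
    intro x y
    have h := swap_rev (hba x y)
    rw [mul_inv_rev, mul_inv_rev, mul_inv_rev, inv_of_add afc, inv_of_add afd, inv_of_add afe,
      inv_of_add aff] at h
    simp only [massoc] at h
    exact h
  have hgc' : ∀ x y, ga x * fc y = fc y * (ga x * fb (-(J * x * y))) := by
    intro x y
    have h := congrArg (fun g => na * g * na⁻¹) (had (-x) (-y))
    simp only [conj_mul, na_fd, na_fa, na_fe, neg_neg] at h
    convert h using 5
    ring
  have hgd : ∀ x y, ga x * fd y = fd y * (ga x * (ff (G * x * y ^ 2) *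
      (fb (-(F * x ^ 2 * y)) * fc (-(E * x * y))))) := by
    intro x y
    have h := congrArg (fun g => na * g * na⁻¹) (hac (-x) y)
    simp only [conj_mul, na_fd, na_fa, na_fe, na_fc, na_ff, neg_neg] at h
    convert h using 6 <;> ring
  have hge : ∀ x y, ga x * fe y = fe y * (ga x * (ff (D * x ^ 3 * y ^ 2) *
      (fb (-(C * x ^ 3 * y)) * (fc (-(B * x ^ 2 * y)) * fd (-(x * y)))))) := by
    intro x y
    have h := congrArg (fun g => na * g * na⁻¹) (hab (-x) (-y))
    simp only [conj_mul, na_fb, na_fd, na_fa, na_fe, na_fc, na_ff, neg_neg] at h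
    convert h using 7 <;> ring
  have h1 := start hna (na_fb 1) (hea _ _)
  simp only [massoc, hab, tail (hab _ _), hac, tail (hac _ _), had, tail (had _ _),
      hae, tail (hae _ _), haf, tail (haf _ _),
      ga_fb, tail (ga_fb _ _), ga_ff, tail (ga_ff _ _), hgc', tail (hgc' _ _),
      hgd, tail (hgd _ _), hge, tail (hge _ _),
      hcb, tail (hcb _ _), hdb, tail (hdb _ _), heb, tail (heb _ _), hfb, tail (hfb _ _),
      hdc, tail (hdc _ _), hec, tail (hec _ _), hfc, tail (hfc _ _),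
      hed, tail (hed _ _), hfd, tail (hfd _ _), hfe, tail (hfe _ _),
      mfb, tail (mfb _ _), mfc, tail (mfc _ _), mfd, tail (mfd _ _), mfe, tail (mfe _ _),
      mff, tail (mff _ _)] at h1
  obtain ⟨h3, h4, h5, h6, h7⟩ := ubc _ _ _ _ _ _ (strip5 h1)
  subst hE hF hG
  clear h1
  have hB : B = 1 := by linear_combination h5 - h6
  subst hB
  have hJ : J = 1 + 2 * D := by linear_combination -h5
  subst hJ
  have hC : C = 1 := by linear_combination -h3
  subst hC
  clear h3 h4 h5 h6 h7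
  -- additivity
  have h1 : (fb 1 * fa 1) * fa 1 = fb 1 * fa 2 := by rw [mul_assoc, ← afa]; norm_num
  rw [hba 1 1] at h1
  simp only [massoc, hba, tail (hba _ _), hca, tail (hca _ _), hda, tail (hda _ _),
      hea, tail (hea _ _), hfa, tail (hfa _ _),
      hcb, tail (hcb _ _), hdb, tail (hdb _ _), heb, tail (heb _ _), hfb, tail (hfb _ _),
      hdc, tail (hdc _ _), hec, tail (hec _ _), hfc, tail (hfc _ _),
      hed, tail (hed _ _), hfd, tail (hfd _ _), hfe, tail (hfe _ _),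
      mfa, tail (mfa _ _), 
      mfb, tail (mfb _ _), mfc, tail (mfc _ _), mfd, tail (mfd _ _), mfe, tail (mfe _ _),
      mff, tail (mff _ _)] at h1
  obtain ⟨-, -, -, -, h5, h6⟩ := uniq _ _ _ _ _ _ _ _ _ _ _ _ h1
  have hD : D = 1 := by linear_combination h5 + h6
  subst hD
  refine ⟨⟨rfl, rfl, rfl, rfl⟩, ⟨?_, ?_, ?_⟩, ?_, rfl, ?_⟩ <;> ring

end K213.Const
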