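import Groth.Agent.Red.K213.Rk2G
import Groth.Agent.Red.K213.CommSplit

/-!
# Coxeter relations of the elements `n_a` (ring level)
-/

set_option autoImplicit false
set_option linter.unusedSectionVars false
universe u

open Polynomial

namespace K213.Cox

open Groth.Agent.Sga3B.Cell Groth.Agent.Sga3B.Cell.Datum Groth.Agent.Sga3B K213.RkOneR K213.Rk2

section abstractgroup

variable {Γ : Type*} [Group Γ] {a b : Γ}

lemma abs_a2 (hbr : a * b * a = b * a * b) (h1 : b * (a * a) = (a * a) * (b * b) * b)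
    (ha : a * a * (a * a) = 1) (hb : b * b * (b * b) = 1) :
    (a * b) ^ 3 = 1 ∧ (b * a) ^ 3 = 1 := by
  have h : (a * b) ^ 3 = 1 := by
    calc (a * b) ^ 3 = (a * b * a) * (b * a * b) := by rw [pow_three]; group
      _ = (a * b * a) * (a * b * a) := by rw [← hbr]
      _ = a * (b * (a * a)) * b * a := by group
      _ = a * (a * a) * (b * b * (b * b)) * a := by rw [h1]; group
      _ = a * a * (a * a) := by rw [hb]; group
      _ = 1 := ha
  refine ⟨h, ?_⟩
  calc (b * a) ^ 3 = a⁻¹ * (a * b) ^ 3 * a := by rw [pow_three, pow_three]; group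
    _ = 1 := by rw [h]; group

lemma abs_b2 (hbr : b * a * b * a = a * (b * a * b)) (h1 : a * (b * b) = (b * b) * (a * a) * a)
    (ha : a * a * (a * a) = 1) (hb : b * b * (b * b) = 1) :
    (a * b) ^ 4 = a * a ∧ (b * a) ^ 4 = a * a := by
  have hh : (b * a * b) * (b * a * b) = 1 := by
    calc (b * a * b) * (b * a * b) = b * (a * (b * b)) * a * b := by group
      _ = b * (b * b) * (a * a * (a * a)) * b := by rw [h1]; group
      _ = b * b * (b * b) := by rw [ha]; group
      _ = 1 := hb
  have h : (a * b) ^ 4 = a * a := by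
    calc (a * b) ^ 4 = a * (b * a * b * a) * (b * a * b) := by
          rw [show (4 : ℕ) = 1 + 1 + 1 + 1 from rfl, pow_add, pow_add, pow_add, pow_one]; group
      _ = a * a * ((b * a * b) * (b * a * b)) := by rw [hbr]; group
      _ = a * a := by rw [hh, mul_one]
  refine ⟨h, ?_⟩
  calc (b * a) ^ 4 = a⁻¹ * (a * b) ^ 4 * a := by
          rw [show (4 : ℕ) = 1 + 1 + 1 + 1 from rfl, pow_add, pow_add, pow_add, pow_one, pow_add,
            pow_add, pow_add, pow_one]; group
    _ = a * a := by rw [h]; group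

lemma abs_g2 (hbr : b * a * b * a * b * a = a * (b * a * b * a * b))
    (h1 : a * (b * b) = (b * b) * (a * a) * a) (h2 : b * (a * a) = (a * a) * (b * b) * b)
    (ha : a * a * (a * a) = 1) (hb : b * b * (b * b) = 1) :
    (a * b) ^ 6 = 1 ∧ (b * a) ^ 6 = 1 := by
  have hh : (b * a * b * a * b) * (b * a * b * a * b) = a * a := by
    calc (b * a * b * a * b) * (b * a * b * a * b) = b * a * b * (a * (b * b)) * a * b * a * b := by
          group
      _ = b * a * b * ((b * b) * (a * a * (a * a)) * (b * a * b)) := by rw [h1]; group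
      _ = b * a * (b * b * (b * b)) * (a * b) := by rw [ha]; group
      _ = (b * (a * a)) * b := by rw [hb]; group
      _ = (a * a) * (b * b * (b * b)) := by rw [h2]; group
      _ = a * a := by rw [hb, mul_one]
  have h : (a * b) ^ 6 = 1 := by
    calc (a * b) ^ 6 = a * (b * a * b * a * b * a) * (b * a * b * a * b) := by
          rw [show (6 : ℕ) = 1 + 1 + 1 + 1 + 1 + 1 from rfl]
          simp only [pow_add, pow_one]; group
      _ = a * a * ((b * a * b * a * b) * (b * a * b * a * b)) := by rw [hbr]; group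
      _ = 1 := by rw [hh, ha]
  refine ⟨h, ?_⟩
  calc (b * a) ^ 6 = a⁻¹ * (a * b) ^ 6 * a := by
          rw [show (6 : ℕ) = 1 + 1 + 1 + 1 + 1 + 1 from rfl]
          simp only [pow_add, pow_one]; group
    _ = 1 := by rw [h]; group

end abstractgroup

variable {R A : Type u} [CommRing R] [CommRing A] [Algebra R A] [PtGrp R A] {D : Datum R A}
variable (P : RootPairing D.idx ℤ D.M (Module.Dual ℤ D.M)) (hP : ∀ a, P.root a = D.root a)
  (hpe : P.toLinearMap = Module.Dual.eval ℤ D.M) (Δ : P.Base) (hG : D.Good)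

/-- the product of the `n_c` over a list -/
def gw (l : List D.idx) (B : Type u) [CommRing B] [Algebra R B] : Pt R A B :=
  (l.map (fun c => nn P c B)).prod

/-- the product of reflections -/
def gi (l : List D.idx) (c : D.idx) : D.idx := l.foldr (fun d j => P.reflectionPerm d j) c

@[simp] lemma gw_nil (B : Type u) [CommRing B] [Algebra R B] : gw P [] B = 1 := rfl

@[simp] lemma gw_cons (c : D.idx) (l : List D.idx) (B : Type u) [CommRing B] [Algebra R B] :
    gw P (c :: l) B = nn P c B * gw P l B := rfl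

@[simp] lemma gi_nil (c : D.idx) : gi P [] c = c := rfl

@[simp] lemma gi_cons (d : D.idx) (l : List D.idx) (c : D.idx) :
    gi P (d :: l) c = P.reflectionPerm d (gi P l c) := rfl

lemma gi_neg (l : List D.idx) (c : D.idx) :
    gi P l (P.reflectionPerm c c) = P.reflectionPerm (gi P l c) (gi P l c) := by
  have hni : ∀ i, P.root (P.reflectionPerm i i) = - P.root i := by simp
  induction l with
  | nil => rfl
  | cons d l ih =>
    rw [gi_cons, gi_cons, ih]
    apply P.root.injective
    rw [hni, P.root_reflectionPerm d, P.root_reflectionPerm d, hni, map_neg]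

include hP hpe Δ hG in
lemma gw_conj (l : List D.idx) (hl : ∀ c ∈ l, Rank1 P c) (c : D.idx) : ∃ r : Rˣ,
    ∀ {B : Type u} [CommRing B] [Algebra R B] (x : B),
      gw P l B * D.uu c B x * (gw P l B)⁻¹ = D.uu (gi P l c) B (algebraMap R B r * x) := by
  induction l with
  | nil => exact ⟨1, fun x => by simp⟩
  | cons d l ih =>
    obtain ⟨r, hr⟩ := ih (fun c hc => hl c (List.mem_cons_of_mem _ hc))
    obtain ⟨s, hs⟩ := nn_conj P hP hpe Δ hG (hl d List.mem_cons_self) (gi P l c)
    refine ⟨s * r, fun {B} _ _ x => ?_⟩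
    have h1 : gw P (d :: l) B * D.uu c B x * (gw P (d :: l) B)⁻¹ =
        nn P d B * (gw P l B * D.uu c B x * (gw P l B)⁻¹) * (nn P d B)⁻¹ := by
      rw [gw_cons]; group
    rw [h1, hr, hs, gi_cons, Units.val_mul, map_mul, mul_assoc]

include hP hpe in
/-- action on coroots -/
lemma nn_cow_coroot {a : D.idx} (hr : Rank1 P a) (c : D.idx) {B : Type u} [CommRing B]
    [Algebra R B] (v : Bˣ) : nn P a B * D.i B (TPt.cow (P.coroot c) v) * (nn P a B)⁻¹ =
      D.i B (TPt.cow (P.coroot (P.reflectionPerm a c)) v) := by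
  rw [nn_act' P hP hpe hr, act_reflection P hpe]
  congr 1
  apply MonoidHom.ext
  intro m
  have e1 : (TPt.cow (P.coroot c) v) (Multiplicative.ofAdd (P.root a)) = v ^ (P.pairing a c) := by
    change v ^ (P.coroot c (P.root a)) = _
    rw [coroot_root P hpe]
  change v ^ (P.coroot c m.toAdd) * ((((TPt.cow (P.coroot c) v) (Multiplicative.ofAdd (P.root a))) ^
    (P.coroot a m.toAdd)))⁻¹ = v ^ (P.coroot (P.reflectionPerm a c) m.toAdd)
  rw [e1, ← zpow_mul, ← zpow_neg, ← zpow_add]
  congr 1
  have h2 : P.coroot (P.reflectionPerm a c) = P.coroot c - P.pairing a c • P.coroot a := by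
    rw [P.coroot_reflectionPerm, P.coreflection_apply_coroot]
  rw [h2]
  simp only [LinearMap.sub_apply, LinearMap.smul_apply, smul_eq_mul]
  ring

include hP hpe in
lemma gw_cow (l : List D.idx) (hl : ∀ c ∈ l, Rank1 P c) (c : D.idx) {B : Type u} [CommRing B]
    [Algebra R B] (v : Bˣ) : gw P l B * D.i B (TPt.cow (P.coroot c) v) * (gw P l B)⁻¹ =
      D.i B (TPt.cow (P.coroot (gi P l c)) v) := by
  induction l with
  | nil => simp
  | cons d l ih =>
    have h1 : gw P (d :: l) B * D.i B (TPt.cow (P.coroot c) v) * (gw P (d :: l) B)⁻¹ =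
        nn P d B * (gw P l B * D.i B (TPt.cow (P.coroot c) v) * (gw P l B)⁻¹) * (nn P d B)⁻¹ := by
      rw [gw_cons]; group
    rw [h1, ih (fun c hc => hl c (List.mem_cons_of_mem _ hc)),
      nn_cow_coroot P hP hpe (hl d List.mem_cons_self), gi_cons]

include hP hG in
/-- the constants for opposite roots are inverse to each other -/
theorem dual_unit {a b : D.idx} (hra : Rank1 P a) (hrb : Rank1 P b)
    (g : ∀ (B : Type u) [CommRing B] [Algebra R B], Pt R A B) (s r : Rˣ)
    (h1 : ∀ {B : Type u} [CommRing B] [Algebra R B] (x : B), g B * D.uu a B x * (g B)⁻¹ =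
      D.uu b B (algebraMap R B s * x))
    (h2 : ∀ {B : Type u} [CommRing B] [Algebra R B] (x : B),
      g B * D.uu (P.reflectionPerm a a) B x * (g B)⁻¹ =
        D.uu (P.reflectionPerm b b) B (algebraMap R B r * x))
    (h3 : ∀ {B : Type u} [CommRing B] [Algebra R B] (v : Bˣ),
      g B * D.i B (TPt.cow (P.coroot a) v) * (g B)⁻¹ = D.i B (TPt.cow (P.coroot b) v)) :
    s * r = 1 := by
  let I : Ideal R[X] := Ideal.span {(X : R[X]) ^ 2}
  let C := R[X] ⧸ I
  let ε : C := Ideal.Quotient.mk I X
  have hε : ε * ε = 0 := by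
    change Ideal.Quotient.mk I X * Ideal.Quotient.mk I X = 0
    rw [← map_mul, ← pow_two]
    exact Ideal.Quotient.eq_zero_iff_mem.mpr (Ideal.subset_span rfl)
  have hinj : ∀ r s : R, algebraMap R C r * ε = algebraMap R C s * ε → r = s := by
    intro r s h
    have h1 : (Polynomial.C r * X - Polynomial.C s * X : R[X]) ∈ I := by
      rw [← Ideal.Quotient.eq]
      exact h
    rw [Ideal.mem_span_singleton] at h1
    have h2 := (X_pow_dvd_iff.mp h1) 1 (by norm_num)
    simpa [sub_eq_zero] using h2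
  let v : Cˣ := un1 ε hε
  let q : C := algebraMap R C (s * r)
  have hqq : q * ε * (q * ε) = 0 := by
    have : q * ε * (q * ε) = q * q * (ε * ε) := by ring
    rw [this, hε, mul_zero]
  let V : Cˣ := un1 (q * ε) hqq
  have k1 := hra (1 : C) ε v (by simp [v, un1])
  have k2 := hrb (algebraMap R C s) (algebraMap R C r * ε) V (by
    simp only [V, un1, q, map_mul]; ring)
  have k3 := congrArg (fun x => g C * x * (g C)⁻¹) k1
  have k4 : g C * (D.uu a C 1 * D.uu (P.reflectionPerm a a) C ε) * (g C)⁻¹ =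
      (g C * D.uu a C 1 * (g C)⁻¹) * (g C * D.uu (P.reflectionPerm a a) C ε * (g C)⁻¹) := by group
  have k5 : g C * (D.uu (P.reflectionPerm a a) C ((v⁻¹ : Cˣ) * ε) *
      D.i C (TPt.cow (P.coroot a) v) * D.uu a C ((v⁻¹ : Cˣ) * 1)) * (g C)⁻¹ =
      (g C * D.uu (P.reflectionPerm a a) C ((v⁻¹ : Cˣ) * ε) * (g C)⁻¹) *
        (g C * D.i C (TPt.cow (P.coroot a) v) * (g C)⁻¹) *
        (g C * D.uu a C ((v⁻¹ : Cˣ) * 1) * (g C)⁻¹) := by group
  rw [k4, k5, h1, h1, h2, h2, h3, mul_one, mul_one, k2] at k3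
  obtain ⟨-, -, h7⟩ := rk1_inj P hP hG k3
  have h8 : (V : C) = v := by
    have h9 : algebraMap R C s * ((V⁻¹ : Cˣ) : C) = algebraMap R C s * ((v⁻¹ : Cˣ) : C) := by
      rw [mul_comm, h7]
    have h10 : ((V⁻¹ : Cˣ) : C) = ((v⁻¹ : Cˣ) : C) :=
      ((s.isUnit).map (algebraMap R C)).mul_left_cancel h9
    exact congrArg Units.val (inv_injective (Units.ext h10))
  have h11 : q * ε = ε := add_left_cancel h8
  have h12 := hinj (s * r) 1 (by rw [map_one, one_mul]; exact h11)
  exact Units.ext h12

include hP hpe Δ hG in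
/-- if a word `g` in the `n_c` satisfies `g u_a(x) g⁻¹ = u_b(x)` then `g n_a g⁻¹ = n_b` -/
theorem gw_nn {a b : D.idx} (hra : Rank1 P a) (hrb : Rank1 P b) (l : List D.idx)
    (hl : ∀ c ∈ l, Rank1 P c) (hgi : gi P l a = b)
    (h : ∀ {B : Type u} [CommRing B] [Algebra R B] (x : B),
      gw P l B * D.uu a B x * (gw P l B)⁻¹ = D.uu b B x)
    (B : Type u) [CommRing B] [Algebra R B] :
    gw P l B * nn P a B * (gw P l B)⁻¹ = nn P b B := by
  obtain ⟨r, hr⟩ := gw_conj P hP hpe Δ hG l hl (P.reflectionPerm a a)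
  rw [gi_neg, hgi] at hr
  have h1 := dual_unit P hP hG hra hrb (fun B _ _ => gw P l B) 1 r
    (fun x => by rw [h, Units.val_one, map_one, one_mul]) (fun x => hr x)
    (fun v => by rw [gw_cow P hP hpe l hl, hgi])
  rw [one_mul] at h1
  have h2 : ∀ x : B, gw P l B * D.uu (P.reflectionPerm a a) B x * (gw P l B)⁻¹ =
      D.uu (P.reflectionPerm b b) B x := by
    intro x
    rw [hr, h1, Units.val_one, map_one, one_mul]
  calc gw P l B * nn P a B * (gw P l B)⁻¹ =
      (gw P l B * D.uu a B 1 * (gw P l B)⁻¹) *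
        (gw P l B * D.uu (P.reflectionPerm a a) B (-1) * (gw P l B)⁻¹) *
        (gw P l B * D.uu a B 1 * (gw P l B)⁻¹) := by rw [nn]; group
    _ = nn P b B := by rw [h, h2, nn]

include hP hpe in
lemma nn_four {a : D.idx} (hra : Rank1 P a) (B : Type u) [CommRing B] [Algebra R B] :
    nn P a B * nn P a B * (nn P a B * nn P a B) = 1 := by
  rw [nn_sq P hP hpe hra, ← D.i_mul', ← cow_mul]
  simp [cow_one]

include hP hpe in
/-- `n_c n_a² = n_a² n_c² n_c` if `⟨c, a^∨⟩` is odd -/
lemma nn_conj_sq_odd {a c : D.idx} (hra : Rank1 P a) (hrc : Rank1 P c) (h : Odd (P.pairing c a))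
    (B : Type u) [CommRing B] [Algebra R B] :
    nn P c B * (nn P a B * nn P a B) = (nn P a B * nn P a B) * (nn P c B * nn P c B) * nn P c B := by
  have h1 : nn P c B * (nn P a B * nn P a B) * (nn P c B)⁻¹ =
      (nn P a B * nn P a B) * (nn P c B * nn P c B) := by
    rw [nn_sq P hP hpe hra, nn_sq P hP hpe hrc, nn_act' P hP hpe hrc, act_reflection P hpe]
    have e1 : (TPt.cow (P.coroot a) (-1 : Bˣ)) (Multiplicative.ofAdd (P.root c)) = -1 := by
      change (-1 : Bˣ) ^ (P.coroot a (P.root c)) = _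
      rw [coroot_root P hpe]
      exact h.neg_one_zpow
    rw [e1, ← cow_inv, D.i_mul', inv_neg, inv_one]
  rw [← h1]; group

end K213.Cox

namespace K213.Cox

open Groth.Agent.Sga3B.Cell Groth.Agent.Sga3B.Cell.Datum Groth.Agent.Sga3B K213.RkOneR K213.Rk2

variable {R A : Type u} [CommRing R] [CommRing A] [Algebra R A] [PtGrp R A] {D : Datum R A}
variable (P : RootPairing D.idx ℤ D.M (Module.Dual ℤ D.M)) (hP : ∀ a, P.root a = D.root a)
  (hpe : P.toLinearMap = Module.Dual.eval ℤ D.M) (Δ : P.Base) (hG : D.Good) {a b : D.idx}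
  (ha : a ∈ Δ.support) (hb : b ∈ Δ.support) (hab : a ≠ b)
  (hra : Rank1 P a) (hrb : Rank1 P b)

include hP hpe hG ha hb hab

omit hpe in
theorem nn_comm_a1a1 (pba : P.pairing b a = 0) (hpe : P.toLinearMap = Module.Dual.eval ℤ D.M)
    (B : Type u) [CommRing B] [Algebra R B] :
    nn P a B * nn P b B = nn P b B * nn P a B := by
  have hne : ∀ (d : D.idx), P.root d ≠ P.root a + P.root b := by
    intro d hd
    exact Comb.a1a1_pos Δ ha hb hab pba (i := 1) (j := 1) one_pos one_pos (by rw [hd]; simp)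
  have h0 : P.root a + P.root b ≠ 0 := by
    intro h
    have h1 := (Comb.coeff_inj Δ ha hb hab (i := 1) (j := 1) (i' := 0) (j' := 0)
      (by simpa using h)).1
    omega
  have h1 : ∀ x y : B, D.uu a B x * D.uu b B y = D.uu b B y * D.uu a B x := fun x y =>
    CommSplit.comm_ring P hP hpe hG h0 (by rintro ⟨d, hd⟩; exact hne d hd) x y
  have hn : ∀ c, P.root (P.reflectionPerm c c) = - P.root c := by simp
  have h2 : ∀ x y : B, D.uu (P.reflectionPerm a a) B x * D.uu (P.reflectionPerm b b) B y =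
      D.uu (P.reflectionPerm b b) B y * D.uu (P.reflectionPerm a a) B x := fun x y =>
    CommSplit.comm_ring P hP hpe hG (by
      rw [hn, hn, ← neg_add, neg_ne_zero]; exact h0) (by
      rintro ⟨d, hd⟩
      rw [hn, hn, ← neg_add] at hd
      apply hne (P.reflectionPerm d d)
      rw [hn, hd, neg_neg]) x y
  have h3 := fun x y => pin_comm P hP Δ hG ha hb hab x y (B := B)
  have h4 := fun x y => pin_comm P hP Δ hG hb ha hab.symm x y (B := B)
  have c1 : ∀ x : B, nn P b B * D.uu a B x = D.uu a B x * nn P b B := by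
    intro x
    simp only [nn]
    rw [mul_assoc, ← h1, mul_assoc, ← mul_assoc (D.uu (P.reflectionPerm b b) B _), ← h3,
      ← mul_assoc, ← mul_assoc, ← h1]
    group
  have c2 : ∀ x : B, nn P b B * D.uu (P.reflectionPerm a a) B x =
      D.uu (P.reflectionPerm a a) B x * nn P b B := by
    intro x
    simp only [nn]
    rw [mul_assoc, h4, mul_assoc, ← mul_assoc (D.uu (P.reflectionPerm b b) B _), ← h2,
      ← mul_assoc, ← mul_assoc, h4]
    group
  conv_lhs => rw [nn]
  rw [mul_assoc, ← c1, ← mul_assoc, mul_assoc (D.uu a B 1), ← c2, ← mul_assoc, ← c1, mul_assoc,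
    mul_assoc, ← mul_assoc (D.uu a B 1)]
  rfl

include hra hrb

theorem cox_a1a1 (pba : P.pairing b a = 0) {B : Type u} [CommRing B] [Algebra R B] :
    (nn P a B * nn P b B) ^ 2 = D.i B (TPt.cow (P.coroot a) (-1)) * D.i B (TPt.cow (P.coroot b) (-1)) ∧
    (nn P b B * nn P a B) ^ 2 = D.i B (TPt.cow (P.coroot a) (-1)) * D.i B (TPt.cow (P.coroot b) (-1)) := by
  have h := nn_comm_a1a1 P hP Δ hG ha hb hab pba hpe B
  rw [← h, ← nn_sq P hP hpe hra, ← nn_sq P hP hpe hrb]
  have h2 : (nn P a B * nn P b B) ^ 2 = nn P a B * nn P a B * (nn P b B * nn P b B) := by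
    calc (nn P a B * nn P b B) ^ 2 = nn P a B * (nn P b B * nn P a B) * nn P b B := by
          rw [pow_two]; group
      _ = _ := by rw [← h]; group
  exact ⟨h2, h2⟩

theorem cox_a2 (pba : P.pairing b a = -1) (pab : P.pairing a b = -1)
    {B : Type u} [CommRing B] [Algebra R B] :
    (nn P a B * nn P b B) ^ 3 = 1 ∧ (nn P b B * nn P a B) ^ 3 = 1 := by
  have hgi : gi P [a, b] a = b := by
    have h1 := co_refl_right P hP (co_left (D := D) (a := a) (b := b)) pab
    have h2 := co_refl_left P hP h1 pba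
    norm_num at h2
    exact h2.eq co_right
  have key := gw_nn P hP hpe Δ hG hra hrb [a, b] (by
    intro c hc
    simp only [List.mem_cons, List.not_mem_nil, or_false] at hc
    rcases hc with rfl | rfl
    exacts [hra, hrb]) hgi (by
    intro B _ _ x
    have h1 := (a2 P hP hpe Δ hG ha hb hab hra hrb pba pab _ (fun _ => rfl)).2.2.2.2.1 x
    rw [← h1]
    simp only [gw_cons, gw_nil]
    group) B
  simp only [gw_cons, gw_nil, mul_one] at key
  apply abs_a2
  · calc nn P a B * nn P b B * nn P a B =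
        (nn P a B * nn P b B * nn P a B * (nn P a B * nn P b B)⁻¹) * (nn P a B * nn P b B) := by group
      _ = _ := by rw [key]; group
  · exact nn_conj_sq_odd P hP hpe hra hrb (by rw [pba]; decide) B
  · exact nn_four P hP hpe hra B
  · exact nn_four P hP hpe hrb B

theorem cox_b2 (pba : P.pairing b a = -2) (pab : P.pairing a b = -1)
    {B : Type u} [CommRing B] [Algebra R B] :
    (nn P a B * nn P b B) ^ 4 = D.i B (TPt.cow (P.coroot a) (-1)) ∧
      (nn P b B * nn P a B) ^ 4 = D.i B (TPt.cow (P.coroot a) (-1)) := by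
  have hgi : gi P [b, a, b] a = a := by
    have h1 := co_refl_right P hP (co_left (D := D) (a := a) (b := b)) pab
    have h2 := co_refl_right P hP (co_refl_left P hP h1 pba) pab
    norm_num at h2
    exact h2.eq co_left
  have key := gw_nn P hP hpe Δ hG hra hra [b, a, b] (by
    intro c hc
    simp only [List.mem_cons, List.not_mem_nil, or_false] at hc
    rcases hc with rfl | rfl | rfl
    exacts [hrb, hra, hrb]) hgi (by
    intro B _ _ x
    have h0 := b2 P hP hpe Δ hG ha hb hab hra hrb pba pab _ _ (fun _ => rfl) (fun _ => rfl) (B := B)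
    obtain ⟨-, h1, -, h2, -⟩ := h0
    have h3 := h2 (-x)
    rw [← h1 x, neg_neg] at h3
    refine Eq.trans ?_ h3
    simp only [gw_cons, gw_nil]
    group) B
  simp only [gw_cons, gw_nil, mul_one] at key
  rw [← nn_sq P hP hpe hra]
  apply abs_b2
  · calc nn P b B * nn P a B * nn P b B * nn P a B =
        (nn P b B * (nn P a B * nn P b B) * nn P a B * (nn P b B * (nn P a B * nn P b B))⁻¹) *
          (nn P b B * (nn P a B * nn P b B)) := by group
      _ = _ := by rw [key]; group
  · exact nn_conj_sq_odd P hP hpe hrb hra (by rw [pab]; decide) B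
  · exact nn_four P hP hpe hra B
  · exact nn_four P hP hpe hrb B

theorem cox_g2 (pba : P.pairing b a = -3) (pab : P.pairing a b = -1)
    {B : Type u} [CommRing B] [Algebra R B] :
    (nn P a B * nn P b B) ^ 6 = 1 ∧ (nn P b B * nn P a B) ^ 6 = 1 := by
  have hgi : gi P [b, a, b, a, b] a = a := by
    have h1 := co_refl_right P hP (co_left (D := D) (a := a) (b := b)) pab
    have h2 := co_refl_right P hP (co_refl_left P hP (co_refl_right P hP
      (co_refl_left P hP h1 pba) pab) pba) pab
    norm_num at h2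
    exact h2.eq co_left
  have key := gw_nn P hP hpe Δ hG hra hra [b, a, b, a, b] (by
    intro c hc
    simp only [List.mem_cons, List.not_mem_nil, or_false] at hc
    rcases hc with rfl | rfl | rfl | rfl | rfl
    exacts [hrb, hra, hrb, hra, hrb]) hgi (by
    intro B _ _ x
    have h0 := g2 P hP hpe Δ hG ha hb hab hra hrb pba pab _ _ _ _ (fun _ => rfl) (fun _ => rfl)
      (fun _ => rfl) (fun _ => rfl) (B := B)
    obtain ⟨-, -, h1, h2, h3, h4, h5, h6⟩ := h0
    have h7 := h4 (-x)
    rw [← h1 x, ← h5 x, neg_neg] at h7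
    refine Eq.trans ?_ h7
    simp only [gw_cons, gw_nil]
    group) B
  simp only [gw_cons, gw_nil, mul_one] at key
  apply abs_g2
  · calc nn P b B * nn P a B * nn P b B * nn P a B * nn P b B * nn P a B =
        (nn P b B * (nn P a B * (nn P b B * (nn P a B * nn P b B))) * nn P a B *
          (nn P b B * (nn P a B * (nn P b B * (nn P a B * nn P b B))))⁻¹) *
          (nn P b B * (nn P a B * (nn P b B * (nn P a B * nn P b B)))) := by group
      _ = _ := by rw [key]; group
  · exact nn_conj_sq_odd P hP hpe hrb hra (by rw [pab]; decide) B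
  · exact nn_conj_sq_odd P hP hpe hra hrb (by rw [pba]; decide) B
  · exact nn_four P hP hpe hra B
  · exact nn_four P hP hpe hrb B

end K213.Cox
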