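import Groth.Agent.Red.K213.PtKit
import Groth.Agent.Red.K213.CoxR

/-!
# Coxeter relations: reduction from `S`-points to charts
-/

set_option autoImplicit false
universe u

open CategoryTheory MonoidalCategory CartesianMonoidalCategory MonObj GrpObj AlgebraicGeometry Limits

namespace K213.CoxS

open Groth.Agent.Sga3B Groth.Agent.Sga3B.Cell Groth.Agent.Sga3B.PinMod Groth.Agent.Sga3B.DSPts
  Groth.Agent.Sga3B.GaPts Groth.Agent.Sga3B.Chart K213.RkOneR K213.PtKit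

variable {S : Scheme.{u}} {G : Over S} [GrpObj G]

lemma gmFn_comp' {X X' : Over S} (h : X' ⟶ X) (x : X ⟶ Red.Gm S) :
    Red.gmFn (h ≫ x) = h.left.appTop (Red.gmFn x) := by
  rw [gmFn_eq, gmFn_eq, dsChar_comp]
  rfl

lemma comp_pow' {X Y : Over S} (g : X ⟶ Y) (f : Y ⟶ G) (n : ℕ) : g ≫ (f ^ n) = (g ≫ f) ^ n := by
  induction n with
  | zero => rw [pow_zero, pow_zero, MonObj.comp_one]
  | succ n ih => rw [pow_succ, pow_succ, MonObj.comp_mul, ih]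

variable (D : Red.SplitRed G) {R : Type u} [CommRing R]
  {s : Spec (CommRingCat.of R) ⟶ S} (c : Chart G s) {B : Type u} [CommRing B] [Algebra R B]

lemma pt_w1 (e₁ : 𝟙_ (Over S) ⟶ Red.Ga S) (he₁ : Red.gaFn e₁ = 1)
    {w : D.idx → (𝟙_ (Over S) ⟶ G)}
    (hw : ∀ a, w a = (e₁ ≫ D.u a) * (e₁ ≫ D.u (D.P.reflectionPerm a a))⁻¹ * (e₁ ≫ D.u a))
    (g : tB s B ⟶ 𝟙_ (Over S)) (a : D.idx) :
    g ≫ w a = c.pts B (nn (D := c.datum D) D.P a B) := by
  rw [toUnit_unique g (toUnit _), hw, pt_w D c e₁ he₁]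

lemma pt_m1 {m₁ : 𝟙_ (Over S) ⟶ Red.Gm S} (hm₁ : Red.gmFn m₁ = -1)
    (g : tB s B ⟶ 𝟙_ (Over S)) (f : Module.Dual ℤ D.M) :
    g ≫ m₁ ≫ Red.DSmap S f.toAddMonoidHom ≫ D.split.inv.hom.hom ≫ D.i =
      c.pts B ((c.datum D).i B (TPt.cow f (-1))) := by
  have h := pt_av D c f (z := g ≫ m₁) (v := -1) (by
    rw [gmFn_comp', hm₁, map_neg, map_one, Units.val_neg, Units.val_one, ← fnHom_apply,
      map_neg, map_one])
  rw [← h, Category.assoc]

end K213.CoxS
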