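import Groth.Agent.Sga3B.AffYoneda
import Groth.Agent.Sga3B.Pts
import Mathlib.AlgebraicGeometry.PullbackCarrier

/-!
# Zariski local existence and uniqueness of morphisms over `S`
-/

set_option autoImplicit false
universe u

open CategoryTheory MonoidalCategory CartesianMonoidalCategory MonObj GrpObj AlgebraicGeometry Limits

namespace K213.LocGlue

variable {S : Scheme.{u}}

/-- morphisms agreeing Zariski locally on the source are equal -/
theorem hom_ext_loc {X H : Over S} {f f' : X ⟶ H}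
    (h : ∀ x : X.left, ∃ (Y : Over S) (q : Y ⟶ X), IsOpenImmersion q.left ∧ x ∈ Set.range q.left ∧
      q ≫ f = q ≫ f') : f = f' := by
  choose Y q hq hx hf using h
  let 𝒰 : X.left.OpenCover := Scheme.Cover.mkOfCovers X.left (fun x => (Y x).left)
    (fun x => (q x).left) (fun x => ⟨x, hx x⟩) (fun x => hq x)
  ext1
  apply Scheme.Cover.hom_ext 𝒰
  intro x
  exact congrArg (fun k => k.left) (hf x)

/-- **glueing of morphisms** characterised by a stable property with local existence and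
uniqueness -/
theorem exists_hom_of_loc {X H : Over S} (P : ∀ (Y : Over S), (Y ⟶ X) → (Y ⟶ H) → Prop)
    (hP : ∀ (Y Z : Over S) (r : Z ⟶ Y) (q : Y ⟶ X) (h : Y ⟶ H), P Y q h → P Z (r ≫ q) (r ≫ h))
    (hu : ∀ (Y : Over S) (q : Y ⟶ X) (h h' : Y ⟶ H), P Y q h → P Y q h' → h = h')
    (hloc : ∀ x : X.left, ∃ (Y : Over S) (q : Y ⟶ X), IsOpenImmersion q.left ∧
      x ∈ Set.range q.left ∧ ∃ h : Y ⟶ H, P Y q h) :
    ∃ f : X ⟶ H, (∀ (Y : Over S) (q : Y ⟶ X) (h : Y ⟶ H), P Y q h → h = q ≫ f) ∧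
      ∀ x : X.left, ∃ (Y : Over S) (q : Y ⟶ X), IsOpenImmersion q.left ∧
      x ∈ Set.range q.left ∧ P Y q (q ≫ f) := by
  choose Y q hq hx h hh using hloc
  let 𝒰 : X.left.OpenCover := Scheme.Cover.mkOfCovers X.left (fun x => (Y x).left)
    (fun x => (q x).left) (fun x => ⟨x, hx x⟩) (fun x => hq x)
  have hcomp : ∀ x y : 𝒰.I₀, pullback.fst (𝒰.f x) (𝒰.f y) ≫ (h x).left =
      pullback.snd (𝒰.f x) (𝒰.f y) ≫ (h y).left := by
    intro x y
    let W : Over S := Over.mk (pullback.fst (𝒰.f x) (𝒰.f y) ≫ (Y x).hom)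
    let r₁ : W ⟶ Y x := Over.homMk (pullback.fst (𝒰.f x) (𝒰.f y)) rfl
    let r₂ : W ⟶ Y y := Over.homMk (pullback.snd (𝒰.f x) (𝒰.f y)) (by
      change _ ≫ (Y y).hom = pullback.fst (𝒰.f x) (𝒰.f y) ≫ (Y x).hom
      rw [← Over.w (q x), ← Over.w (q y)]
      exact (pullback.condition_assoc (f := 𝒰.f x) (g := 𝒰.f y) X.hom).symm)
    have e : r₁ ≫ q x = r₂ ≫ q y := by
      ext1
      exact pullback.condition (f := 𝒰.f x) (g := 𝒰.f y)
    have h1 := hP _ _ r₁ _ _ (hh x)
    have h2 := hP _ _ r₂ _ _ (hh y)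
    rw [← e] at h2
    exact congrArg (fun k => k.left) (hu _ _ _ _ h1 h2)
  let f₀ : X.left ⟶ H.left := 𝒰.glueMorphisms (fun x => (h x).left) hcomp
  have hf₀ : ∀ x : 𝒰.I₀, (q x).left ≫ f₀ = (h x).left := fun x =>
    Scheme.Cover.ι_glueMorphisms 𝒰 _ _ x
  let f : X ⟶ H := Over.homMk f₀ (by
    apply Scheme.Cover.hom_ext 𝒰
    intro x
    change (q x).left ≫ f₀ ≫ H.hom = (q x).left ≫ X.hom
    rw [← Category.assoc, hf₀, Over.w, Over.w])
  have hf : ∀ x, q x ≫ f = h x := by
    intro x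
    ext1
    exact hf₀ x
  refine ⟨f, ?_, ?_⟩
  · intro Z r k hk
    apply hom_ext_loc
    intro z
    let x : X.left := r.left z
    let W : Over S := Over.mk (pullback.fst r.left (q x).left ≫ Z.hom)
    let r₁ : W ⟶ Z := Over.homMk (pullback.fst r.left (q x).left) rfl
    let r₂ : W ⟶ Y x := Over.homMk (pullback.snd r.left (q x).left) (by
      change _ ≫ (Y x).hom = pullback.fst r.left (q x).left ≫ Z.hom
      rw [← Over.w (q x), ← Over.w r]
      exact (pullback.condition_assoc (f := r.left) (g := (q x).left) X.hom).symm)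
    have e : r₁ ≫ r = r₂ ≫ q x := by
      ext1
      exact pullback.condition (f := r.left) (g := (q x).left)
    have := hq x
    refine ⟨W, r₁, inferInstanceAs (IsOpenImmersion (pullback.fst r.left (q x).left)), ?_, ?_⟩
    · change z ∈ Set.range (pullback.fst r.left (q x).left)
      rw [Scheme.Pullback.range_fst]
      exact hx x
    · have h1 := hP _ _ r₁ _ _ hk
      have h2 := hP _ _ r₂ _ _ (hh x)
      rw [← e] at h2
      rw [hu _ _ _ _ h1 h2, ← Category.assoc, e, Category.assoc, hf]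
  · intro x
    exact ⟨Y x, q x, hq x, hx x, by rw [hf]; exact hh x⟩

end K213.LocGlue
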