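import Groth.Agent.Red.K213.CoxR
import Groth.Agent.Sga3A.Weyl
import Groth.Agent.Sga3B.PinComb829

/-!
# Combinatorics: additive maps permuting the roots
-/

set_option autoImplicit false
set_option linter.unusedSectionVars false
universe u

namespace K213.Norm

open Groth.Agent.Sga3A.Weyl Groth.Agent.Sga3B

variable {ι M : Type} [Finite ι] [AddCommGroup M] [Module.Free ℤ M] [Module.Finite ℤ M]
  {P : RootPairing ι ℤ M (Module.Dual ℤ M)} (b : P.Base)

/-- the word in the reflections, on indices -/
def gi' (P : RootPairing ι ℤ M (Module.Dual ℤ M)) (l : List ι) (c : ι) : ι :=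
  l.foldr (fun d j => P.reflectionPerm d j) c

@[simp] lemma gi'_nil (c : ι) : gi' P [] c = c := rfl

@[simp] lemma gi'_cons (d : ι) (l : List ι) (c : ι) :
    gi' P (d :: l) c = P.reflectionPerm d (gi' P l c) := rfl

/-- the product of the reflections of a word -/
def wl (P : RootPairing ι ℤ M (Module.Dual ℤ M)) (l : List ι) : M ≃ₗ[ℤ] M := (l.map P.reflection).prod

@[simp] lemma wl_nil : wl P [] = 1 := rfl

@[simp] lemma wl_cons (d : ι) (l : List ι) : wl P (d :: l) = P.reflection d * wl P l := by
  simp [wl]

lemma wl_append (l l' : List ι) : wl P (l ++ l') = wl P l * wl P l' := by simp [wl]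

lemma wl_root (l : List ι) (c : ι) : wl P l (P.root c) = P.root (gi' P l c) := by
  induction l with
  | nil => rfl
  | cons d l ih =>
    rw [wl_cons, LinearEquiv.mul_apply, ih, gi'_cons, P.root_reflectionPerm]

section perm

variable (w : M →+ M) (π : ι → ι) (hw : ∀ c, w (P.root c) = P.root (π c))

include hw in
lemma pi_neg (c : ι) : π (P.reflectionPerm c c) = P.reflectionPerm (π c) (π c) := by
  apply P.root.injective
  rw [← hw, P.root_reflectionPerm, P.root_reflectionPerm, P.reflection_apply_self,
    P.reflection_apply_self, map_neg, hw]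

include hw in
lemma pos_of_simple (h : ∀ j ∈ b.support, b.IsPos (π j)) {i : ι} (hi : b.IsPos i) :
    b.IsPos (π i) := by
  refine hi.induction_on_add (p := fun i => b.IsPos (π i)) h ?_
  intro i j k hk hi hj
  refine hi.add (h j hj) ?_
  rw [← hw, hk, map_add, hw, hw]

/-- the number of positive roots made negative -/
noncomputable def cnt (π : ι → ι) : ℕ := Set.ncard {i | b.IsPos i ∧ ¬ b.IsPos (π i)}

include hw in
lemma cnt_lt {j : ι} (hj : j ∈ b.support) (h : ¬ b.IsPos (π j)) :
    cnt b (fun i => π (P.reflectionPerm j i)) < cnt b π := by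
  have : P.IsReduced := PinComb.isReduced b
  have hjp := b.isPos_of_mem_support hj
  unfold cnt
  have hinj : Function.Injective (fun i => P.reflectionPerm j i) := (P.reflectionPerm j).injective
  rw [← Set.ncard_image_of_injective _ hinj]
  apply Set.ncard_lt_ncard _ (Set.toFinite _)
  rw [Set.ssubset_iff_of_subset]
  · refine ⟨j, ⟨hjp, h⟩, ?_⟩
    rintro ⟨i, ⟨hi, -⟩, e⟩
    exact reflectionPerm_ne_self_of_isPos b hi hjp e
  · rintro _ ⟨i, ⟨hi, hi'⟩, rfl⟩
    refine ⟨?_, hi'⟩
    by_cases hij : i = j
    · exfalso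
      subst hij
      apply hi'
      change b.IsPos (π (P.reflectionPerm i i))
      rw [pi_neg w π hw, isPos_neg_iff]
      exact h
    · exact hi.reflectionPerm hj hij

end perm

/-- an additive map permuting the roots preserves the positive roots after composition with a word -/
theorem exists_word_pos (w : M →+ M) (π : ι → ι) (hw : ∀ c, w (P.root c) = P.root (π c)) :
    ∃ l : List ι, (∀ d ∈ l, d ∈ b.support) ∧ ∀ i, b.IsPos i → b.IsPos (π (gi' P l i)) := by
  suffices H : ∀ n, ∀ (w : M →+ M) (π : ι → ι), (∀ c, w (P.root c) = P.root (π c)) → cnt b π = n →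
      ∃ l : List ι, (∀ d ∈ l, d ∈ b.support) ∧ ∀ i, b.IsPos i → b.IsPos (π (gi' P l i)) from
    H _ w π hw rfl
  intro n
  induction n using Nat.strong_induction_on with
  | _ n ih =>
    intro w π hw hn
    by_cases h : ∀ j ∈ b.support, b.IsPos (π j)
    · exact ⟨[], by simp, fun i hi => pos_of_simple b w π hw h hi⟩
    · push Not at h
      obtain ⟨j, hj, hj'⟩ := h
      have h1 := cnt_lt b w π hw hj hj'
      obtain ⟨l, hl, hl'⟩ := ih _ (hn ▸ h1) (w.comp (P.reflection j).toLinearMap.toAddMonoidHom)
        (fun i => π (P.reflectionPerm j i)) (fun c => by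
          rw [← hw, P.root_reflectionPerm]; rfl) rfl
      refine ⟨j :: l, ?_, hl'⟩
      intro d hd
      rcases List.mem_cons.mp hd with rfl | hd
      · exact hj
      · exact hl d hd

/-- an invariant regular functional -/
theorem exists_inv_functional (w : M →+ M) (e : Equiv.Perm ι) (hw : ∀ c, w (P.root c) = P.root (e c))
    (hpos : ∀ i, b.IsPos i → b.IsPos (e i)) :
    ∃ lam : M →+ ℤ, (∀ a, lam (P.root a) ≠ 0) ∧ ∀ a, lam (w (P.root a)) = lam (P.root a) := by
  have : P.IsReduced := PinComb.isReduced b
  obtain ⟨lam, n, hn, hlam⟩ := PinComb.exists_height_functional b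
  set m := orderOf e with hm
  have hm0 : 0 < m := orderOf_pos e
  let we : AddMonoid.End M := w
  have hit : ∀ (k : ℕ) (a : ι), (we ^ k) (P.root a) = P.root ((e ^ k) a) := by
    intro k
    induction k with
    | zero => intro a; rfl
    | succ k ih =>
      intro a
      rw [pow_succ, pow_succ, Equiv.Perm.mul_apply, ← ih (e a), ← hw]
      rfl
  have hposk : ∀ (k : ℕ) (a : ι), b.IsPos a → b.IsPos ((e ^ k) a) := by
    intro k
    induction k with
    | zero => intro a ha; exact ha
    | succ k ih =>
      intro a ha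
      rw [pow_succ', Equiv.Perm.mul_apply]
      exact hpos _ (ih a ha)
  let L : M →+ ℤ := ∑ k ∈ Finset.range m, lam.comp (we ^ k)
  have hL : ∀ a, L (P.root a) = ∑ k ∈ Finset.range m, n * b.height ((e ^ k) a) := by
    intro a
    rw [AddMonoidHom.finsetSum_apply]
    apply Finset.sum_congr rfl
    intro k _
    exact (congrArg lam (hit k a)).trans (hlam _)
  have hLpos : ∀ a, b.IsPos a → 0 < L (P.root a) := by
    intro a ha
    rw [hL]
    apply Finset.sum_pos
    · intro k _
      exact mul_pos hn (hposk k a ha)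
    · exact ⟨0, Finset.mem_range.mpr hm0⟩
  refine ⟨L, ?_, ?_⟩
  · intro a
    by_cases ha : b.IsPos a
    · exact (hLpos a ha).ne'
    · have h1 := hLpos _ ((isPos_neg_iff b a).mpr ha)
      rw [P.root_reflectionPerm, P.reflection_apply_self, map_neg] at h1
      omega
  · intro a
    rw [hw, hL, hL]
    have h1 := Finset.sum_range_succ' (fun k => n * b.height ((e ^ k) a)) m
    have h2 := Finset.sum_range_succ (fun k => n * b.height ((e ^ k) a)) m
    have h3 : (e ^ m) a = a := by rw [hm, pow_orderOf_eq_one]; rfl
    rw [h2, h3] at h1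
    simp only [pow_zero, Equiv.Perm.one_apply] at h1
    have h4 : ∑ k ∈ Finset.range m, n * b.height ((e ^ (k + 1)) a) =
        ∑ k ∈ Finset.range m, n * b.height ((e ^ k) (e a)) := by
      apply Finset.sum_congr rfl
      intro k _
      rw [pow_succ, Equiv.Perm.mul_apply]
    rw [h4] at h1
    omega

/-- a surjectivity property gives a permutation -/
theorem exists_perm (w : M →+ M) (h : ∀ a, ∃ c, w (P.root c) = P.root a) :
    ∃ e : Equiv.Perm ι, ∀ c, w (P.root c) = P.root (e c) := by
  choose κ hκ using h
  have hinj : Function.Injective κ := by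
    intro a a' haa
    apply P.root.injective
    have h1 := hκ a
    rw [haa, hκ] at h1
    exact h1.symm
  let e : Equiv.Perm ι := Equiv.ofBijective κ (Finite.injective_iff_bijective.mp hinj)
  refine ⟨e.symm, fun c => ?_⟩
  obtain ⟨a, rfl⟩ := e.surjective c
  rw [Equiv.symm_apply_apply]
  exact hκ a

end K213.Norm
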