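import Groth.Agent.Red.K213.NormR

/-!
# Points normalising the torus of a chart datum are locally of the form `n_w t`
-/

set_option autoImplicit false
set_option linter.unusedSectionVars false
universe u

open TensorProduct

namespace K213.Norm

open Groth.Agent.Sga3B Groth.Agent.Sga3B.Cell Groth.Agent.Sga3B.Cell.Datum Groth.Agent.Sga3B.Word
  K213.RkOneR Groth.Agent.Sga3B.InfConj Groth.Agent.Sga3B.DSRigid

section ev

variable {M : Type} [AddCommGroup M] {R B C D' : Type u} [CommRing R] [CommRing B] [Algebra R B]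
  [CommRing C] [Algebra R C] [CommRing D'] [Algebra R D']

/-- evaluation of `B[M]` at a ring map and a torus point -/
noncomputable def evC (φ : B →ₐ[R] C) (s : TPt M C) : MonoidAlgebra B (Multiplicative M) →ₐ[R] C :=
  MonoidAlgebra.liftNCAlgHom φ ((Units.coeHom C).comp s) (fun _ _ => Commute.all _ _)

lemma evC_single (φ : B →ₐ[R] C) (s : TPt M C) (m : Multiplicative M) (x : B) :
    evC φ s (MonoidAlgebra.single m x) = φ x * s m := by
  rw [evC, MonoidAlgebra.coe_liftNCAlgHom, MonoidAlgebra.liftNC_single]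
  rfl

lemma map_evC_sM (φ : B →ₐ[R] C) (s : TPt M C) : TPt.map (evC φ s) (sM M B) = s := by
  apply TPt.ext_ch
  intro m
  rw [TPt.ch_map, ch_sM, evC_single, map_one, one_mul]
  rfl

lemma evC_comp_alg (φ : B →ₐ[R] C) (s : TPt M C) :
    (evC φ s).comp (IsScalarTower.toAlgHom R B (MonoidAlgebra B (Multiplicative M))) = φ := by
  apply AlgHom.ext
  intro x
  rw [AlgHom.comp_apply, IsScalarTower.toAlgHom_apply, MonoidAlgebra.coe_algebraMap,
    Function.comp_apply, evC_single, map_one, Units.val_one, mul_one]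
  rfl

lemma comp_evC (ψ : C →ₐ[R] D') (φ : B →ₐ[R] C) (s : TPt M C) :
    ψ.comp (evC φ s) = evC (ψ.comp φ) (TPt.map ψ s) := by
  apply MonoidAlgebra.algHom_ext
  · intro m
    rw [AlgHom.comp_apply, evC_single, evC_single, map_one, map_one, one_mul, one_mul]
    rfl
  · apply AlgHom.ext
    intro x
    rw [AlgHom.comp_apply, AlgHom.comp_apply, AlgHom.comp_apply]
    change ψ (evC φ s (MonoidAlgebra.single 1 x)) = evC (ψ.comp φ) (TPt.map ψ s) (MonoidAlgebra.single 1 x)
    rw [evC_single, evC_single, map_one, map_one, Units.val_one, mul_one, Units.val_one, mul_one]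
    rfl

end ev

section glike

variable {B : Type u} [CommRing B] {Γ : Type} [CommGroup Γ]

lemma glike_key (x : MonoidAlgebra B Γ) (h : dg B Γ x = inc₁ B Γ x * inc₂ B Γ x) (γ : Γ) :
    MonoidAlgebra.single γ (x.coeff γ) = x.coeff γ • x := by
  rw [← dg_apply_coeff, h, inc_mul_apply_coeff]

end glike

section datum

variable {R A : Type u} [CommRing R] [CommRing A] [Algebra R A] [PtGrp R A] (D : Datum R A)

/-- the point `g` acts on the torus by `w` -/
def ActsB {B : Type u} [CommRing B] [Algebra R B] (g : Pt R A B) (w : D.M →+ D.M) : Prop :=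
  ∀ (C : Type u) [CommRing C] [Algebra R C] (φ : B →ₐ[R] C) (s : TPt D.M C),
    Pt.map φ g * D.i C s * (Pt.map φ g)⁻¹ = D.i C (pre w s)

/-- the point `g` normalises the torus -/
def NormT {B : Type u} [CommRing B] [Algebra R B] (g : Pt R A B) : Prop :=
  ∀ (C : Type u) [CommRing C] [Algebra R C] (φ : B →ₐ[R] C) (s : TPt D.M C),
    ∃ t, Pt.map φ g * D.i C s * (Pt.map φ g)⁻¹ = D.i C t

variable {D} {B : Type u} [CommRing B] [Algebra R B]

lemma ActsB.normT {g : Pt R A B} {w : D.M →+ D.M} (h : ActsB D g w) : NormT D g :=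
  fun C _ _ φ s => ⟨_, h C φ s⟩

lemma ActsB.map {C : Type u} [CommRing C] [Algebra R C] {g : Pt R A B} {w : D.M →+ D.M}
    (h : ActsB D g w) (φ : B →ₐ[R] C) : ActsB D (Pt.map φ g) w := by
  intro C' _ _ ψ s
  rw [Pt.map_map]
  exact h C' _ s

lemma NormT.map {C : Type u} [CommRing C] [Algebra R C] {g : Pt R A B}
    (h : NormT D g) (φ : B →ₐ[R] C) : NormT D (Pt.map φ g) := by
  intro C' _ _ ψ s
  rw [Pt.map_map]
  exact h C' _ s

lemma NormT.mul {g g' : Pt R A B} (h : NormT D g) (h' : NormT D g') : NormT D (g * g') := by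
  intro C _ _ φ s
  obtain ⟨t, ht⟩ := h' C φ s
  obtain ⟨t', ht'⟩ := h C φ t
  refine ⟨t', ?_⟩
  rw [← ht', ← ht, Pt.map_mul]
  group

lemma ActsB.mul {g g' : Pt R A B} {w w' : D.M →+ D.M} (h : ActsB D g w) (h' : ActsB D g' w') :
    ActsB D (g * g') (w'.comp w) := by
  intro C _ _ φ s
  rw [← pre_pre, ← h C φ, ← h' C φ, Pt.map_mul]
  group

lemma ActsB.one : ActsB D (1 : Pt R A B) (AddMonoidHom.id _) := by
  intro C _ _ φ s
  rw [Pt.map_one, one_mul, inv_one, mul_one, pre_id]

lemma ActsB.inv {g : Pt R A B} {w w' : D.M →+ D.M} (h : ActsB D g w)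
    (hw : w'.comp w = AddMonoidHom.id _) : ActsB D g⁻¹ w' := by
  intro C _ _ φ s
  have h1 := h C φ (pre w' s)
  rw [pre_pre, hw, pre_id] at h1
  rw [Pt.map_inv, inv_inv, ← h1]
  group

lemma ActsB.i (t : TPt D.M B) : ActsB D (D.i B t) (AddMonoidHom.id _) := by
  intro C _ _ φ s
  rw [D.i_nat, pre_id, ← D.i_inv', ← D.i_mul', ← D.i_mul']
  congr 1
  apply TPt.ext_ch
  intro m
  rw [TPt.ch_mul, TPt.ch_mul, mul_right_comm, ch_mul_ch_inv, one_mul]

/-- the weights are determined by the action -/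
lemma ActsB.unique [Nontrivial B] {g : Pt R A B} {w w' : D.M →+ D.M} (h : ActsB D g w)
    (h' : ActsB D g w') : w = w' := by
  have h1 := (h _ (IsScalarTower.toAlgHom R B (MonoidAlgebra B (Multiplicative D.M))) (sM D.M B)).symm.trans
    (h' _ (IsScalarTower.toAlgHom R B (MonoidAlgebra B (Multiplicative D.M))) (sM D.M B))
  have h2 := D.i_inj _ h1
  ext m
  have h3 := congrArg (TPt.ch m) h2
  rw [ch_pre, ch_pre, ch_sM, ch_sM] at h3
  exact congrArg Multiplicative.toAdd (MonoidAlgebra.of_injective h3)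

section nn

variable (P : RootPairing D.idx ℤ D.M (Module.Dual ℤ D.M)) (hP : ∀ a, P.root a = D.root a)
  (hpe : P.toLinearMap = Module.Dual.eval ℤ D.M)

include hP hpe in
lemma acts_nn {a : D.idx} (hr : Rank1 P a) :
    ActsB D (nn P a B) (P.reflection a).toLinearMap.toAddMonoidHom := by
  intro C _ _ φ s
  rw [nn_nat, nn_act' P hP hpe hr]
  rfl

include hP hpe in
lemma acts_gw (l : List D.idx) (hr : ∀ a ∈ l, Rank1 P a) :
    ActsB D (Cox.gw P l B) (wl P l)⁻¹.toLinearMap.toAddMonoidHom := by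
  induction l with
  | nil => exact ActsB.one
  | cons a l ih =>
    have h1 := (acts_nn (B := B) P hP hpe (hr a List.mem_cons_self)).mul
      (ih (fun c hc => hr c (List.mem_cons_of_mem _ hc)))
    rw [Cox.gw_cons]
    have h2 : (wl P (a :: l))⁻¹.toLinearMap.toAddMonoidHom =
        (wl P l)⁻¹.toLinearMap.toAddMonoidHom.comp (P.reflection a).toLinearMap.toAddMonoidHom := by
      rw [wl_cons, mul_inv_rev]
      have h3 : (P.reflection a)⁻¹ = P.reflection a := P.reflection_inv a
      rw [h3]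
      rfl
    rw [h2]
    exact h1

end nn

lemma theta_mul {C : Type u} [CommRing C] [Algebra R C]
    (d i1 i2 : MonoidAlgebra B (Multiplicative D.M) →ₐ[R] C)
    (e1 : d.comp (IsScalarTower.toAlgHom R B _) = i1.comp (IsScalarTower.toAlgHom R B _))
    (e2 : i2.comp (IsScalarTower.toAlgHom R B _) = i1.comp (IsScalarTower.toAlgHom R B _))
    (hs : ∀ m : Multiplicative D.M, d (MonoidAlgebra.single m 1) =
      i1 (MonoidAlgebra.single m 1) * i2 (MonoidAlgebra.single m 1)) {g : Pt R A B}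
    {θ : TPt D.M (MonoidAlgebra B (Multiplicative D.M))}
    (hθ : Pt.map (IsScalarTower.toAlgHom R B (MonoidAlgebra B (Multiplicative D.M))) g *
      D.i _ (sM D.M B) *
      (Pt.map (IsScalarTower.toAlgHom R B (MonoidAlgebra B (Multiplicative D.M))) g)⁻¹ = D.i _ θ)
    (m : D.M) : d (TPt.ch m θ) = i1 (TPt.ch m θ) * i2 (TPt.ch m θ) := by
  have hs' : TPt.map d (sM D.M B) = TPt.map i1 (sM D.M B) * TPt.map i2 (sM D.M B) := by
    apply TPt.ext_ch
    intro m
    rw [TPt.ch_mul, TPt.ch_map, TPt.ch_map, TPt.ch_map, ch_sM]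
    exact hs _
  have k : ∀ j : MonoidAlgebra B (Multiplicative D.M) →ₐ[R] C,
      j.comp (IsScalarTower.toAlgHom R B _) = i1.comp (IsScalarTower.toAlgHom R B _) →
      D.i _ (TPt.map j θ) = Pt.map (i1.comp (IsScalarTower.toAlgHom R B _)) g *
        D.i _ (TPt.map j (sM D.M B)) * (Pt.map (i1.comp (IsScalarTower.toAlgHom R B _)) g)⁻¹ := by
    intro j hj
    have h1 := congrArg (Pt.map j) hθ
    rw [Pt.map_mul, Pt.map_mul, Pt.map_inv, D.i_nat, D.i_nat, Pt.map_map] at h1
    rw [← h1, ← hj]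
  have h2 : TPt.map d θ = TPt.map i1 θ * TPt.map i2 θ := by
    apply D.i_inj
    rw [D.i_mul', k d e1, k i1 rfl, k i2 e2, hs', D.i_mul']
    group
  have h3 := congrArg (TPt.ch m) h2
  rw [TPt.ch_mul, TPt.ch_map, TPt.ch_map, TPt.ch_map] at h3
  exact h3

/-- the universal conjugate of a point normalising the torus -/
theorem exists_theta {g : Pt R A B} (hN : NormT D g) :
    ∃ θ : TPt D.M (MonoidAlgebra B (Multiplicative D.M)),
      (∀ (C : Type u) [CommRing C] [Algebra R C] (φ : B →ₐ[R] C) (s : TPt D.M C),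
        Pt.map φ g * D.i C s * (Pt.map φ g)⁻¹ = D.i C (TPt.map (evC φ s) θ)) ∧
      ∀ m, dg B _ (TPt.ch m θ) = inc₁ B _ (TPt.ch m θ) * inc₂ B _ (TPt.ch m θ) := by
  obtain ⟨θ, hθ⟩ := hN _ (IsScalarTower.toAlgHom R B (MonoidAlgebra B (Multiplicative D.M)))
    (sM D.M B)
  refine ⟨θ, ?_, ?_⟩
  · intro C _ _ φ s
    have h1 := congrArg (Pt.map (evC φ s)) hθ
    rw [Pt.map_mul, Pt.map_mul, Pt.map_inv, D.i_nat, D.i_nat, map_evC_sM, Pt.map_map,
      evC_comp_alg] at h1
    exact h1
  · intro m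
    refine theta_mul ((dg B (Multiplicative D.M)).restrictScalars R)
      ((inc₁ B (Multiplicative D.M)).restrictScalars R)
      ((inc₂ B (Multiplicative D.M)).restrictScalars R) ?_ ?_ ?_ hθ m
    · exact AlgHom.ext fun x => ((dg B (Multiplicative D.M)).commutes x).trans
        ((inc₁ B (Multiplicative D.M)).commutes x).symm
    · exact AlgHom.ext fun x => ((inc₂ B (Multiplicative D.M)).commutes x).trans
        ((inc₁ B (Multiplicative D.M)).commutes x).symm
    · intro m
      change dg B _ _ = inc₁ B _ _ * inc₂ B _ _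
      rw [dg_single, inc₁_single, inc₂_single, MonoidAlgebra.single_mul_single, one_mul, mul_one]

/-- over a field a point normalising the torus acts by an additive map -/
theorem exists_acts {K : Type u} [Field K] [Algebra R K] {γ : Pt R A K} (hN : NormT D γ) :
    ∃ w : D.M →+ D.M, ActsB D γ w := by
  obtain ⟨θ, h1, h2⟩ := exists_theta hN
  have h3 : ∀ m : D.M, ∃ k, TPt.ch m θ = MonoidAlgebra.single k 1 := fun m =>
    exists_eq_single _ (TPt.isUnit_ch m θ) (h2 m)
  choose w₀ hw₀ using h3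
  have hinj : Function.Injective (fun m : Multiplicative D.M =>
    (MonoidAlgebra.single m 1 : MonoidAlgebra K (Multiplicative D.M))) := MonoidAlgebra.of_injective
  let w : D.M →+ D.M := AddMonoidHom.mk' (fun m => (w₀ m).toAdd) (fun m n => by
    have h4 : MonoidAlgebra.single (w₀ (m + n)) (1 : K) = MonoidAlgebra.single (w₀ m * w₀ n) 1 := by
      rw [← hw₀, TPt.ch_add, hw₀, hw₀, MonoidAlgebra.single_mul_single, mul_one]
    exact congrArg Multiplicative.toAdd (hinj h4))
  refine ⟨w, fun C _ _ φ s => ?_⟩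
  rw [h1]
  congr 1
  apply TPt.ext_ch
  intro m
  rw [TPt.ch_map, hw₀, evC_single, map_one, one_mul]
  rfl

section main

variable (P : RootPairing D.idx ℤ D.M (Module.Dual ℤ D.M)) (hP : ∀ a, P.root a = D.root a)
  (hpe : P.toLinearMap = Module.Dual.eval ℤ D.M) (Δ : P.Base) (hG : D.Good)
  (hr : ∀ a ∈ Δ.support, Rank1 P a)

include hP hpe Δ hG hr in
/-- **Field case.** -/
theorem exists_word_of_normT [Algebra.Smooth R A] (hdom : ∀ (K : Type u) [Field K] [Algebra R K],
      IsDomain (K ⊗[R] A)) {K : Type u} [Field K] [IsAlgClosed K] [Algebra R K] {γ : Pt R A K}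
    (hN : NormT D γ) : ∃ l : List D.idx, (∀ d ∈ l, d ∈ Δ.support) ∧ ∃ t : TPt D.M K,
      γ = Cox.gw P l K * D.i K t := by
  have hft : Algebra.FiniteType R A := inferInstance
  have := hdom K
  obtain ⟨w, hw⟩ := exists_acts hN
  obtain ⟨E, hEi, -⟩ := Rigid.exists_pinCell P hP hpe Δ hG hr hdom
  have hperm : ∀ (γ : Pt R A K) (w : D.M →+ D.M), ActsB D γ w →
      ∃ e : Equiv.Perm D.idx, ∀ c, w (P.root c) = P.root (e c) := by
    intro γ w hw
    apply exists_perm
    intro a
    refine weights_perm E γ w ?_ a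
    intro C _ _ φ s
    rw [hEi, hEi]
    exact hw C φ s
  obtain ⟨e, he⟩ := hperm γ w hw
  obtain ⟨l, hl, hl'⟩ := exists_word_pos Δ w e he
  set γ' : Pt R A K := (Cox.gw P l K)⁻¹ * γ with hγ'
  have hw' : ActsB D γ' (w.comp (wl P l).toLinearMap.toAddMonoidHom) := by
    refine ActsB.mul ((acts_gw (B := K) P hP hpe l (fun a ha => hr a (hl a ha))).inv ?_) hw
    ext m
    change wl P l ((wl P l)⁻¹ m) = m
    rw [← LinearEquiv.mul_apply, mul_inv_cancel]
    rfl
  obtain ⟨e', he'⟩ := hperm γ' _ hw'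
  obtain ⟨lam, hlam, hlam'⟩ := exists_inv_functional Δ _ e' he' (fun i hi => by
    have h1 := hl' i hi
    have h2 : e' i = e (gi' P l i) := by
      apply P.root.injective
      rw [← he', ← he, ← wl_root]
      rfl
    rwa [h2])
  obtain ⟨t, ht, -⟩ := exists_eq_i_of_conj hG lam (fun a => by rw [← hP]; exact hlam a) γ'
    (θ' := D.cochar (lam.comp (w.comp (wl P l).toLinearMap.toAddMonoidHom))) (by
      intro a
      rw [ch_cochar, ← hP, ← hlam']
      rfl) (by
      rw [hw' _ (lC R K)]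
      congr 1
      apply TPt.ext_ch
      intro m
      rw [ch_pre, ch_cochar, ch_cochar]
      rfl)
  refine ⟨l, hl, t, ?_⟩
  rw [← ht, hγ']
  group

end main

end datum

end K213.Norm
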