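import Groth.Agent.Red.K213.NormD

/-!
# Points normalising the torus of a chart datum are Zariski locally of the form `n_w t`
-/

set_option autoImplicit false
set_option linter.unusedSectionVars false
universe u

open TensorProduct

namespace K213.Norm

open Groth.Agent.Sga3B Groth.Agent.Sga3B.Cell Groth.Agent.Sga3B.Cell.Datum Groth.Agent.Sga3B.Word
  K213.RkOneR Groth.Agent.Sga3B.InfConj Groth.Agent.Sga3B.DSRigid

section datum

variable {R A : Type u} [CommRing R] [CommRing A] [Algebra R A] [PtGrp R A] {D : Datum R A}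
variable {B : Type u} [CommRing B] [Algebra R B]
variable (P : RootPairing D.idx ℤ D.M (Module.Dual ℤ D.M)) (hP : ∀ a, P.root a = D.root a)
  (hpe : P.toLinearMap = Module.Dual.eval ℤ D.M) (Δ : P.Base) (hG : D.Good)
  (hr : ∀ a ∈ Δ.support, Rank1 P a)

/-- torus points agreeing on a basis agree -/
lemma TPt_ext_basis {M : Type} [AddCommGroup M] {ι : Type*} (b : Module.Basis ι ℤ M) {C : Type u}
    [CommRing C] {s t : TPt M C} (h : ∀ i, TPt.ch (b i) s = TPt.ch (b i) t) : s = t := by
  have h1 : (MonoidHom.toAdditiveRight s).toIntLinearMap = (MonoidHom.toAdditiveRight t).toIntLinearMap := by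
    apply b.ext
    intro i
    exact congrArg Additive.ofMul (Units.ext (h i))
  apply MonoidHom.ext
  intro m
  have h2 := DFunLike.congr_fun h1 m.toAdd
  exact Additive.ofMul.injective h2

include hG in
/-- a point acting trivially on the torus is in the torus -/
theorem exists_eq_i_of_acts_id [Algebra.Smooth R A] (hdom : ∀ (K : Type u) [Field K] [Algebra R K],
      IsDomain (K ⊗[R] A)) {g : Pt R A B} (h : ActsB D g (AddMonoidHom.id _)) :
    ∃ t : TPt D.M B, g = D.i B t := by
  have hft : Algebra.FiniteType R A := inferInstance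
  apply exists_eq_i hG
  · intro C _ _ φ s
    have h1 := h C φ s
    rw [pre_id, mul_inv_eq_iff_eq_mul] at h1
    exact h1.symm
  · intro K _ _ _ φ
    have := hdom K
    obtain ⟨lam, hlam⟩ := exists_dual_ne_zero (fun a : D.idx => D.root a) (fun a => D.root_ne a)
    obtain ⟨t, ht, -⟩ := exists_eq_i_of_conj hG lam hlam (Pt.map φ g) (θ' := D.cochar lam)
      (fun a => ch_cochar _ _ _) (by
        rw [(h.map φ) _ (lC R K), pre_id])
    exact ⟨t, ht⟩

/-- a group-like element with invertible coefficient -/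
lemma evC_eq_of_unit {M : Type} [AddCommGroup M] (x : MonoidAlgebra B (Multiplicative M))
    (h : dg B _ x = inc₁ B _ x * inc₂ B _ x) (m : M) {C : Type u} [CommRing C] [Algebra R C]
    (φ : B →ₐ[R] C) (hu : IsUnit (φ (x.coeff (Multiplicative.ofAdd m)))) (s : TPt M C) :
    evC φ s x = TPt.ch m s := by
  have h1 := congrArg (evC φ s) (glike_key x h (Multiplicative.ofAdd m))
  rw [evC_single, Algebra.smul_def, map_mul, MonoidAlgebra.coe_algebraMap, Function.comp_apply,
    evC_single, map_one, Units.val_one, mul_one] at h1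
  exact (hu.mul_left_cancel h1).symm

include hP hpe Δ hG hr in
/-- **Local structure of points normalising the torus.** -/
theorem exists_local [Algebra.Smooth R A] (hdom : ∀ (K : Type u) [Field K] [Algebra R K],
      IsDomain (K ⊗[R] A)) {g : Pt R A B} (hN : NormT D g) (𝔭 : Ideal B) [𝔭.IsPrime] :
    ∃ f : B, f ∉ 𝔭 ∧ ∃ l : List D.idx, (∀ d ∈ l, d ∈ Δ.support) ∧
      ∃ t : TPt D.M (Localization.Away f),
        Pt.map (IsScalarTower.toAlgHom R B (Localization.Away f)) g =
          Cox.gw P l (Localization.Away f) * D.i _ t := by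
  classical
  let κ := 𝔭.ResidueField
  let K := AlgebraicClosure κ
  let φ₀ : B →+* K := (algebraMap κ K).comp (algebraMap B κ)
  let _ : Algebra R K := (φ₀.comp (algebraMap R B)).toAlgebra
  let φ : B →ₐ[R] K := { φ₀ with commutes' := fun r => rfl }
  have hφ : ∀ x ∈ 𝔭, φ x = 0 := by
    intro x hx
    change algebraMap κ K (algebraMap B κ x) = 0
    rw [Ideal.algebraMap_residueField_eq_zero.mpr hx, map_zero]
  obtain ⟨l, hl, t, ht⟩ := exists_word_of_normT P hP hpe Δ hG hr hdom (hN.map φ)
  have hgw : ActsB D (Cox.gw P l B) (wl P l)⁻¹.toLinearMap.toAddMonoidHom :=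
    acts_gw P hP hpe l (fun a ha => hr a (hl a ha))
  have hgwi : ActsB D (Cox.gw P l B)⁻¹ (wl P l).toLinearMap.toAddMonoidHom := by
    refine hgw.inv ?_
    ext m
    change wl P l ((wl P l)⁻¹ m) = m
    rw [← LinearEquiv.mul_apply, mul_inv_cancel]
    rfl
  have gw_nat : ∀ {C C' : Type u} [CommRing C] [Algebra R C] [CommRing C'] [Algebra R C']
      (ψ : C →ₐ[R] C'), Pt.map ψ (Cox.gw P l C) = Cox.gw P l C' := by
    intro C C' _ _ _ _ ψ
    rw [Cox.gw, Cox.gw, Pt.map_list_prod, List.map_map]
    congr 1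
    apply List.map_congr_left
    intro a _
    exact nn_nat P a ψ
  set g' : Pt R A B := (Cox.gw P l B)⁻¹ * g with hg'
  have hg'N : NormT D g' := hgwi.normT.mul hN
  obtain ⟨θ, hθ1, hθ2⟩ := exists_theta hg'N
  have hK : Pt.map φ g' = D.i K t := by
    rw [hg', Pt.map_mul, Pt.map_inv, gw_nat, ht]
    group
  -- the coefficients
  have hcoef : ∀ m : D.M, (TPt.ch m θ).coeff (Multiplicative.ofAdd m) ∉ 𝔭 := by
    intro m hm
    let ι : K →ₐ[R] MonoidAlgebra K (Multiplicative D.M) := IsScalarTower.toAlgHom R K _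
    have h1 := hθ1 _ (ι.comp φ) (sM D.M K)
    have h2 := (ActsB.i t) _ ι (sM D.M K)
    rw [← Pt.map_map, hK, h2, pre_id] at h1
    have h3 := congrArg (TPt.ch m) (D.i_inj _ h1)
    rw [TPt.ch_map, ch_sM] at h3
    have h4 : evC (ι.comp φ) (sM D.M K) =
        (MonoidAlgebra.mapAlgHom (Multiplicative D.M) φ) := by
      apply MonoidAlgebra.algHom_ext
      · intro k
        rw [evC_single, map_one, one_mul]
        change MonoidAlgebra.single k 1 = _
        simp
      · apply AlgHom.ext
        intro x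
        change evC (ι.comp φ) (sM D.M K) (MonoidAlgebra.single 1 x) =
          MonoidAlgebra.mapAlgHom (Multiplicative D.M) φ (MonoidAlgebra.single 1 x)
        rw [evC_single, map_one, Units.val_one, mul_one]
        simp [ι]
    rw [h4] at h3
    have h5 := congrArg (fun z : MonoidAlgebra K (Multiplicative D.M) =>
      z.coeff (Multiplicative.ofAdd m)) h3
    simp only [MonoidAlgebra.coeff_mapAlgHom, MonoidAlgebra.coeff_single,
      Finsupp.single_eq_same, hφ _ hm] at h5
    exact one_ne_zero h5
  let bM := Module.Free.chooseBasis ℤ D.M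
  let f : B := ∏ j, (TPt.ch (bM j) θ).coeff (Multiplicative.ofAdd (bM j))
  have hf : f ∉ 𝔭 := by
    intro h
    obtain ⟨j, -, hj⟩ := (Ideal.IsPrime.prod_mem_iff).mp h
    exact hcoef _ hj
  refine ⟨f, hf, l, hl, ?_⟩
  let ψ := IsScalarTower.toAlgHom R B (Localization.Away f)
  have hact : ActsB D (Pt.map ψ g') (AddMonoidHom.id _) := by
    intro C _ _ χ s
    rw [Pt.map_map, hθ1, pre_id]
    congr 1
    apply TPt_ext_basis bM
    intro j
    rw [TPt.ch_map]
    apply evC_eq_of_unit _ (hθ2 _)
    have h1 : IsUnit ((χ.comp ψ) f) := by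
      have h2 : IsUnit (ψ f) := by
        change IsUnit (algebraMap B (Localization.Away f) f)
        exact IsLocalization.Away.algebraMap_isUnit f
      exact h2.map χ
    rw [map_prod] at h1
    exact isUnit_of_dvd_unit (Finset.dvd_prod_of_mem
      (fun x => (χ.comp ψ) ((TPt.ch (bM x) θ).coeff (Multiplicative.ofAdd (bM x))))
      (Finset.mem_univ j)) h1
  obtain ⟨t', ht'⟩ := exists_eq_i_of_acts_id hG hdom hact
  refine ⟨t', ?_⟩
  rw [← ht', hg', Pt.map_mul, Pt.map_inv, gw_nat]
  group
  rfl

end datum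

end K213.Norm
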