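import Groth.Agent.Red.K213.NormC

/-!
# The Coxeter presentation, for elements normalising a subgroup
-/

set_option autoImplicit false
set_option linter.unusedSectionVars false
universe u

namespace K213.Norm

open Groth.Agent.Sga3A.Weyl Groth.Agent.Sga3A.WordExchange Groth.Agent.Sga3B

variable {ι M : Type} [Finite ι] [AddCommGroup M] [Module.Free ℤ M] [Module.Finite ℤ M]
  {P : RootPairing ι ℤ M (Module.Dual ℤ M)} (b : P.Base)

/-- the Weyl group acts on the characters -/
noncomputable def wH (P : RootPairing ι ℤ M (Module.Dual ℤ M)) : P.weylGroup →* (M ≃ₗ[ℤ] M) :=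
  (RootPairing.Equiv.weightHom P).comp P.weylGroup.subtype

lemma wH_injective : Function.Injective (wH P) :=
  (RootPairing.Equiv.weightHom_injective P).comp P.weylGroup.subtype_injective

lemma wH_srefl (j : b.support) : wH P (srefl b j) = P.reflection (j : ι) := by
  ext m
  rfl

lemma wH_wp (ω : List b.support) : wH P (wp (srefl b) ω) = wl P (ω.map Subtype.val) := by
  rw [map_wp]
  induction ω with
  | nil => rfl
  | cons d ω ih => rw [wp_cons, ih, List.map_cons, wl_cons, wH_srefl]

theorem cox_quot_aux {Γ : Type*} [Group Γ] (T : Subgroup Γ) (p : b.support → Γ)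
    (hp : ∀ a, p a ∈ Subgroup.normalizer (T : Set Γ))
    (hrel : ∀ a c : b.support, (p a * p c) ^ orderOf (P.reflection (a : ι) * P.reflection (c : ι)) ∈ T)
    (l l' : List b.support)
    (h : wl P (l.map Subtype.val) = wl P (l'.map Subtype.val)) :
    ((l'.map p).prod)⁻¹ * (l.map p).prod ∈ T := by
  have hred : P.IsReduced := PinComb.isReduced b
  let NN := Subgroup.normalizer (T : Set Γ)
  let T' : Subgroup NN := T.subgroupOf NN
  have hnorm : T'.Normal := Subgroup.normal_in_normalizer
  let p' : b.support → NN := fun a => ⟨p a, hp a⟩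
  let τ : b.support → NN ⧸ T' := fun a => QuotientGroup.mk' T' (p' a)
  have hmem : ∀ x : NN, QuotientGroup.mk' T' x = 1 ↔ (x : Γ) ∈ T := by
    intro x
    rw [QuotientGroup.mk'_apply, QuotientGroup.eq_one_iff, Subgroup.mem_subgroupOf]
  have hrel' : ∀ a c : b.support, (τ a * τ c) ^ orderOf (srefl b a * srefl b c) = 1 := by
    intro a c
    have h1 : orderOf (srefl b a * srefl b c) =
        orderOf (P.reflection (a : ι) * P.reflection (c : ι)) := by
      rw [← wH_srefl b a, ← wH_srefl b c, ← map_mul]
      exact (orderOf_injective (wH P) wH_injective _).symm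
    rw [h1]
    have h2 : (τ a * τ c) ^ orderOf (P.reflection (a : ι) * P.reflection (c : ι)) =
        QuotientGroup.mk' T' ((p' a * p' c) ^ orderOf (P.reflection (a : ι) * P.reflection (c : ι))) := by
      rw [map_pow, map_mul]
    rw [h2, hmem]
    exact hrel a c
  have hτ : ∀ a, τ a * τ a = 1 := by
    intro a
    have h1 := hrel' a a
    rw [srefl_mul_self, orderOf_one, pow_one] at h1
    exact h1
  have key := wp_eq_one (srefl_mul_self b) hτ (exch b) hrel' (l'.reverse ++ l) (by
    apply wH_injective
    rw [map_one, wp_append, wp_reverse (srefl_mul_self b), map_mul, map_inv, wH_wp, wH_wp, h,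
      inv_mul_cancel])
  rw [wp_append, wp_reverse hτ] at key
  have h3 : ∀ ω : List b.support, wp τ ω = QuotientGroup.mk' T' (ω.map p').prod := by
    intro ω
    rw [wp, map_list_prod, List.map_map]
    rfl
  rw [h3, h3, ← map_inv, ← map_mul, hmem] at key
  have h4 : ∀ ω : List b.support, (((ω.map p').prod : NN) : Γ) = (ω.map p).prod := by
    intro ω
    rw [← Subgroup.coe_subtype, map_list_prod, List.map_map]
    rfl
  rwa [Subgroup.coe_mul, Subgroup.coe_inv, h4, h4] at key

theorem cox_quot {Γ : Type*} [Group Γ] (T : Subgroup Γ) (p : ι → Γ)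
    (hp : ∀ a ∈ b.support, p a ∈ Subgroup.normalizer (T : Set Γ))
    (hrel : ∀ a ∈ b.support, ∀ c ∈ b.support,
      (p a * p c) ^ orderOf (P.reflection a * P.reflection c) ∈ T)
    (l l' : List ι) (hl : ∀ d ∈ l, d ∈ b.support) (hl' : ∀ d ∈ l', d ∈ b.support)
    (h : wl P l = wl P l') : ((l'.map p).prod)⁻¹ * (l.map p).prod ∈ T := by
  obtain ⟨l, rfl⟩ : ∃ ω : List b.support, ω.map Subtype.val = l :=
    ⟨l.attach.map (fun d => ⟨d.1, hl d.1 d.2⟩), by rw [List.map_map]; exact List.attach_map_subtype_val l⟩
  obtain ⟨l', rfl⟩ : ∃ ω : List b.support, ω.map Subtype.val = l' :=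
    ⟨l'.attach.map (fun d => ⟨d.1, hl' d.1 d.2⟩), by rw [List.map_map]; exact List.attach_map_subtype_val l'⟩
  have key := cox_quot_aux b T (fun a => p a) (fun a => hp a a.2)
    (fun a c => hrel a a.2 c c.2) l l' h
  rw [List.map_map, List.map_map]
  exact key

end K213.Norm
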