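import Groth.Agent.Red.K213.NormT
import Groth.Agent.Red.K213.NormG

/-!
# Homomorphisms from the normaliser of the torus
-/

set_option autoImplicit false
set_option linter.unusedSectionVars false
universe u

open CategoryTheory MonoidalCategory CartesianMonoidalCategory MonObj GrpObj AlgebraicGeometry Limits

namespace K213.Norm

open Groth.Agent.Sga3B Groth.Agent.Sga3B.Cell Groth.Agent.Sga3B.PinMod Groth.Agent.Sga3B.DSPts
  Groth.Agent.Sga3B.GaPts Groth.Agent.Sga3B.Chart K213.RkOneR K213.PtKit K213.LocGlue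

variable {S : Scheme.{u}} {G : Over S} [GrpObj G] {D : Red.Pinning G}

/-- the action of a point with nonempty source is unique -/
lemma ActsS.unique {X : Over S} [Nonempty X.left] {g : X ⟶ G} {w w' : D.M →+ D.M}
    (h : ActsS D g w) (h' : ActsS D g w') : w = w' := by
  obtain ⟨x⟩ := ‹Nonempty X.left›
  obtain ⟨R, _, s, q, hq, y, hy⟩ := exists_affine x
  obtain ⟨c⟩ := exists_chart' D.toSplitRed R s
  obtain ⟨p, hp⟩ := (c.pts R).surjective (q ≫ g)
  have hR : Nontrivial R := by
    let 𝔭 : PrimeSpectrum R := y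
    by_contra hn
    rw [not_nontrivial_iff_subsingleton] at hn
    exact 𝔭.isPrime.ne_top (Subsingleton.elim _ _)
  exact (actsB_of c (by rw [hp]; exact h.comp q)).unique (actsB_of c (by rw [hp]; exact h'.comp q))

section

variable (hr : ∀ (R : Type u) [CommRing R] (s : Spec (CommRingCat.of R) ⟶ S) (c : Chart G s),
      ∀ a ∈ D.base.support, Rank1 (D := c.datum D.toSplitRed) D.P a)
  (e₁ : 𝟙_ (Over S) ⟶ Red.Ga S) (he₁ : Red.gaFn e₁ = 1)
  (w : D.idx → (𝟙_ (Over S) ⟶ G))
  (hw : ∀ a, w a = (e₁ ≫ D.u a) * (e₁ ≫ D.u (D.P.reflectionPerm a a))⁻¹ * (e₁ ≫ D.u a))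

include hr he₁ hw in
lemma actsS_w {a : D.idx} (ha : a ∈ D.base.support) {X : Over S} (x : X ⟶ 𝟙_ (Over S)) :
    ActsS D (x ≫ w a) (D.P.reflection a).toLinearMap.toAddMonoidHom := by
  intro X' x' t
  rw [← Category.assoc, toUnit_unique (x' ≫ x) (toUnit X')]
  exact w_conj D hr e₁ he₁ w hw ha t

include hr he₁ hw in
lemma actsS_gW (l : List D.idx) (hl : ∀ d ∈ l, d ∈ D.base.support) {X : Over S}
    (x : X ⟶ 𝟙_ (Over S)) :
    ActsS D (x ≫ gW w l) (wl D.P l)⁻¹.toLinearMap.toAddMonoidHom := by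
  induction l with
  | nil => rw [gW_nil, MonObj.comp_one]; exact ActsS.one
  | cons a l ih =>
    rw [gW_cons, MonObj.comp_mul]
    have h1 := (actsS_w hr e₁ he₁ w hw (hl a List.mem_cons_self) x).mul
      (ih (fun d hd => hl d (List.mem_cons_of_mem _ hd)))
    have h2 : (wl D.P (a :: l))⁻¹.toLinearMap.toAddMonoidHom =
        (wl D.P l)⁻¹.toLinearMap.toAddMonoidHom.comp
          (D.P.reflection a).toLinearMap.toAddMonoidHom := by
      rw [wl_cons, _root_.mul_inv_rev]
      have h3 : (D.P.reflection a)⁻¹ = D.P.reflection a := D.P.reflection_inv a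
      rw [h3]
      rfl
    rw [h2]
    exact h1

lemma actsS_T {X : Over S} (t : X ⟶ D.T) : ActsS D (t ≫ D.i) (AddMonoidHom.id _) := by
  have hmon : IsMonHom D.i := D.maximalTorus.1
  have hmono : Mono D.i := D.maximalTorus.2.1
  intro X' x t'
  rw [sT_id, Category.comp_id, ← Category.assoc, ← MonObj.mul_comp, ← GrpObj.inv_comp,
    ← MonObj.mul_comp]
  congr 1
  -- the torus is commutative
  rw [← cancel_mono D.i]
  apply hom_ext_tB
  intro R _ s g
  obtain ⟨c⟩ := exists_chart' D.toSplitRed R s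
  obtain ⟨τ, hτ⟩ := exists_tp D (s := s) (g ≫ x ≫ t)
  obtain ⟨τ', hτ'⟩ := exists_tp D (s := s) (g ≫ t')
  rw [MonObj.mul_comp, MonObj.mul_comp, GrpObj.inv_comp, MonObj.comp_mul, MonObj.comp_mul,
    GrpObj.comp_inv, ← Category.assoc g (x ≫ t), ← Category.assoc g t', hτ, hτ', tp_i D c,
    tp_i D c, ← map_inv, ← map_mul, ← map_mul, ← Datum.i_inv', ← Datum.i_mul', ← Datum.i_mul']
  congr 2
  apply TPt.ext_ch
  intro m
  rw [TPt.ch_mul, TPt.ch_mul, mul_right_comm]
  exact (congrArg (· * TPt.ch m τ') (Word.ch_mul_ch_inv m τ)).trans (_root_.one_mul _)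

include hr he₁ hw in
/-- `(w_a w_b)^n` is in the torus -/
lemma exists_tab {a c : D.idx} (ha : a ∈ D.base.support) (hc : c ∈ D.base.support) :
    ∃ t : 𝟙_ (Over S) ⟶ D.T,
      t ≫ D.i = (w a * w c) ^ orderOf (D.P.reflection a * D.P.reflection c) := by
  apply exists_T_of_acts_id
  set n := orderOf (D.P.reflection a * D.P.reflection c) with hn
  have h1 : ∀ k : ℕ, (w a * w c) ^ k = gW w ((List.replicate k [a, c]).flatten) := by
    intro k
    induction k with
    | zero => simp
    | succ k ih =>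
      rw [pow_succ', ih, List.replicate_succ, List.flatten_cons]
      simp [gW, _root_.mul_assoc]
  have h2 : ∀ k : ℕ, wl D.P ((List.replicate k [a, c]).flatten) =
      (D.P.reflection a * D.P.reflection c) ^ k := by
    intro k
    induction k with
    | zero => simp
    | succ k ih =>
      rw [pow_succ', List.replicate_succ, List.flatten_cons, wl_append, ih]
      simp [wl, _root_.mul_assoc]
  have h3 := actsS_gW hr e₁ he₁ w hw ((List.replicate n [a, c]).flatten) (by
    intro d hd
    rw [List.mem_flatten] at hd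
    obtain ⟨l, hl, hd⟩ := hd
    rw [List.mem_replicate] at hl
    rw [hl.2] at hd
    rcases List.mem_cons.mp hd with rfl | hd
    · exact ha
    · rw [List.mem_singleton] at hd
      rw [hd]
      exact hc) (𝟙 _)
  rw [Category.id_comp, h2, hn, pow_orderOf_eq_one, ← hn, ← h1] at h3
  exact h3

end

end K213.Norm
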