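import Groth.Agent.Red.K213.NormH

/-!
# Homomorphisms from the normaliser of the torus: existence and uniqueness
-/

set_option autoImplicit false
set_option linter.unusedSectionVars false
universe u

open CategoryTheory MonoidalCategory CartesianMonoidalCategory MonObj GrpObj AlgebraicGeometry Limits

namespace K213.Norm

open Groth.Agent.Sga3B Groth.Agent.Sga3B.Cell Groth.Agent.Sga3B.PinMod Groth.Agent.Sga3B.DSPts
  Groth.Agent.Sga3B.GaPts Groth.Agent.Sga3B.Chart K213.RkOneR K213.PtKit K213.LocGlue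

variable {S : Scheme.{u}} {G : Over S} [GrpObj G] {D : Red.Pinning G}

section

variable {N : Over S} [GrpObj N] (j : N ⟶ G) [IsMonHom j] [Mono j]
  (tN : D.T ⟶ N) [IsMonHom tN] (htN : tN ≫ j = D.i)
  {H : Over S} [GrpObj H] (fT : D.T ⟶ H) [IsMonHom fT] (w : D.idx → (𝟙_ (Over S) ⟶ G))
  (n : D.idx → (𝟙_ (Over S) ⟶ N)) (hn : ∀ a ∈ D.base.support, n a ≫ j = w a)
  (h : D.idx → (𝟙_ (Over S) ⟶ H))

/-- the torus in the product -/
noncomputable def tG (X : Over S) : (X ⟶ D.T) →* (X ⟶ N) × (X ⟶ H) where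
  toFun t := (t ≫ tN, t ≫ fT)
  map_one' := Prod.ext (MonObj.one_comp _) (MonObj.one_comp _)
  map_mul' t t' := Prod.ext (MonObj.mul_comp _ _ _) (MonObj.mul_comp _ _ _)

/-- the pair attached to a simple root -/
noncomputable def pG (X : Over S) (a : D.idx) : (X ⟶ N) × (X ⟶ H) := (toUnit X ≫ n a, toUnit X ≫ h a)

/-- the graph of the homomorphism to be constructed -/
def Gr (X : Over S) (x : X ⟶ N) (k : X ⟶ H) : Prop :=
  ∃ l : List D.idx, (∀ d ∈ l, d ∈ D.base.support) ∧ ∃ t : X ⟶ D.T,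
    (x, k) = (l.map (pG n h X)).prod * tG tN fT X t

variable {fT n h tN}

lemma pG_comp {X Y : Over S} (r : Y ⟶ X) (l : List D.idx) :
    (r ≫ ((l.map (pG n h X)).prod).1, r ≫ ((l.map (pG n h X)).prod).2) =
      (l.map (pG n h Y)).prod := by
  induction l with
  | nil => exact Prod.ext (MonObj.comp_one _) (MonObj.comp_one _)
  | cons a l ih =>
    rw [List.map_cons, List.map_cons, List.prod_cons, List.prod_cons, ← ih]
    refine Prod.ext ?_ ?_
    · change r ≫ ((toUnit X ≫ n a) * _) = _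
      rw [MonObj.comp_mul, comp_toUnit_assoc]
      rfl
    · change r ≫ ((toUnit X ≫ h a) * _) = _
      rw [MonObj.comp_mul, comp_toUnit_assoc]
      rfl

lemma Gr.comp {X Y : Over S} (r : Y ⟶ X) {x : X ⟶ N} {k : X ⟶ H} (hg : Gr tN fT n h X x k) :
    Gr tN fT n h Y (r ≫ x) (r ≫ k) := by
  obtain ⟨l, hl, t, ht⟩ := hg
  refine ⟨l, hl, r ≫ t, ?_⟩
  rw [← pG_comp r l]
  have h1 : x = _ := congrArg Prod.fst ht
  have h2 : k = _ := congrArg Prod.snd ht
  rw [h1, h2]
  refine Prod.ext ?_ ?_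
  · change r ≫ (_ * _) = (r ≫ _) * ((r ≫ t) ≫ tN)
    rw [MonObj.comp_mul, Category.assoc]
    rfl
  · change r ≫ (_ * _) = (r ≫ _) * ((r ≫ t) ≫ fT)
    rw [MonObj.comp_mul, Category.assoc]
    rfl

variable (hN : ∀ a ∈ D.base.support, ∀ (X : Over S) (t : X ⟶ D.T),
    (toUnit X ≫ n a) * (t ≫ tN) * (toUnit X ≫ n a)⁻¹ = (t ≫ sR D a) ≫ tN)
  (hH : ∀ a ∈ D.base.support, ∀ (X : Over S) (t : X ⟶ D.T),
    (toUnit X ≫ h a) * (t ≫ fT) * (toUnit X ≫ h a)⁻¹ = (t ≫ sR D a) ≫ fT)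

include hN hH in
lemma pG_conj (X : Over S) {a : D.idx} (ha : a ∈ D.base.support) (t : X ⟶ D.T) :
    pG n h X a * tG tN fT X t * (pG n h X a)⁻¹ = tG tN fT X (t ≫ sR D a) :=
  Prod.ext (hN a ha X t) (hH a ha X t)

include hN hH in
lemma pG_mem (X : Over S) {a : D.idx} (ha : a ∈ D.base.support) :
    pG n h X a ∈ Subgroup.normalizer ((tG tN fT X).range : Set ((X ⟶ N) × (X ⟶ H))) := by
  rw [Subgroup.mem_normalizer_iff]
  intro g
  constructor
  · rintro ⟨t, rfl⟩
    exact ⟨_, (pG_conj hN hH X ha t).symm⟩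
  · rintro ⟨t, ht⟩
    refine ⟨t ≫ sR D a, ?_⟩
    have h1 := pG_conj hN hH X ha (t ≫ sR D a)
    rw [Category.assoc, sR_sR, Category.comp_id, ht] at h1
    have h2 := mul_right_cancel h1
    exact mul_left_cancel h2

include hN hH in
lemma prod_conj (X : Over S) (l : List D.idx) (hl : ∀ d ∈ l, d ∈ D.base.support) (t : X ⟶ D.T) :
    ∃ t' : X ⟶ D.T, tG tN fT X t * (l.map (pG n h X)).prod = (l.map (pG n h X)).prod * tG tN fT X t' := by
  induction l generalizing t with
  | nil => exact ⟨t, by simp⟩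
  | cons a l ih =>
    have ha := hl a List.mem_cons_self
    obtain ⟨t', ht'⟩ := ih (fun d hd => hl d (List.mem_cons_of_mem _ hd)) (t ≫ sR D a)
    refine ⟨t', ?_⟩
    have h1 := pG_conj hN hH X ha (t ≫ sR D a)
    rw [Category.assoc, sR_sR, Category.comp_id, mul_inv_eq_iff_eq_mul] at h1
    rw [List.map_cons, List.prod_cons, ← _root_.mul_assoc, ← h1, _root_.mul_assoc, ht',
      _root_.mul_assoc]

include hN hH in
lemma Gr.mul {X : Over S} {x x' : X ⟶ N} {k k' : X ⟶ H} (hg : Gr tN fT n h X x k)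
    (hg' : Gr tN fT n h X x' k') : Gr tN fT n h X (x * x') (k * k') := by
  obtain ⟨l, hl, t, ht⟩ := hg
  obtain ⟨l', hl', t', ht'⟩ := hg'
  obtain ⟨t'', ht''⟩ := prod_conj hN hH X l' hl' t
  refine ⟨l ++ l', ?_, t'' * t', ?_⟩
  · intro d hd
    rcases List.mem_append.mp hd with hd | hd
    · exact hl d hd
    · exact hl' d hd
  · have h1 : (x * x', k * k') = (x, k) * (x', k') := rfl
    rw [h1, ht, ht', List.map_append, List.prod_append, map_mul, _root_.mul_assoc, _root_.mul_assoc,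
      ← _root_.mul_assoc (tG tN fT X t), ht'', _root_.mul_assoc]

variable (hab : ∀ a ∈ D.base.support, ∀ c ∈ D.base.support, ∃ t : 𝟙_ (Over S) ⟶ D.T,
    t ≫ tN = (n a * n c) ^ orderOf (D.P.reflection a * D.P.reflection c) ∧
    t ≫ fT = (h a * h c) ^ orderOf (D.P.reflection a * D.P.reflection c))
  (hr : ∀ (R : Type u) [CommRing R] (s : Spec (CommRingCat.of R) ⟶ S) (c : Chart G s),
      ∀ a ∈ D.base.support, Rank1 (D := c.datum D.toSplitRed) D.P a)
  (e₁ : 𝟙_ (Over S) ⟶ Red.Ga S) (he₁ : Red.gaFn e₁ = 1)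
  (hw : ∀ a, w a = (e₁ ≫ D.u a) * (e₁ ≫ D.u (D.P.reflectionPerm a a))⁻¹ * (e₁ ≫ D.u a))

include htN hn in
omit [Mono j] in
lemma fst_j {X : Over S} (l : List D.idx) (hl : ∀ d ∈ l, d ∈ D.base.support) (t : X ⟶ D.T) :
    ((l.map (pG n h X)).prod * tG tN fT X t).1 ≫ j = (toUnit X ≫ gW w l) * (t ≫ D.i) := by
  change (((l.map (pG n h X)).prod).1 * (t ≫ tN)) ≫ j = _
  rw [MonObj.mul_comp, Category.assoc, htN]
  congr 1
  induction l with
  | nil => rw [gW_nil, MonObj.comp_one]; exact MonObj.one_comp _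
  | cons a l ih =>
    rw [gW_cons, MonObj.comp_mul, ← ih (fun d hd => hl d (List.mem_cons_of_mem _ hd)),
      ← hn a (hl a List.mem_cons_self), List.map_cons, List.prod_cons]
    change ((toUnit X ≫ n a) * _) ≫ j = _
    rw [MonObj.mul_comp, Category.assoc]

include hN hH hab hr he₁ hw htN hn in
/-- **Uniqueness of the value.** -/
lemma Gr.unique {X : Over S} {x : X ⟶ N} {k k' : X ⟶ H} (hg : Gr tN fT n h X x k)
    (hg' : Gr tN fT n h X x k') : k = k' := by
  by_cases hX : Nonempty X.left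
  swap
  · apply hom_ext_loc
    intro y
    exact absurd ⟨y⟩ hX
  have hmono : Mono D.i := D.maximalTorus.2.1
  obtain ⟨l, hl, t, ht⟩ := hg
  obtain ⟨l', hl', t', ht'⟩ := hg'
  -- the two words have the same image in the Weyl group
  have e1 := fst_j (X := X) j htN w hn (fT := fT) (h := h) l hl t
  have e2 := fst_j (X := X) j htN w hn (fT := fT) (h := h) l' hl' t'
  rw [← ht] at e1
  rw [← ht'] at e2
  have a1 := (actsS_gW hr e₁ he₁ w hw l hl (toUnit X)).mul (actsS_T t)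
  have a2 := (actsS_gW hr e₁ he₁ w hw l' hl' (toUnit X)).mul (actsS_T t')
  rw [← e1] at a1
  rw [← e2] at a2
  have a3 := a1.unique a2
  have hwl : wl D.P l = wl D.P l' := by
    have h1 : (wl D.P l)⁻¹ = (wl D.P l')⁻¹ := by
      ext m
      exact DFunLike.congr_fun a3 m
    exact inv_injective h1
  -- the Coxeter presentation
  have hrel : ∀ a ∈ D.base.support, ∀ c ∈ D.base.support,
      (pG n h X a * pG n h X c) ^ orderOf (D.P.reflection a * D.P.reflection c) ∈
        (tG tN fT X).range := by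
    intro a ha c hc
    obtain ⟨t₀, h1, h2⟩ := hab a ha c hc
    refine ⟨toUnit X ≫ t₀, ?_⟩
    refine Prod.ext ?_ ?_
    · change (toUnit X ≫ t₀) ≫ tN = ((toUnit X ≫ n a) * (toUnit X ≫ n c)) ^ _
      rw [Category.assoc, h1, CoxS.comp_pow', MonObj.comp_mul]
    · change (toUnit X ≫ t₀) ≫ fT = ((toUnit X ≫ h a) * (toUnit X ≫ h c)) ^ _
      rw [Category.assoc, h2, CoxS.comp_pow', MonObj.comp_mul]
  obtain ⟨t₀, ht₀⟩ := cox_quot D.base (tG tN fT X).range (pG n h X)
    (fun a ha => pG_mem hN hH X ha) hrel l l' hl hl' hwl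
  have h3 : (l.map (pG n h X)).prod = (l'.map (pG n h X)).prod * tG tN fT X t₀ := by
    rw [ht₀]; group
  rw [h3, _root_.mul_assoc, ← map_mul] at ht
  have h4 := congrArg Prod.fst (ht.symm)
  have h5 := congrArg Prod.fst (ht'.symm)
  have h6 : (t₀ * t) ≫ tN = t' ≫ tN := by
    have h7 := h4.trans h5.symm
    exact mul_left_cancel h7
  have h8 : t₀ * t = t' := by
    rw [← cancel_mono D.i, ← htN, ← Category.assoc, ← Category.assoc, h6]
  rw [h8, ← ht'] at ht
  exact congrArg Prod.snd ht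

include hN hH hab hr he₁ hw htN hn in
/-- **Existence of the homomorphism.** -/
theorem exists_hom_N (hj : ∀ (X : Over S) (x : X ⟶ N), NT D (x ≫ j)) :
    ∃ f : N ⟶ H, IsMonHom f ∧ tN ≫ f = fT ∧ ∀ a ∈ D.base.support, n a ≫ f = h a := by
  have hloc : ∀ (X : Over S) (x : X ⟶ N) (z : X.left), ∃ (Y : Over S) (q : Y ⟶ X),
      IsOpenImmersion q.left ∧ z ∈ Set.range q.left ∧ ∃ k : Y ⟶ H, Gr tN fT n h Y (q ≫ x) k := by
    intro X x z
    obtain ⟨Y, q, hq, hz, l, hl, t, ht⟩ := exists_local_word hr e₁ he₁ w hw (hj X x) z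
    refine ⟨Y, q, hq, hz, ((l.map (pG n h Y)).prod * tG tN fT Y t).2, l, hl, t, ?_⟩
    refine Prod.ext ?_ rfl
    rw [← cancel_mono j, fst_j j htN w hn l hl t, Category.assoc]
    exact ht
  obtain ⟨f, hf, -⟩ := exists_hom_of_loc (X := N) (H := H) (fun Y q k => Gr tN fT n h Y q k)
    (fun Y Z r q k hk => hk.comp r)
    (fun Y q k k' hk hk' => Gr.unique j htN w hn hN hH hab hr e₁ he₁ hw hk hk') (by
      intro z
      obtain ⟨Y, q, hq, hz, k, hk⟩ := hloc N (𝟙 N) z
      rw [Category.comp_id] at hk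
      exact ⟨Y, q, hq, hz, k, hk⟩)
  refine ⟨f, ?_, ?_, ?_⟩
  · apply Pts.isMonHom_of_points
    intro X x y
    apply hom_ext_loc
    intro z
    obtain ⟨Y, q, hq, ⟨z', hz'⟩, k, hk⟩ := hloc X x z
    obtain ⟨Y', q', hq', ⟨z'', hz''⟩, k', hk'⟩ := hloc Y (q ≫ y) z'
    refine ⟨Y', q' ≫ q, ?_, ⟨z'', ?_⟩, ?_⟩
    · rw [Over.comp_left]; infer_instance
    · rw [Over.comp_left, Scheme.Hom.comp_apply, hz'', hz']
    · have h1 := hf _ _ _ (hk.comp q')
      have h2 := hf _ _ _ hk'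
      have h3 := hf _ _ _ ((hk.comp q').mul hN hH hk')
      rw [← MonObj.comp_mul, ← MonObj.comp_mul] at h3
      rw [← Category.assoc, Category.assoc q' q, ← h3, MonObj.comp_mul, Category.assoc, Category.assoc,
        h1, h2]
      simp only [Category.assoc]
  · symm
    apply hf
    refine ⟨[], by simp, 𝟙 _, ?_⟩
    rw [List.map_nil, List.prod_nil, _root_.one_mul]
    exact Prod.ext (Category.id_comp _).symm (Category.id_comp _).symm
  · intro a ha
    symm
    apply hf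
    refine ⟨[a], by simpa using ha, 1, ?_⟩
    rw [map_one, _root_.mul_one, List.map_cons, List.map_nil, List.prod_cons, List.prod_nil,
      _root_.mul_one]
    have : toUnit (𝟙_ (Over S)) = 𝟙 _ := toUnit_unique _ _
    refine Prod.ext ?_ ?_
    · change n a = toUnit _ ≫ n a
      rw [this, Category.id_comp]
    · change h a = toUnit _ ≫ h a
      rw [this, Category.id_comp]

include hr he₁ hw htN hn in
/-- **Uniqueness of the homomorphism.** -/
theorem hom_N_unique (hj : ∀ (X : Over S) (x : X ⟶ N), NT D (x ≫ j))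
    {f f' : N ⟶ H} [IsMonHom f] [IsMonHom f'] (h1 : tN ≫ f = tN ≫ f')
    (h2 : ∀ a ∈ D.base.support, n a ≫ f = n a ≫ f') : f = f' := by
  apply hom_ext_loc
  intro z
  obtain ⟨Y, q, hq, hz, l, hl, t, ht⟩ := exists_local_word hr e₁ he₁ w hw (hj N (𝟙 N)) z
  refine ⟨Y, q, hq, hz, ?_⟩
  have h3 : q = ((l.map (pG n (fun a => n a ≫ f) Y)).prod * tG tN (tN ≫ f) Y t).1 := by
    rw [← cancel_mono j, fst_j j htN w hn l hl t, ← ht, Category.id_comp]
  have key : ∀ (k : N ⟶ H) [IsMonHom k], ((l.map (pG n (fun a => n a ≫ f) Y)).prod *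
      tG tN (tN ≫ f) Y t).1 ≫ k = (l.map (fun a => toUnit Y ≫ n a ≫ k)).prod * (t ≫ tN ≫ k) := by
    intro k _
    change (((l.map (pG n (fun a => n a ≫ f) Y)).prod).1 * (t ≫ tN)) ≫ k = _
    rw [MonObj.mul_comp, Category.assoc]
    congr 1
    clear hl ht h3
    induction l with
    | nil => exact MonObj.one_comp _
    | cons a l ih =>
      rw [List.map_cons, List.map_cons, List.prod_cons, List.prod_cons, ← ih]
      change ((toUnit Y ≫ n a) * _) ≫ k = _
      rw [MonObj.mul_comp, Category.assoc]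
  rw [h3, key f, key f', h1]
  congr 2
  apply List.map_congr_left
  intro a ha
  rw [h2 a (hl a ha)]

end

end K213.Norm
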