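import Groth.Agent.Red.K213.CoxS
import Groth.Agent.Sga3B.PinCover
import Mathlib.AlgebraicGeometry.Morphisms.Flat

/-!
# Rigidity: homomorphisms from a pinned group to a group scheme are determined by their values on the
torus, the simple root groups and the elements `w_a`
-/

set_option autoImplicit false
set_option linter.unusedSectionVars false
universe u

open CategoryTheory MonoidalCategory CartesianMonoidalCategory MonObj GrpObj AlgebraicGeometry Limits

namespace K213.Rigid

open Groth.Agent.Sga3B Groth.Agent.Sga3B.Cell Groth.Agent.Sga3B.PinMod Groth.Agent.Sga3B.DSPts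
  Groth.Agent.Sga3B.GaPts Groth.Agent.Sga3B.Chart Groth.Agent.Sga3B.Cell.Datum
  Groth.Agent.Sga3B.PtDescent K213.RkOneR K213.PtKit

section ring

variable {R A : Type u} [CommRing R] [CommRing A] [Algebra R A] [PtGrp R A] {D : Datum R A}
variable (P : RootPairing D.idx ℤ D.M (Module.Dual ℤ D.M)) (hP : ∀ a, P.root a = D.root a)
  (hpe : P.toLinearMap = Module.Dual.eval ℤ D.M) (Δ : P.Base) (hG : D.Good)
  (hr : ∀ a ∈ Δ.support, Rank1 P a)

include hP hpe Δ hG hr in
/-- every root group is conjugate, by a word in the `n_a`, to a simple one -/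
theorem exists_word_conj (c : D.idx) : ∃ (l : List D.idx) (a : D.idx) (r : Rˣ),
    a ∈ Δ.support ∧ (∀ d ∈ l, d ∈ Δ.support) ∧
    ∀ {B : Type u} [CommRing B] [Algebra R B] (x : B),
      D.uu c B x = Cox.gw P l B * D.uu a B (algebraMap R B r * x) * (Cox.gw P l B)⁻¹ := by
  obtain ⟨l, a, ha, hl, hc⟩ := PinComb.exists_word Δ c
  obtain ⟨r, hr'⟩ := Cox.gw_conj P hP hpe Δ hG l (fun d hd => hr d (hl d hd)) a
  refine ⟨l, a, r⁻¹, ha, hl, fun {B} _ _ x => ?_⟩
  rw [hr', ← _root_.mul_assoc, ← map_mul, Units.mul_inv, map_one, _root_.one_mul]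
  rw [hc]
  rfl

include hP hpe Δ hG hr in
/-- a subgroup containing the simple root groups and the `n_a` contains all the root groups -/
theorem uu_mem {B : Type u} [CommRing B] [Algebra R B] (K : Subgroup (Pt R A B))
    (hu : ∀ a ∈ Δ.support, ∀ x : B, D.uu a B x ∈ K) (hn : ∀ a ∈ Δ.support, nn P a B ∈ K)
    (c : D.idx) (x : B) : D.uu c B x ∈ K := by
  obtain ⟨l, a, r, ha, hl, h⟩ := exists_word_conj P hP hpe Δ hG hr c
  rw [h]
  have hg : Cox.gw P l B ∈ K := by
    apply K.list_prod_mem
    intro y hy
    obtain ⟨d, hd, rfl⟩ := List.mem_map.mp hy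
    exact hn d (hl d hd)
  exact K.mul_mem (K.mul_mem hg (hu a ha _)) (K.inv_mem hg)

include hP hpe Δ hG hr in
/-- a subgroup containing the torus, the simple root groups and the `n_a` contains all cells -/
theorem cell_mem {B : Type u} [CommRing B] [Algebra R B] (K : Subgroup (Pt R A B))
    (hi : ∀ t, D.i B t ∈ K)
    (hu : ∀ a ∈ Δ.support, ∀ x : B, D.uu a B x ∈ K) (hn : ∀ a ∈ Δ.support, nn P a B ∈ K)
    (L : List D.idx) (x : D.idx → B) (t : TPt D.M B) : D.cell L x t ∈ K := by
  refine K.mul_mem (K.list_prod_mem ?_) (hi t)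
  intro y hy
  obtain ⟨d, hd, rfl⟩ := List.mem_map.mp hy
  exact uu_mem P hP hpe Δ hG hr K hu hn d _

open TensorProduct in
include hP hpe Δ hG hr in
/-- the pinned cell of a datum with dual simple root homomorphisms -/
theorem exists_pinCell [Algebra.Smooth R A] (hdom : ∀ (K : Type u) [Field K] [Algebra R K],
      IsDomain (K ⊗[R] A)) :
    ∃ E : PinCell P Δ R A, (∀ (B : Type u) [CommRing B] [Algebra R B] (t : TPt D.M B),
        E.i B t = D.i B t) ∧ ∀ a, ∀ (B : Type u) [CommRing B] [Algebra R B] (x : B),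
        E.uu a B x = D.uu a B x := by
  have hfp : Algebra.FinitePresentation R A := inferInstance
  have hft : Algebra.FiniteType R A := inferInstance
  obtain ⟨hinj, I, hI, hmem⟩ := PinBuild.cell_props hG P hP Δ
  exact ⟨{ pairing_eq := hpe
           i := D.i
           i_nat := D.i_nat
           i_inj := D.i_inj
           uu := D.uu
           uu_add := D.uu_add
           uu_nat := D.uu_nat
           uu_surj := D.uu_surj
           rel := fun a B _ _ t x => by
             rw [hP]
             exact D.rel a t x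
           rank1 := fun a ha B _ _ x y v hv => hr a ha x y v hv
           comm := fun a ha c hc hac B _ _ x y => pin_comm P hP Δ hG ha hc hac x y
           conj := fun a ha c => pin_conj P hP Δ hG hpe (hr a ha) c
           cell_inj := fun x x' t t' h => hinj h
           cellIdeal := I
           cellIdeal_fg := hI
           mem_cell_iff := fun g => hmem g
           pos_mul := fun x y => pin_pos_mul P hP Δ hG x y
           neg_mul := fun x y => pin_neg_mul P hP Δ hG x y
           fp := hfp
           smooth := inferInstance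
           domain := hdom }, fun B _ _ t => rfl, fun a B _ _ x => rfl⟩

end ring

section scheme

variable {S : Scheme.{u}} {G : Over S} [GrpObj G] (D : Red.Pinning G) {R : Type u} [CommRing R]
  {s : Spec (CommRingCat.of R) ⟶ S} (c : Chart G s)

/-- the pinned cell of a chart -/
theorem exists_pinCell_chart
    (hr : ∀ a ∈ D.base.support, Rank1 (D := c.datum D.toSplitRed) D.P a) :
    ∃ E : PinCell D.P D.base R c.A, (∀ (B : Type u) [CommRing B] [Algebra R B] (t : TPt D.M B),
        E.i B t = (c.datum D.toSplitRed).i B t) ∧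
      ∀ a, ∀ (B : Type u) [CommRing B] [Algebra R B] (x : B),
        E.uu a B x = (c.datum D.toSplitRed).uu a B x := by
  have : Smooth G.hom := D.reductive.2.1
  have : Algebra.Smooth R c.A := ChartFib.smooth_of_isPullback c.isPullback
  exact exists_pinCell (D := c.datum D.toSplitRed) D.P (fun _ => rfl) D.pairing_eq D.base
    (PinModelOf.good D.toSplitRed c) hr
    (fun K _ _ => ChartFib.isDomain D.reductive c.isPullback K)

/-- points with the same image under two homomorphisms -/
def eqSub {H : Over S} [GrpObj H] (f g : G ⟶ H) [IsMonHom f] [IsMonHom g] (B : Type u) [CommRing B]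
    [Algebra R B] : Subgroup (Pt R c.A B) where
  carrier := {p | c.pts B p ≫ f = c.pts B p ≫ g}
  one_mem' := by
    change c.pts B 1 ≫ f = c.pts B 1 ≫ g
    rw [map_one, MonObj.one_comp, MonObj.one_comp]
  mul_mem' {p q} hp hq := by
    change c.pts B (p * q) ≫ f = c.pts B (p * q) ≫ g
    have hp' : c.pts B p ≫ f = c.pts B p ≫ g := hp
    have hq' : c.pts B q ≫ f = c.pts B q ≫ g := hq
    rw [map_mul, MonObj.mul_comp, MonObj.mul_comp, hp', hq']
  inv_mem' {p} hp := by
    change c.pts B p⁻¹ ≫ f = c.pts B p⁻¹ ≫ g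
    have hp' : c.pts B p ≫ f = c.pts B p ≫ g := hp
    rw [map_inv, GrpObj.inv_comp, GrpObj.inv_comp, hp']

lemma mem_eqSub {H : Over S} [GrpObj H] {f g : G ⟶ H} [IsMonHom f] [IsMonHom g] {B : Type u}
    [CommRing B] [Algebra R B] {p : Pt R c.A B} :
    p ∈ eqSub c f g B ↔ c.pts B p ≫ f = c.pts B p ≫ g := Iff.rfl

open TensorProduct in
/-- **Rigidity.** -/
theorem hom_ext {H : Over S} [GrpObj H] (f g : G ⟶ H) [IsMonHom f] [IsMonHom g]
    (hr : ∀ (R : Type u) [CommRing R] (s : Spec (CommRingCat.of R) ⟶ S) (c : Chart G s),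
      ∀ a ∈ D.base.support, Rank1 (D := c.datum D.toSplitRed) D.P a)
    (h : ∀ (R : Type u) [CommRing R] (s : Spec (CommRingCat.of R) ⟶ S) (c : Chart G s)
      (B : Type u) [CommRing B] [Algebra R B],
      (∀ t, (c.datum D.toSplitRed).i B t ∈ eqSub c f g B) ∧
      (∀ a ∈ D.base.support, ∀ x, (c.datum D.toSplitRed).uu a B x ∈ eqSub c f g B) ∧
      (∀ a ∈ D.base.support, nn (D := c.datum D.toSplitRed) D.P a B ∈ eqSub c f g B)) :
    f = g := by
  apply hom_ext_tB
  intro R _ s g₀
  obtain ⟨c⟩ := exists_chart' D.toSplitRed R s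
  obtain ⟨E, hEi, hEu⟩ := exists_pinCell_chart D c (hr R s c)
  obtain ⟨T, _, _, _, _, _, x, t, x', t', hT⟩ := PinCover.exists_cover E
  have hcell : ∀ (x : D.idx → T) (t : TPt D.M T), E.cell x t ∈ eqSub c f g T := by
    intro x t
    obtain ⟨h1, h2, h3⟩ := h R s c T
    have h4 := cell_mem (D := c.datum D.toSplitRed) D.P (fun _ => rfl) D.pairing_eq D.base
      (PinModelOf.good D.toSplitRed c) (hr R s c) (eqSub c f g T) h1 h2 h3 (allList D.base) x t
    have h5 : E.cell x t = (c.datum D.toSplitRed).cell (allList D.base) x t := by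
      rw [PinCell.cell, Datum.cell, hEi]
      congr 2
      apply List.map_congr_left
      intro a _
      exact hEu a T (x a)
    rw [h5]
    exact h4
  have h1 : Pt.mk (IsScalarTower.toAlgHom R c.A T) ∈ eqSub c f g T := by
    rw [hT]
    exact (eqSub c f g T).mul_mem (hcell x t) (hcell x' t')
  -- descent
  have h2 : univ R c.A ∈ eqSub c f g c.A := by
    have h3 : tMap s (IsScalarTower.toAlgHom R c.A T) ≫ c.pts c.A (univ R c.A) =
        c.pts T (Pt.mk (IsScalarTower.toAlgHom R c.A T)) := c.pts_nat _ _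
    rw [mem_eqSub, ← h3, Category.assoc, Category.assoc] at h1
    rw [mem_eqSub]
    have hflat : Flat (Spec.map (CommRingCat.ofHom (algebraMap c.A T))) := by
      rw [Flat.SpecMap_iff]
      exact (RingHom.flat_algebraMap_iff).mpr inferInstance
    have hsurj : Surjective (Spec.map (CommRingCat.ofHom (algebraMap c.A T))) :=
      ⟨PrimeSpectrum.comap_surjective_of_faithfullyFlat⟩
    have hepi : Epi (Spec.map (CommRingCat.ofHom (algebraMap c.A T))) :=
      Flat.epi_of_flat_of_surjective _
    ext1
    have h4 := congrArg (fun k => k.left) h1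
    simp only [Over.comp_left, tMap_left] at h4
    exact (cancel_epi (Spec.map (CommRingCat.ofHom (algebraMap c.A T)))).mp h4
  -- conclusion
  obtain ⟨p, rfl⟩ := (c.pts R).surjective g₀
  have h3 : tMap s p.hom ≫ c.pts c.A (univ R c.A) = c.pts R p := c.pts_nat _ _
  rw [← h3, Category.assoc, Category.assoc, (mem_eqSub c).mp h2]

end scheme

end K213.Rigid
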