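import Groth.Agent.Red.K213.NormC
import Groth.Agent.Red.K213.Rigid
import Groth.Agent.Sga3B.CellZ
import Groth.Agent.Sga3B.CellTan
import Groth.Agent.Sga3B.DSRigid
import Groth.Agent.Sga3B.WordInf

/-!
# Points normalising the torus (ring level)
-/

set_option autoImplicit false
set_option linter.unusedSectionVars false
universe u

open TensorProduct

namespace K213.Norm

open Groth.Agent.Sga3B Groth.Agent.Sga3B.Cell Groth.Agent.Sga3B.Cell.Datum Groth.Agent.Sga3B.Word
  K213.RkOneR

/-- precomposition of a torus point with an endomorphism of the characters -/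
def pre {M : Type} [AddCommGroup M] {B : Type u} [CommRing B] (w : M →+ M) (t : TPt M B) :
    TPt M B := t.comp (AddMonoidHom.toMultiplicative w)

lemma ch_pre {M : Type} [AddCommGroup M] {B : Type u} [CommRing B] (w : M →+ M) (t : TPt M B)
    (m : M) : TPt.ch m (pre w t) = TPt.ch (w m) t := rfl

lemma pre_pre {M : Type} [AddCommGroup M] {B : Type u} [CommRing B] (w w' : M →+ M) (t : TPt M B) :
    pre w (pre w' t) = pre (w'.comp w) t := rfl

lemma pre_id {M : Type} [AddCommGroup M] {B : Type u} [CommRing B] (t : TPt M B) :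
    pre (AddMonoidHom.id M) t = t := rfl

lemma map_pre {M : Type} [AddCommGroup M] {R B C : Type u} [CommRing R] [CommRing B] [Algebra R B]
    [CommRing C] [Algebra R C] (φ : B →ₐ[R] C) (w : M →+ M) (t : TPt M B) :
    TPt.map φ (pre w t) = pre w (TPt.map φ t) := rfl

/-- the scaled extension `B[ε] → B[M][ε]` -/
noncomputable def rhoM {M : Type} [AddCommGroup M] (R : Type u) {B : Type u} [CommRing R]
    [CommRing B] [Algebra R B] (χ : MonoidAlgebra B (Multiplicative M)) :
    TrivSqZeroExt B B →ₐ[R]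
      TrivSqZeroExt (MonoidAlgebra B (Multiplicative M)) (MonoidAlgebra B (Multiplicative M)) :=
  tsmap (IsScalarTower.toAlgHom R B (MonoidAlgebra B (Multiplicative M)))
    ((AddMonoidHom.mulLeft χ).comp
      (algebraMap B (MonoidAlgebra B (Multiplicative M)) : B →+ _))
    (fun b m => by
      change χ * algebraMap B (MonoidAlgebra B (Multiplicative M)) (b * m) =
        algebraMap B (MonoidAlgebra B (Multiplicative M)) b *
          (χ * algebraMap B (MonoidAlgebra B (Multiplicative M)) m)
      rw [map_mul]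
      ring)

lemma snd_rhoM {M : Type} [AddCommGroup M] {R B : Type u} [CommRing R]
    [CommRing B] [Algebra R B] (χ : MonoidAlgebra B (Multiplicative M)) (x : TrivSqZeroExt B B) :
    (rhoM R χ x).snd = χ * algebraMap B _ x.snd := rfl

lemma fst_rhoM {M : Type} [AddCommGroup M] {R B : Type u} [CommRing R]
    [CommRing B] [Algebra R B] (χ : MonoidAlgebra B (Multiplicative M)) (x : TrivSqZeroExt B B) :
    (rhoM R χ x).fst = algebraMap B _ x.fst := rfl

/-- the universal torus point over `B[M]` -/
noncomputable def sM (M : Type) [AddCommGroup M] (B : Type u) [CommRing B] :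
    TPt M (MonoidAlgebra B (Multiplicative M)) :=
  MonoidHom.toHomUnits (MonoidAlgebra.of B (Multiplicative M))

lemma ch_sM {M : Type} [AddCommGroup M] {B : Type u} [CommRing B] (m : M) :
    TPt.ch m (sM M B) = MonoidAlgebra.single (Multiplicative.ofAdd m) (1 : B) := rfl

section weights

variable {idx M : Type} [Fintype idx] [AddCommGroup M] [Module.Free ℤ M]
    [Module.Finite ℤ M] {P : RootPairing idx ℤ M (Module.Dual ℤ M)} {b : P.Base}
    {R A : Type u} [CommRing R] [CommRing A] [Algebra R A] [PtGrp R A] (E : PinCell P b R A)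

/-- a point normalising the torus over a field permutes the roots -/
theorem weights_perm {K : Type u} [Field K] [Algebra R K] (γ : Pt R A K) (w : M →+ M)
    (hγ : ∀ (C : Type u) [CommRing C] [Algebra R C] (φ : K →ₐ[R] C) (s : TPt M C),
      Pt.map φ γ * E.i C s * (Pt.map φ γ)⁻¹ = E.i C (pre w s)) (a : idx) :
    ∃ c, w (P.root c) = P.root a := by
  by_contra hne
  push Not at hne
  let ε : TrivSqZeroExt K K := TrivSqZeroExt.inr 1
  set γ0 := Pt.map (tinl R K) γ with hγ0
  set p := γ0 * E.uu a _ ε * γ0⁻¹ with hpdef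
  have hnil : IsNilpotent (RingHom.ker (tfst R K)) := by
    refine ⟨2, ?_⟩
    rw [Ideal.zero_eq_bot, eq_bot_iff, sq (RingHom.ker (tfst R K)), Ideal.mul_le]
    intro x hx y hy
    rw [RingHom.mem_ker] at hx hy
    rw [Ideal.mem_bot]
    have hx' : x.fst = 0 := hx
    have hy' : y.fst = 0 := hy
    apply TrivSqZeroExt.ext
    · rw [TrivSqZeroExt.fst_mul, hx', zero_mul]; rfl
    · rw [TrivSqZeroExt.snd_mul, hx', hy']; simp
  have hε : ε ∈ RingHom.ker (tfst R K) := by
    rw [RingHom.mem_ker]; rfl
  have hpk : p ∈ kerI R A (RingHom.ker (tfst R K)) := conj_mem_kerI (uu_mem_kerI E hε) γ0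
  obtain ⟨x, t, hp⟩ := (inCell_iff E).mp (inCell_of_mem_kerI E hnil hpk)
  have h0 : Pt.map (tfst R K) p = 1 := by
    rw [hpdef, Pt.map_mul, Pt.map_mul, Pt.map_inv, E.uu_nat]
    have : tfst R K ε = 0 := hε
    rw [this, E.uu_zero, mul_one, mul_inv_cancel]
  rw [hp, E.cell_nat, ← Word.cell_zero E] at h0
  obtain ⟨hx0, ht0⟩ := E.cell_injective h0
  have hx0' : ∀ c, (x c).fst = 0 := fun c => congrFun hx0 c
  -- the two extensions
  set s : TPt M (TrivSqZeroExt (MonoidAlgebra K (Multiplicative M))
    (MonoidAlgebra K (Multiplicative M))) := TPt.map (tinl R _) (sM M K) with hs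
  let χ : MonoidAlgebra K (Multiplicative M) := MonoidAlgebra.single (Multiplicative.ofAdd (P.root a)) 1
  set γ1 := Pt.map (tinl R (MonoidAlgebra K (Multiplicative M)))
    (Pt.map (IsScalarTower.toAlgHom R K (MonoidAlgebra K (Multiplicative M))) γ) with hγ1
  have hr : ∀ z : MonoidAlgebra K (Multiplicative M), Pt.map (rhoM R z) γ0 = γ1 := by
    intro z
    rw [hγ0, hγ1, Pt.map_map, Pt.map_map]
    congr 1
    apply AlgHom.ext
    intro y
    apply TrivSqZeroExt.ext
    · rfl
    · change (rhoM R z (TrivSqZeroExt.inl y)).snd = 0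
      rw [snd_rhoM]
      simp
  have hch : ∀ m : M, TPt.ch m s = TrivSqZeroExt.inl (MonoidAlgebra.single (Multiplicative.ofAdd m) 1) := by
    intro m
    rw [hs, TPt.ch_map, ch_sM]
    rfl
  have hβ : rhoM R χ ε = TPt.ch (P.root a) s * rhoM R 1 ε := by
    rw [hch]
    apply TrivSqZeroExt.ext
    · simp [fst_rhoM, ε]
    · rw [TrivSqZeroExt.snd_mul, snd_rhoM, fst_rhoM, snd_rhoM]
      simp [ε, χ]
  have h1 : Pt.map (rhoM R χ) p =
      E.i _ (pre w s) * Pt.map (rhoM R 1) p * (E.i _ (pre w s))⁻¹ := by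
    have h2 := hγ _ ((tinl R (MonoidAlgebra K (Multiplicative M))).comp
      (IsScalarTower.toAlgHom R K (MonoidAlgebra K (Multiplicative M)))) s
    rw [← Pt.map_map, ← hγ1] at h2
    rw [hpdef, Pt.map_mul, Pt.map_mul, Pt.map_inv, Pt.map_mul, Pt.map_mul, Pt.map_inv, hr, hr,
      E.uu_nat, E.uu_nat, hβ, ← E.rel, ← h2]
    group
  rw [hp, E.cell_nat, E.cell_nat] at h1
  have h1' := h1.trans (E.toDatum.conj_cell (allList b) _ _ _)
  obtain ⟨h3, h4⟩ := E.cell_injective h1'
  have hx : x = 0 := by
    funext c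
    have h5 : (rhoM R χ (x c)).snd = (TPt.ch (w (P.root c)) s * rhoM R 1 (x c)).snd :=
      congrArg TrivSqZeroExt.snd (congrFun h3 c)
    rw [hch, TrivSqZeroExt.snd_mul, snd_rhoM, snd_rhoM, fst_rhoM, hx0'] at h5
    simp only [TrivSqZeroExt.fst_inl, TrivSqZeroExt.snd_inl, map_zero, smul_zero, add_zero, one_mul,
      smul_eq_mul, χ] at h5
    have h7 := congrArg (fun z : MonoidAlgebra K (Multiplicative M) =>
      z.coeff (Multiplicative.ofAdd (P.root a))) h5
    simp only [MonoidAlgebra.coe_algebraMap, Function.comp_apply, MonoidAlgebra.single_mul_single,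
      mul_one, one_mul, Algebra.algebraMap_self, RingHom.id_apply, MonoidAlgebra.coeff_single,
      Finsupp.single_eq_same] at h7
    rw [Finsupp.single_eq_of_ne] at h7
    · exact TrivSqZeroExt.ext (hx0' c) h7
    · intro h8
      exact hne c (congrArg Multiplicative.toAdd h8).symm
  have ht : t = 1 := by
    apply TPt.ext_ch
    intro m
    have h5 := congrArg TrivSqZeroExt.snd (congrArg (TPt.ch m) h4)
    rw [TPt.ch_map, TPt.ch_map, snd_rhoM, snd_rhoM] at h5
    have h7 := congrArg (fun z : MonoidAlgebra K (Multiplicative M) =>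
      z.coeff (Multiplicative.ofAdd (P.root a))) h5
    simp only [MonoidAlgebra.coe_algebraMap, Function.comp_apply, MonoidAlgebra.single_mul_single,
      mul_one, one_mul, Algebra.algebraMap_self, RingHom.id_apply, MonoidAlgebra.coeff_single,
      Finsupp.single_eq_same, χ] at h7
    rw [Finsupp.single_eq_of_ne] at h7
    · apply TrivSqZeroExt.ext
      · have h8 := congrArg (TPt.ch m) ht0
        rw [TPt.ch_map] at h8
        exact h8
      · rw [h7]; rfl
    · intro h8
      exact P.ne_zero a (congrArg Multiplicative.toAdd h8)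
  have h9 : p = 1 := by rw [hp, hx, ht, Word.cell_zero]
  have h10 : E.uu a (TrivSqZeroExt K K) ε = 1 := by
    rw [hpdef, mul_inv_eq_one, mul_eq_left] at h9
    exact h9
  rw [← E.uu_zero a] at h10
  have h11 := congrArg TrivSqZeroExt.snd (E.uu_inj a h10)
  simp [ε] at h11

end weights

end K213.Norm
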