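import Groth.Agent.Red.K213.NormE
import Groth.Agent.Red.K213.LocGlue
import Groth.Agent.Red.K213.CoxS
import Groth.Agent.Sga3B.BorSpan613

/-!
# The normaliser of the torus of a pinned group
-/

set_option autoImplicit false
set_option linter.unusedSectionVars false
universe u

open CategoryTheory MonoidalCategory CartesianMonoidalCategory MonObj GrpObj AlgebraicGeometry Limits

namespace K213.Norm

open Groth.Agent.Sga3B Groth.Agent.Sga3B.Cell Groth.Agent.Sga3B.PinMod Groth.Agent.Sga3B.DSPts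
  Groth.Agent.Sga3B.GaPts Groth.Agent.Sga3B.Chart K213.RkOneR K213.PtKit K213.LocGlue

variable {S : Scheme.{u}} {G : Over S} [GrpObj G] (D : Red.Pinning G)

lemma split_hom_inv : D.split.hom.hom.hom ≫ D.split.inv.hom.hom = 𝟙 _ :=
  congrArg (fun k => k.hom.hom) D.split.hom_inv_id

lemma split_inv_hom : D.split.inv.hom.hom ≫ D.split.hom.hom.hom = 𝟙 _ :=
  congrArg (fun k => k.hom.hom) D.split.inv_hom_id

/-- the endomorphism of the torus given by an endomorphism of the characters -/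
noncomputable def sT (w : D.M →+ D.M) : D.T ⟶ D.T :=
  D.split.hom.hom.hom ≫ Red.DSmap S w ≫ D.split.inv.hom.hom

section chart

variable {R : Type u} [CommRing R] {s : Spec (CommRingCat.of R) ⟶ S} (c : Chart G s)
  {B : Type u} [CommRing B] [Algebra R B]

/-- the torus point of a ring level torus point -/
noncomputable def tp (s : Spec (CommRingCat.of R) ⟶ S) (τ : TPt D.M B) : tB s B ⟶ D.T :=
  dsEquiv (tB s B) D.M (chΓ s τ) ≫ D.split.inv.hom.hom

lemma tp_i (τ : TPt D.M B) : tp D s τ ≫ D.i = c.pts B ((c.datum D.toSplitRed).i B τ) := by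
  rw [tp, Category.assoc]
  exact (c.pts_i D.toSplitRed τ).symm

lemma exists_tp (g : tB s B ⟶ D.T) : ∃ τ : TPt D.M B, g = tp D s τ := by
  obtain ⟨τ, hτ⟩ := exists_chΓ s (g ≫ D.split.hom.hom.hom)
  refine ⟨τ, ?_⟩
  rw [tp, ← hτ, Category.assoc, split_hom_inv, Category.comp_id]

lemma tp_sT (w : D.M →+ D.M) (τ : TPt D.M B) : tp D s τ ≫ sT D w = tp D s (pre w τ) := by
  rw [tp, sT, Category.assoc, reassoc_of% (split_inv_hom D), ← Category.assoc, dsEquiv_DSmap, tp]
  rfl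

end chart


section

variable (avc : D.idx → (Red.Gm S ⟶ D.T))
    (havc : ∀ a, avc a = Red.DSmap S (D.P.coroot a).toAddMonoidHom ≫ D.split.inv.hom.hom)

/-- the action of the reflection on the torus -/
noncomputable abbrev sR (a : D.idx) : D.T ⟶ D.T := sT D (D.P.reflection a).toLinearMap.toAddMonoidHom

include havc in
/-- `t a^∨(a(t))⁻¹ = s_a(t)` -/
lemma act_eq (a : D.idx) {X : Over S} (t : X ⟶ D.T) :
    t * (t ≫ (D.split.hom.hom.hom ≫ Red.chi S (D.P.root a)) ≫ avc a)⁻¹ = t ≫ sR D a := by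
  have hmono : Mono D.i := D.maximalTorus.2.1
  have hmon : IsMonHom D.i := D.maximalTorus.1
  rw [← cancel_mono D.i]
  apply hom_ext_tB
  intro R _ s g
  obtain ⟨c⟩ := exists_chart' D.toSplitRed R s
  obtain ⟨τ, hτ⟩ := exists_tp D (s := s) (g ≫ t)
  have h1 : g ≫ (t ≫ sR D a) ≫ D.i = tp D s (pre (D.P.reflection a).toLinearMap.toAddMonoidHom τ) ≫ D.i := by
    rw [← tp_sT, ← hτ]
    simp only [Category.assoc]
  have h2 : g ≫ (t * (t ≫ (D.split.hom.hom.hom ≫ Red.chi S (D.P.root a)) ≫ avc a)⁻¹) ≫ D.i =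
      (tp D s τ ≫ D.i) * ((dsEquiv (tB s R) D.M (chΓ s τ) ≫ Red.chi S (D.P.root a)) ≫ avc a ≫ D.i)⁻¹ := by
    rw [MonObj.mul_comp, GrpObj.inv_comp, MonObj.comp_mul, GrpObj.comp_inv, ← Category.assoc, hτ]
    congr 2
    simp only [← Category.assoc]
    rw [hτ, tp]
    simp only [Category.assoc]
    rw [reassoc_of% (split_inv_hom D)]
  rw [h1, h2, tp_i D c, tp_i D c, havc]
  have h3 := pt_av D.toSplitRed c (D.P.coroot a)
    (z := dsEquiv (tB s R) D.M (chΓ s τ) ≫ Red.chi S (D.P.root a))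
    (v := τ (Multiplicative.ofAdd (D.P.root a))) (by
      rw [gmFn_chi, dsChar_dsEquiv]; rfl)
  have h4 : (dsEquiv (tB s R) D.M (chΓ s τ) ≫ Red.chi S (D.P.root a)) ≫
      (Red.DSmap S (D.P.coroot a).toAddMonoidHom ≫ D.split.inv.hom.hom) ≫ D.i =
      c.pts R ((c.datum D.toSplitRed).i R
        (TPt.cow (D.P.coroot a) (τ (Multiplicative.ofAdd (D.P.root a))))) := by
    rw [← h3]
    simp only [Category.assoc]
  rw [h4]
  have h5 : (c.datum D.toSplitRed).i R (pre (D.P.reflection a).toLinearMap.toAddMonoidHom τ) =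
      (c.datum D.toSplitRed).i R τ * ((c.datum D.toSplitRed).i R
        (TPt.cow (D.P.coroot a) (τ (Multiplicative.ofAdd (D.P.root a)))))⁻¹ := by
    rw [← Datum.i_inv', ← Datum.i_mul']
    exact congrArg _ (Datum.act_reflection (D := c.datum D.toSplitRed) D.P D.pairing_eq a τ)
  exact ((congrArg (c.pts R) h5).trans (by rw [map_mul, map_inv])).symm

end


section hr

variable (hr : ∀ (R : Type u) [CommRing R] (s : Spec (CommRingCat.of R) ⟶ S) (c : Chart G s),
      ∀ a ∈ D.base.support, Rank1 (D := c.datum D.toSplitRed) D.P a)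
  (e₁ : 𝟙_ (Over S) ⟶ Red.Ga S) (he₁ : Red.gaFn e₁ = 1)
  (w : D.idx → (𝟙_ (Over S) ⟶ G))
  (hw : ∀ a, w a = (e₁ ≫ D.u a) * (e₁ ≫ D.u (D.P.reflectionPerm a a))⁻¹ * (e₁ ≫ D.u a))

include hr he₁ hw in
/-- `w_a t w_a⁻¹ = s_a(t)` -/
lemma w_conj {a : D.idx} (ha : a ∈ D.base.support) {X : Over S} (t : X ⟶ D.T) :
    (toUnit X ≫ w a) * (t ≫ D.i) * (toUnit X ≫ w a)⁻¹ = (t ≫ sR D a) ≫ D.i := by
  apply hom_ext_tB
  intro R _ s g
  obtain ⟨c⟩ := exists_chart' D.toSplitRed R s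
  obtain ⟨τ, hτ⟩ := exists_tp D (s := s) (g ≫ t)
  have h1 : g ≫ (t ≫ sR D a) ≫ D.i = tp D s (pre (D.P.reflection a).toLinearMap.toAddMonoidHom τ) ≫ D.i := by
    rw [← tp_sT, ← hτ]
    simp only [Category.assoc]
  rw [h1, MonObj.comp_mul, MonObj.comp_mul, GrpObj.comp_inv, ← Category.assoc g t, hτ, tp_i D c,
    tp_i D c, pt_w' D.toSplitRed c e₁ he₁ hw]
  have h2 := nn_act' (D := c.datum D.toSplitRed) D.P (fun _ => rfl) D.pairing_eq
    (hr R s c a ha) (B := R) τ
  exact (by rw [map_mul, map_mul, map_inv] : _ = _).trans (congrArg (c.pts R) h2)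

end hr


section sT

lemma sT_comp (w w' : D.M →+ D.M) : sT D w ≫ sT D w' = sT D (w.comp w') := by
  rw [sT, sT, sT, Category.assoc, Category.assoc, reassoc_of% (split_inv_hom D)]
  have h := BorSpan613.DSmap_comp_DSmap S w w'
  rw [← h]
  simp only [Category.assoc]

lemma sT_id : sT D (AddMonoidHom.id _) = 𝟙 _ := by
  rw [sT, BorSpan613.DSmap_id, Category.id_comp, split_hom_inv]

instance (w : D.M →+ D.M) : IsMonHom (sT D w) := by
  have h1 : IsMonHom D.split.hom.hom.hom := inferInstance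
  have h2 : IsMonHom (Red.DSmap S w) := inferInstance
  have h3 : IsMonHom D.split.inv.hom.hom := inferInstance
  exact inferInstanceAs (IsMonHom (_ ≫ _ ≫ _))

lemma sR_sR (a : D.idx) : sR D a ≫ sR D a = 𝟙 _ := by
  rw [sR, sT_comp, ← sT_id]
  congr 1
  ext m
  exact D.P.reflection_same a m

end sT

section transfer

/-- the point normalises the torus (one-sided form) -/
def NT {X : Over S} (g : X ⟶ G) : Prop := ∀ (X' : Over S) (x : X' ⟶ X) (t : X' ⟶ D.T),
  ∃ t' : X' ⟶ D.T, (x ≫ g) * (t ≫ D.i) * (x ≫ g)⁻¹ = t' ≫ D.i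

/-- the point acts on the torus through an endomorphism of the characters -/
def ActsS {X : Over S} (g : X ⟶ G) (w : D.M →+ D.M) : Prop :=
  ∀ (X' : Over S) (x : X' ⟶ X) (t : X' ⟶ D.T), (x ≫ g) * (t ≫ D.i) * (x ≫ g)⁻¹ = (t ≫ sT D w) ≫ D.i

variable {D}

lemma NT.comp {X Y : Over S} {g : X ⟶ G} (h : NT D g) (q : Y ⟶ X) : NT D (q ≫ g) := by
  intro X' x t
  rw [← Category.assoc]
  exact h X' _ t

lemma ActsS.comp {X Y : Over S} {g : X ⟶ G} {w : D.M →+ D.M} (h : ActsS D g w) (q : Y ⟶ X) :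
    ActsS D (q ≫ g) w := by
  intro X' x t
  rw [← Category.assoc]
  exact h X' _ t

lemma ActsS.mul {X : Over S} {g g' : X ⟶ G} {w w' : D.M →+ D.M} (h : ActsS D g w)
    (h' : ActsS D g' w') : ActsS D (g * g') (w'.comp w) := by
  intro X' x t
  rw [← sT_comp, ← Category.assoc t, ← h X' x, ← h' X' x, MonObj.comp_mul]
  group

lemma ActsS.one {X : Over S} : ActsS D (1 : X ⟶ G) (AddMonoidHom.id _) := by
  intro X' x t
  rw [sT_id, Category.comp_id, MonObj.comp_one, _root_.one_mul, _root_.inv_one, _root_.mul_one]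

variable {R : Type u} [CommRing R] {s : Spec (CommRingCat.of R) ⟶ S} (c : Chart G s)

lemma normT_of {p : Pt R c.A R} (h : NT D (c.pts R p)) : NormT (c.datum D.toSplitRed) p := by
  intro C _ _ φ τ
  obtain ⟨t', ht'⟩ := h (tB s C) (tMap s φ) (tp D s τ)
  obtain ⟨τ', hτ'⟩ := exists_tp D (s := s) t'
  refine ⟨τ', ?_⟩
  apply (c.pts C).injective
  rw [hτ', tp_i D c, c.pts_nat, tp_i D c] at ht'
  exact (by rw [map_mul, map_mul, map_inv] : _ = _).trans ht'

lemma actsB_of {p : Pt R c.A R} {w : D.M →+ D.M} (h : ActsS D (c.pts R p) w) :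
    ActsB (c.datum D.toSplitRed) p w := by
  intro C _ _ φ τ
  have ht' := h (tB s C) (tMap s φ) (tp D s τ)
  apply (c.pts C).injective
  rw [tp_sT, tp_i D c, c.pts_nat, tp_i D c] at ht'
  exact (by rw [map_mul, map_mul, map_inv] : _ = _).trans ht'

/-- a morphism from an affine scheme as a morphism from `tB` -/
lemma exists_tB {X : Over S} (R : CommRingCat.{u}) (q₀ : Spec R ⟶ X.left) :
    ∃ q : tB (R := R) (q₀ ≫ X.hom) R ⟶ X, q.left = q₀ :=
  ⟨Over.homMk q₀ (by
    change q₀ ≫ X.hom = Spec.map (CommRingCat.ofHom (algebraMap R R)) ≫ q₀ ≫ X.hom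
    have : CommRingCat.ofHom (algebraMap R R) = 𝟙 _ := rfl
    rw [this, Spec.map_id]
    exact (Category.id_comp _).symm), rfl⟩

/-- affine neighbourhoods -/
lemma exists_affine {X : Over S} (x : X.left) : ∃ (R : Type u) (_ : CommRing R)
    (s : Spec (CommRingCat.of R) ⟶ S) (q : tB s R ⟶ X), IsOpenImmersion q.left ∧
    x ∈ Set.range q.left := by
  obtain ⟨i, y, hy⟩ := X.left.affineOpenCover.openCover.exists_eq x
  obtain ⟨q, hq⟩ := exists_tB (X := X) (X.left.affineOpenCover.X i) (X.left.affineOpenCover.f i)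
  have hopen : IsOpenImmersion (X.left.affineOpenCover.f i) := inferInstance
  refine ⟨X.left.affineOpenCover.X i, inferInstance, _, q, ?_, ?_⟩
  · rw [hq]; exact hopen
  · rw [hq]; exact ⟨y, hy⟩

end transfer

end K213.Norm
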