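import Groth.Agent.Red.K213.NormS

/-!
# The normaliser of the torus of a pinned group: local structure
-/

set_option autoImplicit false
set_option linter.unusedSectionVars false
universe u

open CategoryTheory MonoidalCategory CartesianMonoidalCategory MonObj GrpObj AlgebraicGeometry Limits

namespace K213.Norm

open Groth.Agent.Sga3B Groth.Agent.Sga3B.Cell Groth.Agent.Sga3B.PinMod Groth.Agent.Sga3B.DSPts
  Groth.Agent.Sga3B.GaPts Groth.Agent.Sga3B.Chart K213.RkOneR K213.PtKit K213.LocGlue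

variable {S : Scheme.{u}} {G : Over S} [GrpObj G] {D : Red.Pinning G}

/-- a point acting trivially on the torus is a point of the torus -/
theorem exists_T_of_acts_id {X : Over S} {g : X ⟶ G} (h : ActsS D g (AddMonoidHom.id _)) :
    ∃ t : X ⟶ D.T, t ≫ D.i = g := by
  have hmono : Mono D.i := D.maximalTorus.2.1
  obtain ⟨f, -, hf⟩ := exists_hom_of_loc (X := X) (H := D.T) (fun Y q t => t ≫ D.i = q ≫ g)
    (fun Y Z r q t ht => by rw [Category.assoc, ht, Category.assoc])
    (fun Y q t t' ht ht' => by rw [← cancel_mono D.i, ht, ht']) (by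
      intro x
      obtain ⟨R, _, s, q, hq, hx⟩ := exists_affine x
      refine ⟨tB s R, q, hq, hx, ?_⟩
      obtain ⟨c⟩ := exists_chart' D.toSplitRed R s
      obtain ⟨p, hp⟩ := (c.pts R).surjective (q ≫ g)
      have : Smooth G.hom := D.reductive.2.1
      have : Algebra.Smooth R c.A := ChartFib.smooth_of_isPullback c.isPullback
      obtain ⟨τ, hτ⟩ := exists_eq_i_of_acts_id (D := c.datum D.toSplitRed)
        (PinModelOf.good D.toSplitRed c)
        (fun K _ _ => ChartFib.isDomain D.reductive c.isPullback K) (g := p)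
        (actsB_of c (by rw [hp]; exact h.comp q))
      refine ⟨tp D s τ, ?_⟩
      rw [tp_i D c, ← hp, hτ])
  refine ⟨f, ?_⟩
  apply hom_ext_loc
  intro x
  obtain ⟨Y, q, hq, hx, h1⟩ := hf x
  exact ⟨Y, q, hq, hx, by rw [← h1, Category.assoc]⟩

variable (hr : ∀ (R : Type u) [CommRing R] (s : Spec (CommRingCat.of R) ⟶ S) (c : Chart G s),
      ∀ a ∈ D.base.support, Rank1 (D := c.datum D.toSplitRed) D.P a)
  (e₁ : 𝟙_ (Over S) ⟶ Red.Ga S) (he₁ : Red.gaFn e₁ = 1)
  (w : D.idx → (𝟙_ (Over S) ⟶ G))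
  (hw : ∀ a, w a = (e₁ ≫ D.u a) * (e₁ ≫ D.u (D.P.reflectionPerm a a))⁻¹ * (e₁ ≫ D.u a))

/-- the product of the elements `w_a` of a word -/
noncomputable def gW (w : D.idx → (𝟙_ (Over S) ⟶ G)) (l : List D.idx) : 𝟙_ (Over S) ⟶ G := (l.map w).prod

@[simp] lemma gW_nil : gW w [] = 1 := rfl

@[simp] lemma gW_cons (a : D.idx) (l : List D.idx) : gW w (a :: l) = w a * gW w l := by simp [gW]

include he₁ hw in
lemma pt_gW {R : Type u} [CommRing R] {s : Spec (CommRingCat.of R) ⟶ S} (c : Chart G s)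
    {B : Type u} [CommRing B] [Algebra R B] (l : List D.idx) :
    toUnit (tB s B) ≫ gW w l = c.pts B (Cox.gw (D := c.datum D.toSplitRed) D.P l B) := by
  induction l with
  | nil => rw [gW_nil, MonObj.comp_one]; exact (map_one (c.pts B)).symm
  | cons a l ih =>
    rw [gW_cons, MonObj.comp_mul, ih, CoxS.pt_w1 D.toSplitRed c e₁ he₁ hw]
    exact (map_mul (c.pts B) _ _).symm

include hr he₁ hw in
/-- **Local structure of the points normalising the torus.** -/
theorem exists_local_word {X : Over S} {g : X ⟶ G} (hN : NT D g) (x : X.left) :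
    ∃ (Y : Over S) (q : Y ⟶ X), IsOpenImmersion q.left ∧ x ∈ Set.range q.left ∧
      ∃ l : List D.idx, (∀ d ∈ l, d ∈ D.base.support) ∧ ∃ t : Y ⟶ D.T,
        q ≫ g = (toUnit Y ≫ gW w l) * (t ≫ D.i) := by
  obtain ⟨R, _, s, q, hq, y, hy⟩ := exists_affine x
  obtain ⟨c⟩ := exists_chart' D.toSplitRed R s
  obtain ⟨p, hp⟩ := (c.pts R).surjective (q ≫ g)
  have : Smooth G.hom := D.reductive.2.1
  have : Algebra.Smooth R c.A := ChartFib.smooth_of_isPullback c.isPullback
  let 𝔭 : PrimeSpectrum R := y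
  obtain ⟨f, hf, l, hl, τ, hτ⟩ := exists_local (D := c.datum D.toSplitRed) D.P (fun _ => rfl)
    D.pairing_eq D.base (PinModelOf.good D.toSplitRed c) (hr R s c)
    (fun K _ _ => ChartFib.isDomain D.reductive c.isPullback K) (g := p)
    (normT_of c (by rw [hp]; exact hN.comp q)) 𝔭.asIdeal
  let ψ : R →ₐ[R] Localization.Away f := IsScalarTower.toAlgHom R R (Localization.Away f)
  have hopen : IsOpenImmersion (tMap s ψ).left := by
    have : IsOpenImmersion (Spec.map (CommRingCat.ofHom (algebraMap R (Localization.Away f)))) :=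
      inferInstance
    exact this
  refine ⟨tB s (Localization.Away f), tMap s ψ ≫ q, ?_, ?_, l, hl, tp D s τ, ?_⟩
  · rw [Over.comp_left]
    infer_instance
  · have h1 : 𝔭 ∈ Set.range (PrimeSpectrum.comap (algebraMap R (Localization.Away f))) := by
      rw [PrimeSpectrum.localization_away_comap_range (Localization.Away f) f]
      exact hf
    obtain ⟨z, hz⟩ := h1
    refine ⟨z, ?_⟩
    rw [Over.comp_left, Scheme.Hom.comp_apply]
    have h2 : (tMap s ψ).left z = y := hz
    rw [h2, hy]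
  · rw [Category.assoc, ← hp, c.pts_nat, hτ, map_mul, pt_gW e₁ he₁ w hw c, tp_i D c]

end K213.Norm
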