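import Groth.Agent.Red.K213.Rk2A

/-!
# Type `B₂` at the level of rings
-/

set_option autoImplicit false
set_option linter.unusedSectionVars false
universe u

namespace K213.Rk2

open Groth.Agent.Sga3B.Cell Groth.Agent.Sga3B.Cell.Datum Groth.Agent.Sga3B K213.RkOneR

variable {R A : Type u} [CommRing R] [CommRing A] [Algebra R A] [PtGrp R A] {D : Datum R A}
variable (P : RootPairing D.idx ℤ D.M (Module.Dual ℤ D.M)) (hP : ∀ a, P.root a = D.root a)
  (hpe : P.toLinearMap = Module.Dual.eval ℤ D.M) (Δ : P.Base) (hG : D.Good) {a b : D.idx}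
  (ha : a ∈ Δ.support) (hb : b ∈ Δ.support) (hab : a ≠ b)
  (hra : Rank1 P a) (hrb : Rank1 P b)

include hP hpe hG ha hb hab hra hrb

/-- Type `B₂`, normalized: `u_c = Int(n_b) u_a`, `u_d = Int(n_a) u_b` -/
theorem b2_norm (pba : P.pairing b a = -2) (pab : P.pairing a b = -1) {c d : D.idx}
    (hc : Co a b c 1 1) (hd : Co a b d 2 1)
    (nb_fa : ∀ {B : Type u} [CommRing B] [Algebra R B] (x : B),
      nn P b B * D.uu a B x * (nn P b B)⁻¹ = D.uu c B x)
    (na_fb : ∀ {B : Type u} [CommRing B] [Algebra R B] (x : B),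
      nn P a B * D.uu b B x * (nn P a B)⁻¹ = D.uu d B x)
    {B : Type u} [CommRing B] [Algebra R B] :
    ((∀ x y : B, D.uu b B y * D.uu a B x = D.uu a B x * (D.uu b B y *
      (D.uu c B (x * y) * D.uu d B (x ^ 2 * y)))) ∧
    (∀ x y : B, D.uu c B y * D.uu a B x = D.uu a B x * (D.uu c B y * D.uu d B (2 * x * y))) ∧
    (∀ x y : B, D.uu d B y * D.uu a B x = D.uu a B x * D.uu d B y) ∧
    (∀ x y : B, D.uu c B y * D.uu b B x = D.uu b B x * D.uu c B y) ∧
    (∀ x y : B, D.uu d B y * D.uu b B x = D.uu b B x * D.uu d B y) ∧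
    (∀ x y : B, D.uu d B y * D.uu c B x = D.uu c B x * D.uu d B y)) ∧
    (∀ x : B, nn P a B * D.uu c B x * (nn P a B)⁻¹ = D.uu c B (-x)) ∧
    (∀ x : B, nn P a B * D.uu d B x * (nn P a B)⁻¹ = D.uu b B x) ∧
    (∀ x : B, nn P b B * D.uu c B x * (nn P b B)⁻¹ = D.uu a B (-x)) ∧
    (∀ x : B, nn P b B * D.uu d B x * (nn P b B)⁻¹ = D.uu d B x) := by
  have hcls : ∀ (d : D.idx) (i j : ℤ), 0 < i → 0 < j → Co a b d i j →
      (i = 1 ∧ j = 1) ∨ (i = 2 ∧ j = 1) :=
    fun d i j hi hj h => Comb.b2_pos Δ ha hb hab pba pab hi hj (Co.root P hP h)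
  have hin : ∀ (e : D.idx) (i j : ℤ), 0 < i → 0 < j → Co a b e i j →
      (i = 1 ∧ j = 1 ∧ e = c) ∨ (i = 2 ∧ j = 1 ∧ e = d) := by
    intro e i j hi hj h
    rcases hcls e i j hi hj h with ⟨rfl, rfl⟩ | ⟨rfl, rfl⟩
    · exact Or.inl ⟨rfl, rfl, h.eq hc⟩
    · exact Or.inr ⟨rfl, rfl, h.eq hd⟩
  have cA := co_left (D := D) (a := a) (b := b)
  have cB := co_right (D := D) (a := a) (b := b)
  have hL : ∀ t ∈ [(a, (1 : ℤ), (0 : ℤ)), (b, 0, 1), (c, 1, 1), (d, 2, 1)],
      Co a b t.1 t.2.1 t.2.2 := by
    simp only [List.mem_cons, List.not_mem_nil, or_false, forall_eq_or_imp, forall_eq]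
    exact ⟨cA, cB, hc, hd⟩
  have hnd : [a, b, c, d].Nodup := nodup_of_co P hP Δ ha hb hab
    [(a, 1, 0), (b, 0, 1), (c, 1, 1), (d, 2, 1)] hL (by simp)
  have hac : a ≠ c := by rintro rfl; simp at hnd
  have had : a ≠ d := by rintro rfl; simp at hnd
  have hbc : b ≠ c := by rintro rfl; simp at hnd
  have hbd : b ≠ d := by rintro rfl; simp at hnd
  have hcd : c ≠ d := by rintro rfl; simp at hnd
  -- the commutation rules
  obtain ⟨C, hC⟩ := swap_co P hP Δ hG ha hb hab cA cB (by norm_num) (by norm_num)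
    (by norm_num) [(c, 1, 1), (d, 2, 1)] (by simp; exact ⟨hc, hd⟩) (by simp) (by
      intro e i j hi hj h
      rcases hin e _ _ (by omega) (by omega) h with ⟨h1, h2, rfl⟩ | ⟨h1, h2, rfl⟩ <;> simp)
  obtain ⟨C', hC'⟩ := swap_co P hP Δ hG ha hb hab cA hc (by norm_num) (by norm_num)
    (by norm_num) [(d, 1, 1)] (by simp; exact hd) (by simp) (by
      intro e i j hi hj h
      rcases hin e _ _ (by omega) (by omega) h with ⟨h1, h2, rfl⟩ | ⟨h1, h2, rfl⟩
      · omega
      · simp)
  have hda := fun {B : Type u} [CommRing B] [Algebra R B] => comm_co P hP Δ hG ha hb hab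
    cA hd (by norm_num) (by norm_num) (by norm_num) (by
      intro e i j hi hj h
      have := hcls e _ _ (by omega) (by omega) h
      omega) (B := B)
  have hcb := fun {B : Type u} [CommRing B] [Algebra R B] => comm_co P hP Δ hG ha hb hab
    cB hc (by norm_num) (by norm_num) (by norm_num) (by
      intro e i j hi hj h
      have := hcls e _ _ (by omega) (by omega) h
      omega) (B := B)
  have hdb := fun {B : Type u} [CommRing B] [Algebra R B] => comm_co P hP Δ hG ha hb hab
    cB hd (by norm_num) (by norm_num) (by norm_num) (by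
      intro e i j hi hj h
      have := hcls e _ _ (by omega) (by omega) h
      omega) (B := B)
  have hdc := fun {B : Type u} [CommRing B] [Algebra R B] => comm_co P hP Δ hG ha hb hab
    hc hd (by norm_num) (by norm_num) (by norm_num) (by
      intro e i j hi hj h
      have := hcls e _ _ (by omega) (by omega) h
      omega) (B := B)
  have hba : ∀ {B : Type u} [CommRing B] [Algebra R B] (x y : B), D.uu b B y * D.uu a B x =
      D.uu a B x * (D.uu b B y * (D.uu c B (algebraMap R B (C c) * x * y) *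
        D.uu d B (algebraMap R B (C d) * x ^ 2 * y))) := by
    intro B _ _ x y
    have := hC x y
    simpa using this
  have hca : ∀ {B : Type u} [CommRing B] [Algebra R B] (x y : B), D.uu c B y * D.uu a B x =
      D.uu a B x * (D.uu c B y * D.uu d B (algebraMap R B (C' d) * x * y)) := by
    intro B _ _ x y
    have := hC' x y
    simpa using this
  -- the conjugations
  have nb_fc : ∀ {B : Type u} [CommRing B] [Algebra R B] (x : B),
      nn P b B * D.uu c B x * (nn P b B)⁻¹ = D.uu a B (-x) := by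
    intro B _ _ x
    rw [← nb_fa, nn_sq_conj_odd P hP hpe hrb (by rw [pab]; decide)]
  have na_fd : ∀ {B : Type u} [CommRing B] [Algebra R B] (x : B),
      nn P a B * D.uu d B x * (nn P a B)⁻¹ = D.uu b B x := by
    intro B _ _ x
    rw [← na_fb, nn_sq_conj_even P hP hpe hra (by rw [pba]; decide)]
  -- `U_{-b}` commutes with `U_d`
  have e1 : P.reflectionPerm b d = d := by
    have := co_refl_right P hP hd pab
    norm_num at this
    exact this.eq hd
  obtain ⟨s, hs⟩ := nn_conj P hP hpe Δ hG hrb d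
  rw [e1] at hs
  have gb_fd : ∀ {B : Type u} [CommRing B] [Algebra R B] (x y : B),
      D.uu (P.reflectionPerm b b) B y * D.uu d B x = D.uu d B x * D.uu (P.reflectionPerm b b) B y := by
    intro B _ _ x y
    have h := congrArg (fun g => nn P b B * g * (nn P b B)⁻¹)
      (hdb (-y) (algebraMap R B ((s⁻¹ : Rˣ) : R) * x))
    simp only [Const.conj_mul, (nn_conj_self P hP hpe Δ hG hrb _).1, hs, neg_neg] at h
    rw [← mul_assoc, ← map_mul, Units.mul_inv, map_one, one_mul] at h
    exact h.symm
  have nb_fd : ∀ {B : Type u} [CommRing B] [Algebra R B] (x : B),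
      nn P b B * D.uu d B x * (nn P b B)⁻¹ = D.uu d B x := by
    intro B _ _ x
    have h1 : nn P b B * D.uu d B x = D.uu d B x * nn P b B := by
      calc D.uu b B 1 * D.uu (P.reflectionPerm b b) B (-1) * D.uu b B 1 * D.uu d B x
          = D.uu b B 1 * D.uu (P.reflectionPerm b b) B (-1) * (D.uu b B 1 * D.uu d B x) := by group
        _ = D.uu b B 1 * (D.uu (P.reflectionPerm b b) B (-1) * D.uu d B x) * D.uu b B 1 := by
            rw [← hdb]; group
        _ = (D.uu b B 1 * D.uu d B x) * D.uu (P.reflectionPerm b b) B (-1) * D.uu b B 1 := by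
            rw [gb_fd]; group
        _ = D.uu d B x * (D.uu b B 1 * D.uu (P.reflectionPerm b b) B (-1) * D.uu b B 1) := by
            rw [← hdb]; group
    rw [h1]; group
  -- `n_a` on `U_c`
  have e2 : P.reflectionPerm a c = c := by
    have := co_refl_left P hP hc pba
    norm_num at this
    exact this.eq hc
  obtain ⟨r, hr⟩ := nn_conj P hP hpe Δ hG hra c
  rw [e2] at hr
  have hrr : (r : R) * r = 1 := by
    have h1 := nn_sq_conj_even P hP hpe hra (c := c) (by
      rw [pairing_left P hP hc, pba]; decide) (1 : R)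
    rw [hr, hr] at h1
    have := D.uu_inj c h1
    simpa using this
  have hconst := Const.b2_consts (fun x : R => D.uu a R x) (fun x => D.uu b R x)
    (fun x => D.uu c R x) (fun x => D.uu d R x) (fun x => D.uu (P.reflectionPerm a a) R x)
    (fun x => D.uu (P.reflectionPerm b b) R x) (fun x y => D.uu_add a x y)
    (fun x y => D.uu_add b x y) (fun x y => D.uu_add c x y) (fun x y => D.uu_add d x y)
    (C c) (C d) (C' d) r
    (fun x y => by simpa using hba x y) (fun x y => by simpa using hca x y)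
    (fun x y => hda x y) (fun x y => hcb x y) (fun x y => hdb x y) (fun x y => hdc x y)
    (nn P a R) (nn P b R) rfl rfl (fun x => nb_fa x)
    (fun x => (nn_conj_self P hP hpe Δ hG hrb x).1) (fun x => nb_fc x) (fun x => nb_fd x)
    (fun x y => (pin_comm P hP Δ hG ha hb hab x y).symm) (fun x y => gb_fd x y)
    (fun x => (nn_conj_self P hP hpe Δ hG hra x).1) (fun x => na_fb x)
    (fun x => by simpa using hr x) (fun x => na_fd x) hrr
    (fun x y => (pin_comm P hP Δ hG hb ha hab.symm x y).symm)
    (by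
      intro x₁ x₂ x₃ x₄ y₁ y₂ y₃ y₄ h
      classical
      obtain ⟨lam, hlam⟩ := exists_lam P hP Δ ha hb
      have h1 := CommR.uniq hG lam [a, b, c, d] hnd (by
        simp only [List.mem_cons, List.not_mem_nil, or_false, forall_eq_or_imp, forall_eq]
        exact ⟨hlam a 1 0 cA (by norm_num), hlam b 0 1 cB (by norm_num),
          hlam c 1 1 hc (by norm_num), hlam d 2 1 hd (by norm_num)⟩)
        (fun e => if e = a then x₁ else if e = b then x₂ else if e = c then x₃ else x₄)
        (fun e => if e = a then y₁ else if e = b then y₂ else if e = c then y₃ else y₄)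
        (by simpa [hab, hab.symm, hac, hac.symm, hbc, hbc.symm, had, had.symm, hbd, hbd.symm,
          hcd, hcd.symm] using h)
      simpa [hab, hab.symm, hac, hac.symm, hbc, hbc.symm, had, had.symm, hbd, hbd.symm,
          hcd, hcd.symm] using h1)
  obtain ⟨h1, h2, h3, h4⟩ := hconst
  exact ⟨⟨fun x y => by simpa [h1, h2] using hba x y, fun x y => by
      have := hca x y
      rw [h3, map_ofNat] at this
      exact this,
    fun x y => hda x y, fun x y => hcb x y, fun x y => hdb x y, fun x y => hdc x y⟩,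
    fun x => by simpa [h4] using hr x, fun x => na_fd x, fun x => nb_fc x, fun x => nb_fd x⟩

/-- Type `B₂` -/
theorem b2 (pba : P.pairing b a = -2) (pab : P.pairing a b = -1)
    {B : Type u} [CommRing B] [Algebra R B] (uc ud : B → Pt R A B)
    (huc : ∀ x, uc x = nn P b B * D.uu a B x * (nn P b B)⁻¹)
    (hud : ∀ x, ud x = nn P a B * D.uu b B x * (nn P a B)⁻¹) :
    ((∀ x y : B, D.uu b B y * D.uu a B x = D.uu a B x * (D.uu b B y *
      (uc (x * y) * ud (x ^ 2 * y)))) ∧
    (∀ x y : B, uc y * D.uu a B x = D.uu a B x * (uc y * ud (2 * x * y))) ∧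
    (∀ x y : B, ud y * D.uu a B x = D.uu a B x * ud y) ∧
    (∀ x y : B, uc y * D.uu b B x = D.uu b B x * uc y) ∧
    (∀ x y : B, ud y * D.uu b B x = D.uu b B x * ud y) ∧
    (∀ x y : B, ud y * uc x = uc x * ud y)) ∧
    (∀ x : B, nn P a B * uc x * (nn P a B)⁻¹ = uc (-x)) ∧
    (∀ x : B, nn P a B * ud x * (nn P a B)⁻¹ = D.uu b B x) ∧
    (∀ x : B, nn P b B * uc x * (nn P b B)⁻¹ = D.uu a B (-x)) ∧
    (∀ x : B, nn P b B * ud x * (nn P b B)⁻¹ = ud x) := by
  classical
  let c := P.reflectionPerm b a
  let d := P.reflectionPerm a b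
  have hc : Co a b c 1 1 := by
    have := co_refl_right P hP (co_left (D := D) (a := a) (b := b)) pab
    norm_num at this
    exact this
  have hd : Co a b d 2 1 := by
    have := co_refl_left P hP (co_right (D := D) (a := a) (b := b)) pba
    norm_num at this
    exact this
  obtain ⟨s, hs⟩ := nn_conj P hP hpe Δ hG hrb a
  obtain ⟨s', hs'⟩ := nn_conj P hP hpe Δ hG hra b
  let ε : D.idx → Rˣ := fun e => if e = c then s else if e = d then s' else 1
  have ene : ∀ {e : D.idx} {m n : ℤ}, Co a b e m n → ¬ (m = 1 ∧ n = 1) → ¬ (m = 2 ∧ n = 1) →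
      ε e = 1 := by
    intro e m n h h1 h2
    simp only [ε]
    rw [if_neg (h.ne P hP Δ ha hb hab hc h1), if_neg (h.ne P hP Δ ha hb hab hd h2)]
  have ea : ε a = 1 := ene co_left (by norm_num) (by norm_num)
  have eb : ε b = 1 := ene co_right (by norm_num) (by norm_num)
  have ea' : ε (P.reflectionPerm a a) = 1 := ene (co_neg_left P hP) (by norm_num) (by norm_num)
  have eb' : ε (P.reflectionPerm b b) = 1 := ene (co_neg_right P hP) (by norm_num) (by norm_num)
  have ec : ε c = s := if_pos rfl
  have ed : ε d = s' := (if_neg (hd.ne P hP Δ ha hb hab hc (by norm_num))).trans (if_pos rfl)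
  have hres : ∀ (d : D.idx) {B : Type u} [CommRing B] [Algebra R B] (x : B),
      (D.rescale ε).uu d B x = D.uu d B (algebraMap R B (ε d) * x) := fun d B _ _ x => rfl
  have key := b2_norm (D := D.rescale ε) P hP hpe Δ (Good.rescale D ε hG) ha hb hab
    (rank1_rescale ε P ea ea' hra) (rank1_rescale ε P eb eb' hrb) pba pab (c := c) (d := d) hc hd
    (by
      intro B _ _ x
      rw [nn_rescale ε P eb eb', hres, hres, ea, ec, Units.val_one, map_one, one_mul]
      exact hs x)
    (by
      intro B _ _ x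
      rw [nn_rescale ε P ea ea', hres, hres, eb, ed, Units.val_one, map_one, one_mul]
      exact hs' x) (B := B)
  have huc' : ∀ x, (D.rescale ε).uu c B x = uc x := by
    intro x
    rw [huc, hres, ec]
    exact (hs x).symm
  have hud' : ∀ x, (D.rescale ε).uu d B x = ud x := by
    intro x
    rw [hud, hres, ed]
    exact (hs' x).symm
  have hua' : ∀ x, (D.rescale ε).uu a B x = D.uu a B x := by
    intro x
    rw [hres, ea, Units.val_one, map_one, one_mul]
  have hub' : ∀ x, (D.rescale ε).uu b B x = D.uu b B x := by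
    intro x
    rw [hres, eb, Units.val_one, map_one, one_mul]
  simp only [huc', hud', hua', hub', nn_rescale ε P ea ea', nn_rescale ε P eb eb'] at key
  exact key

end K213.Rk2
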