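import Groth.Agent.Red.K213.Rk2B

/-!
# Type `G₂` at the level of rings
-/

set_option autoImplicit false
set_option linter.unusedSectionVars false
universe u

namespace K213.Rk2

open Groth.Agent.Sga3B.Cell Groth.Agent.Sga3B.Cell.Datum Groth.Agent.Sga3B K213.RkOneR

variable {R A : Type u} [CommRing R] [CommRing A] [Algebra R A] [PtGrp R A] {D : Datum R A}
variable (P : RootPairing D.idx ℤ D.M (Module.Dual ℤ D.M)) (hP : ∀ a, P.root a = D.root a)
  (hpe : P.toLinearMap = Module.Dual.eval ℤ D.M) (Δ : P.Base) (hG : D.Good) {a b : D.idx}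
  (ha : a ∈ Δ.support) (hb : b ∈ Δ.support) (hab : a ≠ b)
  (hra : Rank1 P a) (hrb : Rank1 P b)

/-- conjugation by `n_a` is trivial on what commutes with `U_a` and `U_{-a}` -/
lemma nn_comm {B : Type u} [CommRing B] [Algebra R B] {g : Pt R A B}
    (h1 : D.uu a B 1 * g = g * D.uu a B 1)
    (h2 : D.uu (P.reflectionPerm a a) B (-1) * g = g * D.uu (P.reflectionPerm a a) B (-1)) :
    nn P a B * g * (nn P a B)⁻¹ = g := by
  have h : nn P a B * g = g * nn P a B := by
    calc D.uu a B 1 * D.uu (P.reflectionPerm a a) B (-1) * D.uu a B 1 * g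
        = D.uu a B 1 * D.uu (P.reflectionPerm a a) B (-1) * (D.uu a B 1 * g) := by group
      _ = D.uu a B 1 * (D.uu (P.reflectionPerm a a) B (-1) * g) * D.uu a B 1 := by rw [h1]; group
      _ = (D.uu a B 1 * g) * D.uu (P.reflectionPerm a a) B (-1) * D.uu a B 1 := by rw [h2]; group
      _ = g * (D.uu a B 1 * D.uu (P.reflectionPerm a a) B (-1) * D.uu a B 1) := by rw [h1]; group
  rw [h]; group

include hP hpe hG Δ hra in
/-- if `U_a` commutes with `U_d` and `s_a(d) = e`, then `U_{-a}` commutes with `U_e` -/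
lemma gcomm_of {d e : D.idx} (he : P.reflectionPerm a d = e)
    (h : ∀ {B : Type u} [CommRing B] [Algebra R B] (x y : B),
      D.uu d B y * D.uu a B x = D.uu a B x * D.uu d B y)
    {B : Type u} [CommRing B] [Algebra R B] (x y : B) :
    D.uu (P.reflectionPerm a a) B y * D.uu e B x = D.uu e B x * D.uu (P.reflectionPerm a a) B y := by
  obtain ⟨s, hs⟩ := nn_conj P hP hpe Δ hG hra d
  rw [he] at hs
  have h := congrArg (fun g => nn P a B * g * (nn P a B)⁻¹)
    (h (-y) (algebraMap R B ((s⁻¹ : Rˣ) : R) * x))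
  simp only [Const.conj_mul, (nn_conj_self P hP hpe Δ hG hra _).1, hs, neg_neg] at h
  rw [← mul_assoc, ← map_mul, Units.mul_inv, map_one, one_mul] at h
  exact h.symm

include hP hpe hG ha hb hab hra hrb

/-- Type `G₂`, normalized: `u_c = Int(n_b) u_a`, `u_d = Int(n_a) u_c`, `u_e(x) = Int(n_a) u_b(-x)`,
`u_f = Int(n_b) u_e`. -/
theorem g2_norm (pba : P.pairing b a = -3) (pab : P.pairing a b = -1) {c d e f : D.idx}
    (hc : Co a b c 1 1) (hd : Co a b d 2 1) (he : Co a b e 3 1) (hf : Co a b f 3 2)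
    (nb_fa : ∀ {B : Type u} [CommRing B] [Algebra R B] (x : B),
      nn P b B * D.uu a B x * (nn P b B)⁻¹ = D.uu c B x)
    (na_fc : ∀ {B : Type u} [CommRing B] [Algebra R B] (x : B),
      nn P a B * D.uu c B x * (nn P a B)⁻¹ = D.uu d B x)
    (na_fb' : ∀ {B : Type u} [CommRing B] [Algebra R B] (x : B),
      nn P a B * D.uu b B (-x) * (nn P a B)⁻¹ = D.uu e B x)
    (nb_fe : ∀ {B : Type u} [CommRing B] [Algebra R B] (x : B),
      nn P b B * D.uu e B x * (nn P b B)⁻¹ = D.uu f B x)
    {B : Type u} [CommRing B] [Algebra R B] :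
    ((∀ x y : B, D.uu b B y * D.uu a B x = D.uu a B x * (D.uu b B y *
      (D.uu c B (x * y) * (D.uu d B (x ^ 2 * y) * (D.uu e B (x ^ 3 * y) *
        D.uu f B (x ^ 3 * y ^ 2)))))) ∧
    (∀ x y : B, D.uu c B y * D.uu a B x = D.uu a B x * (D.uu c B y * (D.uu d B (2 * x * y) *
      (D.uu e B (3 * x ^ 2 * y) * D.uu f B (3 * x * y ^ 2))))) ∧
    (∀ x y : B, D.uu d B y * D.uu a B x = D.uu a B x * (D.uu d B y * D.uu e B (3 * x * y))) ∧
    (∀ x y : B, D.uu e B y * D.uu b B x = D.uu b B x * (D.uu e B y * D.uu f B (-(x * y)))) ∧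
    (∀ x y : B, D.uu d B y * D.uu c B x = D.uu c B x * (D.uu d B y * D.uu f B (3 * x * y)))) ∧
    ((∀ x y : B, D.uu e B y * D.uu a B x = D.uu a B x * D.uu e B y) ∧
    (∀ x y : B, D.uu f B y * D.uu a B x = D.uu a B x * D.uu f B y) ∧
    (∀ x y : B, D.uu c B y * D.uu b B x = D.uu b B x * D.uu c B y) ∧
    (∀ x y : B, D.uu d B y * D.uu b B x = D.uu b B x * D.uu d B y) ∧
    (∀ x y : B, D.uu f B y * D.uu b B x = D.uu b B x * D.uu f B y) ∧
    (∀ x y : B, D.uu e B y * D.uu c B x = D.uu c B x * D.uu e B y) ∧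
    (∀ x y : B, D.uu f B y * D.uu c B x = D.uu c B x * D.uu f B y) ∧
    (∀ x y : B, D.uu e B y * D.uu d B x = D.uu d B x * D.uu e B y) ∧
    (∀ x y : B, D.uu f B y * D.uu d B x = D.uu d B x * D.uu f B y) ∧
    (∀ x y : B, D.uu f B y * D.uu e B x = D.uu e B x * D.uu f B y)) ∧
    (∀ x : B, nn P a B * D.uu d B x * (nn P a B)⁻¹ = D.uu c B (-x)) ∧
    (∀ x : B, nn P a B * D.uu e B x * (nn P a B)⁻¹ = D.uu b B x) ∧
    (∀ x : B, nn P a B * D.uu f B x * (nn P a B)⁻¹ = D.uu f B x) ∧
    (∀ x : B, nn P b B * D.uu c B x * (nn P b B)⁻¹ = D.uu a B (-x)) ∧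
    (∀ x : B, nn P b B * D.uu d B x * (nn P b B)⁻¹ = D.uu d B x) ∧
    (∀ x : B, nn P b B * D.uu f B x * (nn P b B)⁻¹ = D.uu e B (-x)) := by
  have hcls : ∀ (d : D.idx) (i j : ℤ), 0 < i → 0 < j → Co a b d i j →
      (i = 1 ∧ j = 1) ∨ (i = 2 ∧ j = 1) ∨ (i = 3 ∧ j = 1) ∨ (i = 3 ∧ j = 2) :=
    fun d i j hi hj h => Comb.g2_pos Δ ha hb hab pba pab hi hj (Co.root P hP h)
  have hin : ∀ (k : D.idx) (i j : ℤ), 0 < i → 0 < j → Co a b k i j →
      (i = 1 ∧ j = 1 ∧ k = c) ∨ (i = 2 ∧ j = 1 ∧ k = d) ∨ (i = 3 ∧ j = 1 ∧ k = e) ∨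
      (i = 3 ∧ j = 2 ∧ k = f) := by
    intro k i j hi hj h
    rcases hcls k i j hi hj h with ⟨rfl, rfl⟩ | ⟨rfl, rfl⟩ | ⟨rfl, rfl⟩ | ⟨rfl, rfl⟩
    · exact Or.inl ⟨rfl, rfl, h.eq hc⟩
    · exact Or.inr (Or.inl ⟨rfl, rfl, h.eq hd⟩)
    · exact Or.inr (Or.inr (Or.inl ⟨rfl, rfl, h.eq he⟩))
    · exact Or.inr (Or.inr (Or.inr ⟨rfl, rfl, h.eq hf⟩))
  have cA := co_left (D := D) (a := a) (b := b)
  have cB := co_right (D := D) (a := a) (b := b)
  have hL : ∀ t ∈ [(a, (1 : ℤ), (0 : ℤ)), (b, 0, 1), (c, 1, 1), (d, 2, 1), (e, 3, 1), (f, 3, 2)],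
      Co a b t.1 t.2.1 t.2.2 := by
    simp only [List.mem_cons, List.not_mem_nil, or_false, forall_eq_or_imp, forall_eq]
    exact ⟨cA, cB, hc, hd, he, hf⟩
  have hnd : [a, b, c, d, e, f].Nodup := nodup_of_co P hP Δ ha hb hab
    [(a, 1, 0), (b, 0, 1), (c, 1, 1), (d, 2, 1), (e, 3, 1), (f, 3, 2)] hL (by simp)
  -- the commutation rules
  obtain ⟨C, hC⟩ := swap_co P hP Δ hG ha hb hab cA cB (by norm_num) (by norm_num)
    (by norm_num) [(c, 1, 1), (d, 2, 1), (e, 3, 1), (f, 3, 2)]
    (by simp; exact ⟨hc, hd, he, hf⟩) (by simp) (by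
      intro k i j hi hj h
      rcases hin k _ _ (by omega) (by omega) h with ⟨h1, h2, rfl⟩ | ⟨h1, h2, rfl⟩ |
        ⟨h1, h2, rfl⟩ | ⟨h1, h2, rfl⟩ <;> simp)
  obtain ⟨C', hC'⟩ := swap_co P hP Δ hG ha hb hab cA hc (by norm_num) (by norm_num)
    (by norm_num) [(d, 1, 1), (e, 2, 1), (f, 1, 2)]
    (by norm_num; exact ⟨hd, he, hf⟩) (by simp) (by
      intro k i j hi hj h
      rcases hin k _ _ (by omega) (by omega) h with ⟨h1, h2, rfl⟩ | ⟨h1, h2, rfl⟩ |
        ⟨h1, h2, rfl⟩ | ⟨h1, h2, rfl⟩
      · omega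
      all_goals simp)
  obtain ⟨H, hH⟩ := swap_co P hP Δ hG ha hb hab cA hd (by norm_num) (by norm_num)
    (by norm_num) [(e, 1, 1)] (by norm_num; exact he) (by simp) (by
      intro k i j hi hj h
      rcases hin k _ _ (by omega) (by omega) h with ⟨h1, h2, rfl⟩ | ⟨h1, h2, rfl⟩ |
        ⟨h1, h2, rfl⟩ | ⟨h1, h2, rfl⟩
      · omega
      · omega
      · simp
      · omega)
  obtain ⟨I, hI⟩ := swap_co P hP Δ hG ha hb hab cB he (by norm_num) (by norm_num)
    (by norm_num) [(f, 1, 1)] (by norm_num; exact hf) (by simp) (by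
      intro k i j hi hj h
      rcases hin k _ _ (by omega) (by omega) h with ⟨h1, h2, rfl⟩ | ⟨h1, h2, rfl⟩ |
        ⟨h1, h2, rfl⟩ | ⟨h1, h2, rfl⟩
      · omega
      · omega
      · omega
      · simp)
  obtain ⟨J, hJ⟩ := swap_co P hP Δ hG ha hb hab hc hd (by norm_num) (by norm_num)
    (by norm_num) [(f, 1, 1)] (by norm_num; exact hf) (by simp) (by
      intro k i j hi hj h
      rcases hin k _ _ (by omega) (by omega) h with ⟨h1, h2, rfl⟩ | ⟨h1, h2, rfl⟩ |
        ⟨h1, h2, rfl⟩ | ⟨h1, h2, rfl⟩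
      · omega
      · omega
      · omega
      · simp)
  have hea := fun {B : Type u} [CommRing B] [Algebra R B] => comm_co P hP Δ hG ha hb hab
    cA he (by norm_num) (by norm_num) (by norm_num) (by
      intro k i j hi hj h
      have := hcls k _ _ (by omega) (by omega) h
      omega) (B := B)
  have hfa := fun {B : Type u} [CommRing B] [Algebra R B] => comm_co P hP Δ hG ha hb hab
    cA hf (by norm_num) (by norm_num) (by norm_num) (by
      intro k i j hi hj h
      have := hcls k _ _ (by omega) (by omega) h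
      omega) (B := B)
  have hcb := fun {B : Type u} [CommRing B] [Algebra R B] => comm_co P hP Δ hG ha hb hab
    cB hc (by norm_num) (by norm_num) (by norm_num) (by
      intro k i j hi hj h
      have := hcls k _ _ (by omega) (by omega) h
      omega) (B := B)
  have hdb := fun {B : Type u} [CommRing B] [Algebra R B] => comm_co P hP Δ hG ha hb hab
    cB hd (by norm_num) (by norm_num) (by norm_num) (by
      intro k i j hi hj h
      have := hcls k _ _ (by omega) (by omega) h
      omega) (B := B)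
  have hfb := fun {B : Type u} [CommRing B] [Algebra R B] => comm_co P hP Δ hG ha hb hab
    cB hf (by norm_num) (by norm_num) (by norm_num) (by
      intro k i j hi hj h
      have := hcls k _ _ (by omega) (by omega) h
      omega) (B := B)
  have hec := fun {B : Type u} [CommRing B] [Algebra R B] => comm_co P hP Δ hG ha hb hab
    hc he (by norm_num) (by norm_num) (by norm_num) (by
      intro k i j hi hj h
      have := hcls k _ _ (by omega) (by omega) h
      omega) (B := B)
  have hfc := fun {B : Type u} [CommRing B] [Algebra R B] => comm_co P hP Δ hG ha hb hab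
    hc hf (by norm_num) (by norm_num) (by norm_num) (by
      intro k i j hi hj h
      have := hcls k _ _ (by omega) (by omega) h
      omega) (B := B)
  have hed := fun {B : Type u} [CommRing B] [Algebra R B] => comm_co P hP Δ hG ha hb hab
    hd he (by norm_num) (by norm_num) (by norm_num) (by
      intro k i j hi hj h
      have := hcls k _ _ (by omega) (by omega) h
      omega) (B := B)
  have hfd := fun {B : Type u} [CommRing B] [Algebra R B] => comm_co P hP Δ hG ha hb hab
    hd hf (by norm_num) (by norm_num) (by norm_num) (by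
      intro k i j hi hj h
      have := hcls k _ _ (by omega) (by omega) h
      omega) (B := B)
  have hfe := fun {B : Type u} [CommRing B] [Algebra R B] => comm_co P hP Δ hG ha hb hab
    he hf (by norm_num) (by norm_num) (by norm_num) (by
      intro k i j hi hj h
      have := hcls k _ _ (by omega) (by omega) h
      omega) (B := B)
  have hba : ∀ {B : Type u} [CommRing B] [Algebra R B] (x y : B), D.uu b B y * D.uu a B x =
      D.uu a B x * (D.uu b B y * (D.uu c B (algebraMap R B (C c) * x * y) *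
        (D.uu d B (algebraMap R B (C d) * x ^ 2 * y) * (D.uu e B (algebraMap R B (C e) * x ^ 3 * y) *
          D.uu f B (algebraMap R B (C f) * x ^ 3 * y ^ 2))))) := by
    intro B _ _ x y
    have := hC x y
    simpa using this
  have hca : ∀ {B : Type u} [CommRing B] [Algebra R B] (x y : B), D.uu c B y * D.uu a B x =
      D.uu a B x * (D.uu c B y * (D.uu d B (algebraMap R B (C' d) * x * y) *
        (D.uu e B (algebraMap R B (C' e) * x ^ 2 * y) *
          D.uu f B (algebraMap R B (C' f) * x * y ^ 2)))) := by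
    intro B _ _ x y
    have := hC' x y
    simpa using this
  have hda : ∀ {B : Type u} [CommRing B] [Algebra R B] (x y : B), D.uu d B y * D.uu a B x =
      D.uu a B x * (D.uu d B y * D.uu e B (algebraMap R B (H e) * x * y)) := by
    intro B _ _ x y
    have := hH x y
    simpa using this
  have heb : ∀ {B : Type u} [CommRing B] [Algebra R B] (x y : B), D.uu e B y * D.uu b B x =
      D.uu b B x * (D.uu e B y * D.uu f B (algebraMap R B (I f) * x * y)) := by
    intro B _ _ x y
    have := hI x y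
    simpa using this
  have hdc : ∀ {B : Type u} [CommRing B] [Algebra R B] (x y : B), D.uu d B y * D.uu c B x =
      D.uu c B x * (D.uu d B y * D.uu f B (algebraMap R B (J f) * x * y)) := by
    intro B _ _ x y
    have := hJ x y
    simpa using this
  -- the conjugations
  have nb_fc : ∀ {B : Type u} [CommRing B] [Algebra R B] (x : B),
      nn P b B * D.uu c B x * (nn P b B)⁻¹ = D.uu a B (-x) := by
    intro B _ _ x
    rw [← nb_fa, nn_sq_conj_odd P hP hpe hrb (by rw [pab]; decide)]
  have na_fd : ∀ {B : Type u} [CommRing B] [Algebra R B] (x : B),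
      nn P a B * D.uu d B x * (nn P a B)⁻¹ = D.uu c B (-x) := by
    intro B _ _ x
    rw [← na_fc, nn_sq_conj_odd P hP hpe hra (by rw [pairing_left P hP hc, pba]; decide)]
  have na_fe : ∀ {B : Type u} [CommRing B] [Algebra R B] (x : B),
      nn P a B * D.uu e B x * (nn P a B)⁻¹ = D.uu b B x := by
    intro B _ _ x
    rw [← na_fb', nn_sq_conj_odd P hP hpe hra (by rw [pba]; decide), neg_neg]
  have nb_ff : ∀ {B : Type u} [CommRing B] [Algebra R B] (x : B),
      nn P b B * D.uu f B x * (nn P b B)⁻¹ = D.uu e B (-x) := by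
    intro B _ _ x
    rw [← nb_fe, nn_sq_conj_odd P hP hpe hrb (by rw [pairing_right P hP he, pab]; decide)]
  have na_fb : ∀ {B : Type u} [CommRing B] [Algebra R B] (x : B),
      nn P a B * D.uu b B x * (nn P a B)⁻¹ = D.uu e B (-x) := by
    intro B _ _ x
    rw [← na_fb', neg_neg]
  have e1 : P.reflectionPerm b d = d := by
    have := co_refl_right P hP hd pab
    norm_num at this
    exact this.eq hd
  have e2 : P.reflectionPerm b f = e := by
    have := co_refl_right P hP hf pab
    norm_num at this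
    exact this.eq he
  have e3 : P.reflectionPerm a f = f := by
    have := co_refl_left P hP hf pba
    norm_num at this
    exact this.eq hf
  have gb_fd := fun {B : Type u} [CommRing B] [Algebra R B] =>
    gcomm_of P hP hpe Δ hG hrb e1 (fun x y => hdb x y) (B := B)
  have gb_fe := fun {B : Type u} [CommRing B] [Algebra R B] =>
    gcomm_of P hP hpe Δ hG hrb e2 (fun x y => hfb x y) (B := B)
  have ga_ff := fun {B : Type u} [CommRing B] [Algebra R B] =>
    gcomm_of P hP hpe Δ hG hra e3 (fun x y => hfa x y) (B := B)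
  have nb_fd : ∀ {B : Type u} [CommRing B] [Algebra R B] (x : B),
      nn P b B * D.uu d B x * (nn P b B)⁻¹ = D.uu d B x := by
    intro B _ _ x
    exact nn_comm P (hdb 1 x).symm (gb_fd x (-1))
  have na_ff : ∀ {B : Type u} [CommRing B] [Algebra R B] (x : B),
      nn P a B * D.uu f B x * (nn P a B)⁻¹ = D.uu f B x := by
    intro B _ _ x
    exact nn_comm P (hfa 1 x).symm (ga_ff x (-1))
  have hconst := Const.g2_consts (fun x : R => D.uu a R x) (fun x => D.uu b R x)
    (fun x => D.uu c R x) (fun x => D.uu d R x) (fun x => D.uu e R x) (fun x => D.uu f R x)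
    (fun x => D.uu (P.reflectionPerm a a) R x)
    (fun x => D.uu (P.reflectionPerm b b) R x) (fun x y => D.uu_add a x y)
    (fun x y => D.uu_add b x y) (fun x y => D.uu_add c x y) (fun x y => D.uu_add d x y)
    (fun x y => D.uu_add e x y) (fun x y => D.uu_add f x y)
    (C c) (C d) (C e) (C f) (C' d) (C' e) (C' f) (H e) (I f) (J f)
    (fun x y => by simpa using hba x y) (fun x y => by simpa using hca x y)
    (fun x y => by simpa using hda x y) (fun x y => hea x y) (fun x y => hfa x y)
    (fun x y => hcb x y) (fun x y => hdb x y) (fun x y => by simpa using heb x y)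
    (fun x y => hfb x y) (fun x y => by simpa using hdc x y) (fun x y => hec x y)
    (fun x y => hfc x y) (fun x y => hed x y) (fun x y => hfd x y) (fun x y => hfe x y)
    (nn P a R) (nn P b R) rfl rfl (fun x => nb_fa x)
    (fun x => (nn_conj_self P hP hpe Δ hG hrb x).1) (fun x => nb_fc x) (fun x => nb_fd x)
    (fun x => nb_fe x) (fun x => nb_ff x)
    (fun x y => (pin_comm P hP Δ hG ha hb hab x y).symm) (fun x y => gb_fd x y)
    (fun x y => gb_fe x y)
    (fun x => (nn_conj_self P hP hpe Δ hG hra x).1) (fun x => na_fb x) (fun x => na_fc x)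
    (fun x => na_fd x) (fun x => na_fe x) (fun x => na_ff x)
    (fun x y => (pin_comm P hP Δ hG hb ha hab.symm x y).symm) (fun x y => ga_ff x y)
    (by
      intro x₁ x₂ x₃ x₄ x₅ x₆ y₁ y₂ y₃ y₄ y₅ y₆ h
      classical
      obtain ⟨lam, hlam⟩ := exists_lam P hP Δ ha hb
      have hac : a ≠ c := by rintro rfl; simp at hnd
      have had : a ≠ d := by rintro rfl; simp at hnd
      have hae : a ≠ e := by rintro rfl; simp at hnd
      have haf : a ≠ f := by rintro rfl; simp at hnd
      have hbc : b ≠ c := by rintro rfl; simp at hnd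
      have hbd : b ≠ d := by rintro rfl; simp at hnd
      have hbe : b ≠ e := by rintro rfl; simp at hnd
      have hbf : b ≠ f := by rintro rfl; simp at hnd
      have hcd : c ≠ d := by rintro rfl; simp at hnd
      have hce : c ≠ e := by rintro rfl; simp at hnd
      have hcf : c ≠ f := by rintro rfl; simp at hnd
      have hde : d ≠ e := by rintro rfl; simp at hnd
      have hdf : d ≠ f := by rintro rfl; simp at hnd
      have hef : e ≠ f := by rintro rfl; simp at hnd
      have h1 := CommR.uniq hG lam [a, b, c, d, e, f] hnd (by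
        simp only [List.mem_cons, List.not_mem_nil, or_false, forall_eq_or_imp, forall_eq]
        exact ⟨hlam a 1 0 cA (by norm_num), hlam b 0 1 cB (by norm_num),
          hlam c 1 1 hc (by norm_num), hlam d 2 1 hd (by norm_num), hlam e 3 1 he (by norm_num),
          hlam f 3 2 hf (by norm_num)⟩)
        (fun k => if k = a then x₁ else if k = b then x₂ else if k = c then x₃ else
          if k = d then x₄ else if k = e then x₅ else x₆)
        (fun k => if k = a then y₁ else if k = b then y₂ else if k = c then y₃ else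
          if k = d then y₄ else if k = e then y₅ else y₆)
        (by simpa [hab.symm, hac.symm, hbc.symm, had.symm, hbd.symm, hcd.symm, hae.symm, hbe.symm,
          hce.symm, hde.symm, haf.symm, hbf.symm, hcf.symm, hdf.symm, hef.symm] using h)
      simpa [hab.symm, hac.symm, hbc.symm, had.symm, hbd.symm, hcd.symm, hae.symm, hbe.symm,
          hce.symm, hde.symm, haf.symm, hbf.symm, hcf.symm, hdf.symm, hef.symm] using h1)
  obtain ⟨⟨k1, k2, k3, k4⟩, ⟨k5, k6, k7⟩, k8, k9, k10⟩ := hconst
  refine ⟨⟨fun x y => by simpa [k1, k2, k3, k4] using hba x y, fun x y => ?_, fun x y => ?_,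
    fun x y => ?_, fun x y => ?_⟩, ⟨fun x y => hea x y, fun x y => hfa x y, fun x y => hcb x y,
    fun x y => hdb x y, fun x y => hfb x y, fun x y => hec x y, fun x y => hfc x y,
    fun x y => hed x y, fun x y => hfd x y, fun x y => hfe x y⟩,
    fun x => na_fd x, fun x => na_fe x, fun x => na_ff x, fun x => nb_fc x, fun x => nb_fd x,
    fun x => nb_ff x⟩
  · have := hca x y
    rw [k5, k6, k7, map_ofNat, map_ofNat] at this
    exact this
  · have := hda x y
    rw [k8, map_ofNat] at this
    exact this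
  · have := heb x y
    rw [k9, map_neg, map_one, neg_mul, one_mul, neg_mul] at this
    exact this
  · have := hdc x y
    rw [k10, map_ofNat] at this
    exact this

/-- Type `G₂` -/
theorem g2 (pba : P.pairing b a = -3) (pab : P.pairing a b = -1)
    {B : Type u} [CommRing B] [Algebra R B] (uc ud ue uf : B → Pt R A B)
    (huc : ∀ x, uc x = nn P b B * D.uu a B x * (nn P b B)⁻¹)
    (hud : ∀ x, ud x = nn P a B * uc x * (nn P a B)⁻¹)
    (hue : ∀ x, ue x = nn P a B * D.uu b B (-x) * (nn P a B)⁻¹)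
    (huf : ∀ x, uf x = nn P b B * ue x * (nn P b B)⁻¹) :
    ((∀ x y : B, D.uu b B y * D.uu a B x = D.uu a B x * (D.uu b B y *
      (uc (x * y) * (ud (x ^ 2 * y) * (ue (x ^ 3 * y) * uf (x ^ 3 * y ^ 2)))))) ∧
    (∀ x y : B, uc y * D.uu a B x = D.uu a B x * (uc y * (ud (2 * x * y) *
      (ue (3 * x ^ 2 * y) * uf (3 * x * y ^ 2))))) ∧
    (∀ x y : B, ud y * D.uu a B x = D.uu a B x * (ud y * ue (3 * x * y))) ∧
    (∀ x y : B, ue y * D.uu b B x = D.uu b B x * (ue y * uf (-(x * y)))) ∧
    (∀ x y : B, ud y * uc x = uc x * (ud y * uf (3 * x * y)))) ∧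
    ((∀ x y : B, ue y * D.uu a B x = D.uu a B x * ue y) ∧
    (∀ x y : B, uf y * D.uu a B x = D.uu a B x * uf y) ∧
    (∀ x y : B, uc y * D.uu b B x = D.uu b B x * uc y) ∧
    (∀ x y : B, ud y * D.uu b B x = D.uu b B x * ud y) ∧
    (∀ x y : B, uf y * D.uu b B x = D.uu b B x * uf y) ∧
    (∀ x y : B, ue y * uc x = uc x * ue y) ∧
    (∀ x y : B, uf y * uc x = uc x * uf y) ∧
    (∀ x y : B, ue y * ud x = ud x * ue y) ∧
    (∀ x y : B, uf y * ud x = ud x * uf y) ∧
    (∀ x y : B, uf y * ue x = ue x * uf y)) ∧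
    (∀ x : B, nn P a B * ud x * (nn P a B)⁻¹ = uc (-x)) ∧
    (∀ x : B, nn P a B * ue x * (nn P a B)⁻¹ = D.uu b B x) ∧
    (∀ x : B, nn P a B * uf x * (nn P a B)⁻¹ = uf x) ∧
    (∀ x : B, nn P b B * uc x * (nn P b B)⁻¹ = D.uu a B (-x)) ∧
    (∀ x : B, nn P b B * ud x * (nn P b B)⁻¹ = ud x) ∧
    (∀ x : B, nn P b B * uf x * (nn P b B)⁻¹ = ue (-x)) := by
  classical
  let c := P.reflectionPerm b a
  let d := P.reflectionPerm a c
  let e := P.reflectionPerm a b
  let f := P.reflectionPerm b e
  have hc : Co a b c 1 1 := by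
    have := co_refl_right P hP (co_left (D := D) (a := a) (b := b)) pab
    norm_num at this
    exact this
  have hd : Co a b d 2 1 := by
    have := co_refl_left P hP hc pba
    norm_num at this
    exact this
  have he : Co a b e 3 1 := by
    have := co_refl_left P hP (co_right (D := D) (a := a) (b := b)) pba
    norm_num at this
    exact this
  have hf : Co a b f 3 2 := by
    have := co_refl_right P hP he pab
    norm_num at this
    exact this
  obtain ⟨s, hs⟩ := nn_conj P hP hpe Δ hG hrb a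
  obtain ⟨s2, hs2⟩ := nn_conj P hP hpe Δ hG hra c
  obtain ⟨s3, hs3⟩ := nn_conj P hP hpe Δ hG hra b
  obtain ⟨s4, hs4⟩ := nn_conj P hP hpe Δ hG hrb e
  let ε : D.idx → Rˣ := fun k => if k = c then s else if k = d then s2 * s else if k = e then -s3
    else if k = f then s4 * (-s3) else 1
  have ene : ∀ {k : D.idx} {m n : ℤ}, Co a b k m n → ¬ (m = 1 ∧ n = 1) → ¬ (m = 2 ∧ n = 1) →
      ¬ (m = 3 ∧ n = 1) → ¬ (m = 3 ∧ n = 2) → ε k = 1 := by
    intro k m n h h1 h2 h3 h4
    simp only [ε]
    rw [if_neg (h.ne P hP Δ ha hb hab hc h1), if_neg (h.ne P hP Δ ha hb hab hd h2),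
      if_neg (h.ne P hP Δ ha hb hab he h3), if_neg (h.ne P hP Δ ha hb hab hf h4)]
  have ea : ε a = 1 := ene co_left (by norm_num) (by norm_num) (by norm_num) (by norm_num)
  have eb : ε b = 1 := ene co_right (by norm_num) (by norm_num) (by norm_num) (by norm_num)
  have ea' : ε (P.reflectionPerm a a) = 1 :=
    ene (co_neg_left P hP) (by norm_num) (by norm_num) (by norm_num) (by norm_num)
  have eb' : ε (P.reflectionPerm b b) = 1 :=
    ene (co_neg_right P hP) (by norm_num) (by norm_num) (by norm_num) (by norm_num)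
  have ec : ε c = s := if_pos rfl
  have ed : ε d = s2 * s :=
    (if_neg (hd.ne P hP Δ ha hb hab hc (by norm_num))).trans (if_pos rfl)
  have ee : ε e = -s3 :=
    (if_neg (he.ne P hP Δ ha hb hab hc (by norm_num))).trans
      ((if_neg (he.ne P hP Δ ha hb hab hd (by norm_num))).trans (if_pos rfl))
  have ef : ε f = s4 * (-s3) :=
    (if_neg (hf.ne P hP Δ ha hb hab hc (by norm_num))).trans
      ((if_neg (hf.ne P hP Δ ha hb hab hd (by norm_num))).trans
        ((if_neg (hf.ne P hP Δ ha hb hab he (by norm_num))).trans (if_pos rfl)))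
  have hres : ∀ (d : D.idx) {B : Type u} [CommRing B] [Algebra R B] (x : B),
      (D.rescale ε).uu d B x = D.uu d B (algebraMap R B (ε d) * x) := fun d B _ _ x => rfl
  have h1' : ∀ {B : Type u} [CommRing B] [Algebra R B] (x : B),
      nn P b B * D.uu a B x * (nn P b B)⁻¹ = D.uu c B (algebraMap R B (ε c) * x) := by
    intro B _ _ x
    rw [hs x, ec]
  have h2' : ∀ {B : Type u} [CommRing B] [Algebra R B] (x : B),
      nn P a B * D.uu c B (algebraMap R B (ε c) * x) * (nn P a B)⁻¹ =
        D.uu d B (algebraMap R B (ε d) * x) := by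
    intro B _ _ x
    rw [hs2, ec, ed, Units.val_mul, map_mul, mul_assoc]
  have h3' : ∀ {B : Type u} [CommRing B] [Algebra R B] (x : B),
      nn P a B * D.uu b B (-x) * (nn P a B)⁻¹ =
        D.uu e B (algebraMap R B (ε e) * x) := by
    intro B _ _ x
    rw [hs3, ee, Units.val_neg, map_neg, mul_neg, neg_mul]
  have h4' : ∀ {B : Type u} [CommRing B] [Algebra R B] (x : B),
      nn P b B * D.uu e B (algebraMap R B (ε e) * x) * (nn P b B)⁻¹ =
        D.uu f B (algebraMap R B (ε f) * x) := by
    intro B _ _ x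
    rw [hs4, ee, ef, Units.val_mul, map_mul, mul_assoc]
  have key := g2_norm (D := D.rescale ε) P hP hpe Δ (Good.rescale D ε hG) ha hb hab
    (rank1_rescale ε P ea ea' hra) (rank1_rescale ε P eb eb' hrb) pba pab
    (c := c) (d := d) (e := e) (f := f) hc hd he hf
    (by
      intro B _ _ x
      rw [nn_rescale ε P eb eb', hres, hres, ea, Units.val_one, map_one, one_mul]
      exact h1' x)
    (by
      intro B _ _ x
      rw [nn_rescale ε P ea ea', hres, hres]
      exact h2' x)
    (by
      intro B _ _ x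
      rw [nn_rescale ε P ea ea', hres, hres, eb, Units.val_one, map_one, one_mul]
      exact h3' x)
    (by
      intro B _ _ x
      rw [nn_rescale ε P eb eb', hres, hres]
      exact h4' x) (B := B)
  have huc' : ∀ x, (D.rescale ε).uu c B x = uc x := by
    intro x
    rw [huc, hres, h1']
  have hud' : ∀ x, (D.rescale ε).uu d B x = ud x := by
    intro x
    rw [hud, hres, ← huc', hres, h2']
  have hue' : ∀ x, (D.rescale ε).uu e B x = ue x := by
    intro x
    rw [hue, hres, h3']
  have huf' : ∀ x, (D.rescale ε).uu f B x = uf x := by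
    intro x
    rw [huf, hres, ← hue', hres, h4']
  have hua' : ∀ x, (D.rescale ε).uu a B x = D.uu a B x := by
    intro x
    rw [hres, ea, Units.val_one, map_one, one_mul]
  have hub' : ∀ x, (D.rescale ε).uu b B x = D.uu b B x := by
    intro x
    rw [hres, eb, Units.val_one, map_one, one_mul]
  simp only [huc', hud', hue', huf', hua', hub', nn_rescale ε P ea ea', nn_rescale ε P eb eb'] at key
  exact key

end K213.Rk2
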