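import Groth.Agent.Red.K213.CommR
import Mathlib.RingTheory.Ideal.Quotient.Nilpotent

/-!
# Rank one computations at the level of rings

`P` root datum of the datum `D`, `a` a root such that `u_a` and `u_{-a}` are dual (`Rank1`).
-/

set_option autoImplicit false
set_option linter.unusedSectionVars false
universe u

open Polynomial

namespace K213.RkOneR

open Groth.Agent.Sga3B.Cell Groth.Agent.Sga3B.Cell.Datum Groth.Agent.Sga3B

variable {R A : Type u} [CommRing R] [CommRing A] [Algebra R A] [PtGrp R A] {D : Datum R A}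

section defs

variable (P : RootPairing D.idx ℤ D.M (Module.Dual ℤ D.M)) (a : D.idx)

/-- the root homomorphisms of `a` and `-a` are dual -/
def Rank1 : Prop := ∀ {B : Type u} [CommRing B] [Algebra R B] (x y : B) (v : Bˣ),
  (v : B) = 1 + x * y → D.uu a B x * D.uu (P.reflectionPerm a a) B y =
    D.uu (P.reflectionPerm a a) B ((v⁻¹ : Bˣ) * y) * D.i B (TPt.cow (P.coroot a) v) *
      D.uu a B ((v⁻¹ : Bˣ) * x)

/-- `n_a = u_a(1) u_{-a}(-1) u_a(1)` -/
def nn (B : Type u) [CommRing B] [Algebra R B] : Pt R A B :=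
  D.uu a B 1 * D.uu (P.reflectionPerm a a) B (-1) * D.uu a B 1

lemma nn_nat {B C : Type u} [CommRing B] [Algebra R B] [CommRing C] [Algebra R C] (φ : B →ₐ[R] C) :
    Pt.map φ (nn P a B) = nn P a C := by
  simp only [nn, Pt.map_mul, D.uu_nat, map_neg, map_one]

end defs

section torus

variable {M : Type} {B : Type u} [AddCommGroup M] [CommRing B]

/-- values of torus points, as units -/
def TPt.un (m : M) (t : TPt M B) : Bˣ := t (Multiplicative.ofAdd m)

lemma TPt.coe_un (m : M) (t : TPt M B) : ((TPt.un m t : Bˣ) : B) = TPt.ch m t := rfl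

lemma cow_inv (f : Module.Dual ℤ M) (v : Bˣ) : TPt.cow f v⁻¹ = (TPt.cow f v)⁻¹ := by
  apply MonoidHom.ext
  intro m
  change (v⁻¹) ^ (f m.toAdd) = (v ^ (f m.toAdd))⁻¹
  rw [inv_zpow]

lemma cow_mul (f : Module.Dual ℤ M) (v w : Bˣ) : TPt.cow f (v * w) = TPt.cow f v * TPt.cow f w := by
  apply MonoidHom.ext
  intro m
  exact mul_zpow _ _ _

lemma cow_one (f : Module.Dual ℤ M) : TPt.cow f (1 : Bˣ) = 1 := by
  apply MonoidHom.ext
  intro m
  exact one_zpow _

lemma ch_cow_neg_one (f : Module.Dual ℤ M) (m : M) :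
    TPt.ch m (TPt.cow f (-1 : Bˣ)) = (((-1 : ℤˣ) ^ (f m) : ℤˣ) : ℤ) := by
  rw [TPt.ch_cow]
  rcases Int.even_or_odd (f m) with h | h
  · rw [h.neg_one_zpow, h.neg_one_zpow]; simp
  · rw [h.neg_one_zpow, h.neg_one_zpow]; simp

end torus

/-- the unit `1 + e` when `e² = 0` -/
def un1 {C : Type u} [CommRing C] (e : C) (h : e * e = 0) : Cˣ :=
  ⟨1 + e, 1 - e, by
      have : (1 + e) * (1 - e) = 1 - e * e := by ring
      rw [this, h, sub_zero], by
      have : (1 - e) * (1 + e) = 1 - e * e := by ring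
      rw [this, h, sub_zero]⟩

variable (P : RootPairing D.idx ℤ D.M (Module.Dual ℤ D.M)) (hP : ∀ a, P.root a = D.root a)
  (hpe : P.toLinearMap = Module.Dual.eval ℤ D.M) (Δ : P.Base) (hG : D.Good)

include hP in
lemma root_neg (a : D.idx) : D.root (P.reflectionPerm a a) = - D.root a := by
  rw [← hP, ← hP]; simp

lemma neg_neg' (a : D.idx) :
    P.reflectionPerm (P.reflectionPerm a a) (P.reflectionPerm a a) = a := by
  have h : ∀ c, P.root (P.reflectionPerm c c) = - P.root c := by simp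
  apply P.root.injective
  rw [h, h, neg_neg]

include hpe in
lemma coroot_root (a c : D.idx) : P.coroot a (P.root c) = P.pairing c a := by
  have : P.toLinearMap (P.root c) (P.coroot a) = P.pairing c a := rfl
  rw [hpe] at this
  exact this

include hpe hP in
lemma coroot_root' (a c : D.idx) : P.coroot a (D.root c) = P.pairing c a := by
  rw [← hP]; exact coroot_root P hpe a c

include hP hG in
/-- uniqueness of the rank one coordinates -/
theorem rk1_inj {a : D.idx} {B : Type u} [CommRing B] [Algebra R B]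
    {x y x' y' : B} {t t' : TPt D.M B}
    (h : D.uu (P.reflectionPerm a a) B y * D.i B t * D.uu a B x =
      D.uu (P.reflectionPerm a a) B y' * D.i B t' * D.uu a B x') : y = y' ∧ t = t' ∧ x = x' := by
  classical
  obtain ⟨lam, hlam⟩ := PinComb.exists_functional_pos P a
  rw [hP] at hlam
  set na := P.reflectionPerm a a with hna
  have hroot : D.root na = - D.root a := root_neg P hP a
  let L : List D.idx := [] ++ CommR.compl ([] : List D.idx)
  have hLn : L.Nodup := CommR.nodup_append_compl [] List.nodup_nil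
  have hLc : ∀ a, a ∈ L := CommR.mem_append_compl []
  obtain ⟨δ, hδ, hδ0⟩ := hG L hLn hLc
  have hy : ∀ y : B, D.uu na B y = D.cell L (Pi.single na y) 1 := by
    intro y
    rw [cell_single hLn (hLc na) (fun b hb => by rw [Pi.single_eq_of_ne hb]), Pi.single_eq_same]
  have hx : ∀ (x : B) (t : TPt D.M B), D.i B t * D.uu a B x =
      D.cell L (Pi.single a (TPt.ch (D.root a) t * x)) t := by
    intro x t
    rw [D.cell_eq_mul_i L, cell_single hLn (hLc a) (fun b hb => by rw [Pi.single_eq_of_ne hb]),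
      Pi.single_eq_same, ← D.rel]
    group
  rw [mul_assoc, mul_assoc, hy, hy, hx, hx] at h
  obtain ⟨h1, h2, h3⟩ := bigCell_inj (k := fun c => lam (D.root c)) hδ hδ0 lam (fun _ => rfl)
    (fun c hc => by
      apply Pi.single_eq_of_ne
      rintro rfl
      rw [hroot, map_neg] at hc
      omega)
    (fun c hc => by
      apply Pi.single_eq_of_ne
      rintro rfl
      omega)
    (fun c hc => by
      apply Pi.single_eq_of_ne
      rintro rfl
      rw [hroot, map_neg] at hc
      omega)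
    (fun c hc => by
      apply Pi.single_eq_of_ne
      rintro rfl
      omega) h
  have h4 := Pi.single_injective _ h1
  have h5 := Pi.single_injective _ h2
  subst h3
  refine ⟨h4, rfl, ?_⟩
  exact (TPt.isUnit_ch (D.root a) t).mul_left_cancel h5

variable {a : D.idx} (hr : Rank1 P a)

section

variable {B : Type u} [CommRing B] [Algebra R B]

include hr in
/-- the opposite relation -/
theorem rank1_rev (x y : B) (v : Bˣ) (hv : (v : B) = 1 + x * y) :
    D.uu (P.reflectionPerm a a) B y * D.uu a B x =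
      D.uu a B ((v⁻¹ : Bˣ) * x) * (D.i B (TPt.cow (P.coroot a) v))⁻¹ *
        D.uu (P.reflectionPerm a a) B ((v⁻¹ : Bˣ) * y) := by
  have h := hr (-x) (-y) v (by rw [hv]; ring)
  have h2 := congrArg (fun g => g⁻¹) h
  simp only [mul_inv_rev, ← D.uu_neg, neg_neg, mul_neg] at h2
  rw [h2, mul_assoc]

include hP hpe hr in
theorem nn_key (z : Bˣ) : D.uu a B z * D.uu (P.reflectionPerm a a) B (-(z⁻¹ : Bˣ)) * D.uu a B z =
      D.i B (TPt.cow (P.coroot a) z) * nn P a B := by
  set na := P.reflectionPerm a a with hna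
  have h1 := hr ((z : B) - 1) 1 z (by ring)
  rw [mul_one, ← hna] at h1
  have h2 : D.uu a B ((z⁻¹ : Bˣ) * ((z : B) - 1)) = D.uu a B (-(z⁻¹ : Bˣ)) * D.uu a B 1 := by
    rw [← D.uu_add, mul_sub, Units.inv_mul, mul_one]; congr 1; ring
  have h3 : TPt.ch (D.root a) (TPt.cow (P.coroot a) z) = (z : B) * z := by
    rw [TPt.ch_cow, coroot_root' P hP hpe, P.pairing_same, zpow_two, Units.val_mul]
  have h5 := D.rel a (TPt.cow (P.coroot a) z) (-(z⁻¹ : Bˣ) : B)
  rw [h3] at h5
  have h6 : (z : B) * z * -(z⁻¹ : Bˣ) = -z := by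
    rw [mul_neg, mul_assoc, Units.mul_inv, mul_one]
  rw [h6] at h5
  have h7 : D.i B (TPt.cow (P.coroot a) z) * D.uu a B (-(z⁻¹ : Bˣ) : B) =
      D.uu a B (-z) * D.i B (TPt.cow (P.coroot a) z) := by rw [← h5]; group
  have h8 : D.uu a B ((z : B) - 1) = D.uu a B z * (D.uu a B 1)⁻¹ := by
    rw [← D.uu_neg, ← D.uu_add, sub_eq_add_neg]
  rw [h8] at h1
  have h9 : D.uu a B z = D.uu na B (z⁻¹ : Bˣ) * (D.uu a B (-z) * D.i B (TPt.cow (P.coroot a) z)) *
      D.uu a B 1 * (D.uu na B 1)⁻¹ * D.uu a B 1 := by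
    rw [← h7]
    rw [h2] at h1
    calc D.uu a B z = D.uu a B z * (D.uu a B 1)⁻¹ * D.uu na B 1 * (D.uu na B 1)⁻¹ * D.uu a B 1 := by
          group
      _ = _ := by rw [h1]; group
  rw [nn, ← hna, D.uu_neg na, D.uu_neg na]
  conv_lhs =>
    rhs
    rw [h9]
  rw [D.uu_neg a]
  group

include hP hpe hr in
theorem nn_act' (t : TPt D.M B) : nn P a B * D.i B t * (nn P a B)⁻¹ =
    D.i B (TPt.act (P.reflection a).toAddEquiv t) :=
  nn_act P hP hpe hr t

include hP hpe hr in
theorem nn_cow (v : Bˣ) : nn P a B * D.i B (TPt.cow (P.coroot a) v) * (nn P a B)⁻¹ =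
    (D.i B (TPt.cow (P.coroot a) v))⁻¹ := by
  rw [nn_act' P hP hpe hr, act_reflection P hpe]
  have e4 : (TPt.cow (P.coroot a) v) (Multiplicative.ofAdd (P.root a)) = v * v := by
    change v ^ (P.coroot a (P.root a)) = _
    rw [coroot_root P hpe, P.pairing_same, zpow_two]
  rw [e4, ← cow_inv, ← cow_mul, ← D.i_inv', ← cow_inv]
  congr 2
  group

include hP hpe hr in
/-- `n_a^2 = a^∨(-1)` -/
theorem nn_sq : nn P a B * nn P a B = D.i B (TPt.cow (P.coroot a) (-1)) := by
  have h := nn_key P hP hpe hr (-1 : Bˣ)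
  have h1 : D.uu a B ((-1 : Bˣ) : B) * D.uu (P.reflectionPerm a a) B (-(((-1 : Bˣ)⁻¹ : Bˣ) : B)) *
      D.uu a B ((-1 : Bˣ) : B) = (nn P a B)⁻¹ := by
    rw [nn, mul_inv_rev, mul_inv_rev, ← D.uu_neg, ← D.uu_neg, mul_assoc, neg_neg]
    have e1 : ((-1 : Bˣ) : B) = -1 := by simp
    have e2 : (-(((-1 : Bˣ)⁻¹ : Bˣ) : B)) = 1 := by simp
    rw [e1, e2]
  rw [h1] at h
  have h2 : (D.i B (TPt.cow (P.coroot a) (-1)))⁻¹ = D.i B (TPt.cow (P.coroot a) (-1)) := by
    rw [← D.i_inv', ← cow_inv, inv_neg, inv_one]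
  rw [← h2, eq_inv_iff_mul_eq_one]
  calc nn P a B * nn P a B * D.i B (TPt.cow (P.coroot a) (-1)) =
      nn P a B * (nn P a B * D.i B (TPt.cow (P.coroot a) (-1)) * (nn P a B)⁻¹) * nn P a B := by group
    _ = nn P a B * (D.i B (TPt.cow (P.coroot a) (-1)) * nn P a B) := by
        rw [nn_act' P hP hpe hr, act_reflection P hpe]
        have h3 : (TPt.cow (P.coroot a) (-1 : Bˣ)) (Multiplicative.ofAdd (P.root a)) = 1 := by
          change (-1 : Bˣ) ^ (P.coroot a (P.root a)) = 1
          rw [coroot_root P hpe, P.pairing_same]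
          simp
        rw [h3, cow_one, ← cow_one (P.coroot a), ← cow_inv, inv_one, cow_one, TPt.mul_one', mul_assoc]
    _ = 1 := by rw [← h]; group

end

include hP hpe hr hG Δ in
/-- `n_a u_a(x) n_a⁻¹ = u_{-a}(-x)` and `n_a u_{-a}(x) n_a⁻¹ = u_a(-x)` -/
theorem nn_conj_self {B : Type u} [CommRing B] [Algebra R B] (x : B) :
    nn P a B * D.uu a B x * (nn P a B)⁻¹ = D.uu (P.reflectionPerm a a) B (-x) ∧
      nn P a B * D.uu (P.reflectionPerm a a) B x * (nn P a B)⁻¹ = D.uu a B (-x) := by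
  obtain ⟨r, hr1⟩ := pin_conj P hP Δ hG hpe hr a
  obtain ⟨r', hr1'⟩ := pin_conj P hP Δ hG hpe hr (P.reflectionPerm a a)
  have e1 : P.reflectionPerm a (P.reflectionPerm a a) = a := by
    apply P.root.injective
    rw [P.root_reflectionPerm, P.root_reflectionPerm, P.reflection_apply_self, map_neg,
      P.reflection_apply_self, neg_neg]
  rw [e1] at hr1'
  -- `r r' = 1`
  have hrr : (r : R) * r' = 1 := by
    let I : Ideal R[X] := Ideal.span {(X : R[X]) ^ 2}
    let C := R[X] ⧸ I
    let ε : C := Ideal.Quotient.mk I X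
    have hε : ε * ε = 0 := by
      change Ideal.Quotient.mk I X * Ideal.Quotient.mk I X = 0
      rw [← map_mul, ← pow_two]
      exact Ideal.Quotient.eq_zero_iff_mem.mpr (Ideal.subset_span rfl)
    have hinj : ∀ r s : R, algebraMap R C r * ε = algebraMap R C s * ε → r = s := by
      intro r s h
      have h1 : (Polynomial.C r * X - Polynomial.C s * X : R[X]) ∈ I := by
        rw [← Ideal.Quotient.eq]
        exact h
      rw [Ideal.mem_span_singleton] at h1
      have h2 := (X_pow_dvd_iff.mp h1) 1 (by norm_num)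
      simpa [sub_eq_zero] using h2
    -- the units
    let v : Cˣ := un1 ε hε
    let q : C := algebraMap R C (r * r')
    have hqq : q * ε * (q * ε) = 0 := by
      have : q * ε * (q * ε) = q * q * (ε * ε) := by ring
      rw [this, hε, mul_zero]
    let V : Cˣ := un1 (q * ε) hqq
    have h1 := hr (1 : C) ε v (by simp [v, un1])
    have h2 := rank1_rev P hr (algebraMap R C r' * ε) (algebraMap R C r) V (by
      simp only [V, un1, q, map_mul]; ring)
    have h3 := congrArg (fun g => nn P a C * g * (nn P a C)⁻¹) h1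
    have h4 : nn P a C * (D.uu a C 1 * D.uu (P.reflectionPerm a a) C ε) * (nn P a C)⁻¹ =
        (nn P a C * D.uu a C 1 * (nn P a C)⁻¹) *
          (nn P a C * D.uu (P.reflectionPerm a a) C ε * (nn P a C)⁻¹) := by group
    have h5 : nn P a C * (D.uu (P.reflectionPerm a a) C ((v⁻¹ : Cˣ) * ε) *
        D.i C (TPt.cow (P.coroot a) v) * D.uu a C ((v⁻¹ : Cˣ) * 1)) * (nn P a C)⁻¹ =
        (nn P a C * D.uu (P.reflectionPerm a a) C ((v⁻¹ : Cˣ) * ε) * (nn P a C)⁻¹) *
          (nn P a C * D.i C (TPt.cow (P.coroot a) v) * (nn P a C)⁻¹) *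
          (nn P a C * D.uu a C ((v⁻¹ : Cˣ) * 1) * (nn P a C)⁻¹) := by group
    rw [h4, h5] at h3
    have e2 : ∀ y : C, nn P a C * D.uu a C y * (nn P a C)⁻¹ =
      D.uu (P.reflectionPerm a a) C (algebraMap R C r * y) := fun y => hr1 y
    have e3 : ∀ y : C, nn P a C * D.uu (P.reflectionPerm a a) C y * (nn P a C)⁻¹ =
      D.uu a C (algebraMap R C r' * y) := fun y => hr1' y
    rw [e2, e2, e3, e3, nn_cow P hP hpe hr, mul_one, mul_one, h2] at h3
    -- invert
    have h6 := congrArg (fun g => g⁻¹) h3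
    simp only [mul_inv_rev, ← D.uu_neg, ← mul_assoc, ← D.i_inv'] at h6
    obtain ⟨h7, -, -⟩ := rk1_inj P hP hG h6
    have h8 : (V : C) = v := by
      have h9 : algebraMap R C r * ((V⁻¹ : Cˣ) : C) = algebraMap R C r * ((v⁻¹ : Cˣ) : C) := by
        have := neg_injective h7
        rw [mul_comm, this]
      have h10 : ((V⁻¹ : Cˣ) : C) = ((v⁻¹ : Cˣ) : C) :=
        ((r.isUnit).map (algebraMap R C)).mul_left_cancel h9
      exact congrArg Units.val (inv_injective (Units.ext h10))
    have h11 : q * ε = ε := add_left_cancel h8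
    have h12 := hinj (r * r') 1 (by rw [map_one, one_mul]; exact h11)
    exact h12
  -- `n = u_{-a}(r) u_a(-r') u_{-a}(r)` and `n = u_{-a}(r) u_a(1) u_{-a}(-1)`
  have hn1 : nn P a R = D.uu (P.reflectionPerm a a) R r * D.uu a R (-r') *
      D.uu (P.reflectionPerm a a) R r := by
    have h1 : nn P a R = (nn P a R * D.uu a R 1 * (nn P a R)⁻¹) *
        (nn P a R * D.uu (P.reflectionPerm a a) R (-1) * (nn P a R)⁻¹) *
        (nn P a R * D.uu a R 1 * (nn P a R)⁻¹) := by
      conv_lhs => rw [← mul_one (nn P a R), ← mul_inv_cancel (nn P a R)]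
      conv_lhs => 
        rw [← mul_assoc]
        enter [1, 2]
        rw [nn]
      group
    rw [h1]
    have e2 : ∀ y : R, nn P a R * D.uu a R y * (nn P a R)⁻¹ =
      D.uu (P.reflectionPerm a a) R (algebraMap R R r * y) := fun y => hr1 y
    have e3 : ∀ y : R, nn P a R * D.uu (P.reflectionPerm a a) R y * (nn P a R)⁻¹ =
      D.uu a R (algebraMap R R r' * y) := fun y => hr1' y
    rw [e2, e3]
    simp
  have hn2 : nn P a R = D.uu (P.reflectionPerm a a) R r * D.uu a R 1 *
      D.uu (P.reflectionPerm a a) R (-1) := by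
    have e2 : nn P a R * D.uu a R 1 * (nn P a R)⁻¹ =
      D.uu (P.reflectionPerm a a) R (algebraMap R R r * 1) := hr1 1
    rw [Algebra.algebraMap_self, RingHom.id_apply, mul_one, mul_inv_eq_iff_eq_mul] at e2
    have e3 : nn P a R * D.uu a R 1 = D.uu (P.reflectionPerm a a) R r * D.uu a R 1 *
      D.uu (P.reflectionPerm a a) R (-1) * D.uu a R 1 := by
      rw [e2, nn]; group
    exact mul_right_cancel e3
  have hr' : (r : R) = -1 := by
    rw [hn1] at hn2
    have h1 : D.uu (P.reflectionPerm a a) R (r + 1) = D.uu a R (1 + r') := by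
      rw [mul_assoc, mul_assoc] at hn2
      have h2 := mul_left_cancel hn2
      rw [D.uu_neg (P.reflectionPerm a a) (1 : R), D.uu_neg a,
        inv_mul_eq_iff_eq_mul, ← mul_assoc, eq_mul_inv_iff_mul_eq, ← D.uu_add, ← D.uu_add] at h2
      rw [h2, add_comm]
    have h3 := rk1_inj P hP hG (a := a) (B := R) (y := r + 1) (t := 1) (x := 0) (y' := 0) (t' := 1)
      (x' := 1 + r') (by simp [h1])
    exact eq_neg_of_add_eq_zero_left h3.1
  have hr2 : (r' : R) = -1 := by
    rw [hr'] at hrr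
    have : (r' : R) = - (-1 * r') := by ring
    rw [this, hrr]
  constructor
  · rw [show D.uu (P.reflectionPerm a a) B (-x) =
      D.uu (P.reflectionPerm a a) B (algebraMap R B r * x) by rw [hr', map_neg, map_one, neg_one_mul]]
    exact hr1 x
  · rw [show D.uu a B (-x) =
      D.uu a B (algebraMap R B r' * x) by rw [hr2, map_neg, map_one, neg_one_mul]]
    exact hr1' x

end K213.RkOneR
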