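import Groth.Agent.Red.K213.Comb
import Groth.Agent.Red.K213.RkOneR
import Groth.Agent.Red.K213.ConstG
import Groth.Agent.Sga3B.Rescale829

/-!
# Kit for the rank two computations (ring level)
-/

set_option autoImplicit false
set_option linter.unusedSectionVars false
universe u

namespace K213.Rk2

open Groth.Agent.Sga3B.Cell Groth.Agent.Sga3B.Cell.Datum Groth.Agent.Sga3B K213.RkOneR

variable {R A : Type u} [CommRing R] [CommRing A] [Algebra R A] [PtGrp R A] {D : Datum R A}

/-- exchanging two root group elements -/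
theorem swap_list (hG : D.Good) (p q : D.idx) (lam : D.M →+ ℤ) (hp : 0 < lam (D.root p))
    (hq : 0 < lam (D.root q))
    (hlin : ∀ i j i' j' : ℕ, i • D.root p + j • D.root q = i' • D.root p + j' • D.root q →
      i = i' ∧ j = j')
    (L₀ : List (D.idx × ℕ × ℕ)) (hnd : (L₀.map Prod.fst).Nodup)
    (he : ∀ t ∈ L₀, t.2.1 • D.root p + t.2.2 • D.root q = D.root t.1)
    (hall : ∀ (d : D.idx) (i j : ℕ), i ≠ 0 → j ≠ 0 → i • D.root p + j • D.root q = D.root d →
      d ∈ L₀.map Prod.fst) :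
    ∃ C : D.idx → R, ∀ {B : Type u} [CommRing B] [Algebra R B] (x y : B),
      D.uu q B y * D.uu p B x = D.uu p B x * (D.uu q B y *
        (L₀.map (fun t => D.uu t.1 B (algebraMap R B (C t.1) * x ^ t.2.1 * y ^ t.2.2))).prod) := by
  classical
  let e : D.idx → ℕ × ℕ := fun d => if h : ∃ t ∈ L₀, t.1 = d then
    ((Classical.choose h).2.2, (Classical.choose h).2.1) else (0, 0)
  have het : ∀ t ∈ L₀, e t.1 = (t.2.2, t.2.1) := by
    intro t ht
    have h : ∃ s ∈ L₀, s.1 = t.1 := ⟨t, ht, rfl⟩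
    have h1 := he t ht
    have h2 := he _ (Classical.choose_spec h).1
    have h3 : D.root (Classical.choose h).1 = D.root t.1 := by rw [(Classical.choose_spec h).2]
    obtain ⟨h4, h5⟩ := hlin _ _ _ _ (h2.trans (h3.trans h1.symm))
    simp only [e]
    rw [dif_pos h, h4, h5]
  obtain ⟨C, hC⟩ := CommR.comm_formula hG q p lam hq hp (fun i j i' j' h => by
    have := hlin j i j' i' (by rw [add_comm (j • _), add_comm (j' • _)]; exact h)
    exact ⟨this.2, this.1⟩) (L₀.map Prod.fst) hnd e (by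
      intro d hd
      obtain ⟨t, ht, rfl⟩ := List.mem_map.mp hd
      rw [het t ht, add_comm]
      exact he t ht) (by
      intro d i j hi hj h
      exact hall d j i hj hi (by rw [add_comm]; exact h))
  refine ⟨fun d => C d * (-1) ^ ((e d).1 + (e d).2), ?_⟩
  intro B _ _ x y
  have h := hC (-y) (-x)
  rw [List.map_map] at h
  have h1 : (L₀.map (fun t => D.uu t.1 B (algebraMap R B (C t.1 * (-1) ^ ((e t.1).1 + (e t.1).2)) *
      x ^ t.2.1 * y ^ t.2.2))).prod =
      D.uu q B (-y) * D.uu p B (-x) * (D.uu q B (-y))⁻¹ * (D.uu p B (-x))⁻¹ := by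
    rw [h]
    congr 1
    apply List.map_congr_left
    intro t ht
    simp only [Function.comp_apply]
    congr 1
    rw [het t ht, neg_pow y, neg_pow x]
    simp only [map_mul, map_pow, map_neg, map_one, pow_add]
    ring
  rw [h1, D.uu_neg, D.uu_neg]
  group

section two

variable (P : RootPairing D.idx ℤ D.M (Module.Dual ℤ D.M)) (hP : ∀ a, P.root a = D.root a)
  (Δ : P.Base) (hG : D.Good) (a b : D.idx)

/-- coordinates -/
def Co (d : D.idx) (m n : ℤ) : Prop := D.root d = m • D.root a + n • D.root b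

variable {a b} (ha : a ∈ Δ.support) (hb : b ∈ Δ.support) (hab : a ≠ b)

lemma co_left : Co a b a 1 0 := by simp [Co]

lemma co_right : Co a b b 0 1 := by simp [Co]

include hP in
lemma Co.root {d : D.idx} {m n : ℤ} (h : Co a b d m n) : P.root d = m • P.root a + n • P.root b := by
  rw [hP, hP, hP]; exact h

include hP Δ ha hb hab in
lemma Co.inj {d d' : D.idx} {m n m' n' : ℤ} (h : Co a b d m n) (h' : Co a b d' m' n')
    (hd : d = d') : m = m' ∧ n = n' := by
  subst hd
  apply Comb.coeff_inj Δ ha hb hab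
  rw [← Co.root P hP h, ← Co.root P hP h']

lemma Co.eq {d d' : D.idx} {m n : ℤ} (h : Co a b d m n) (h' : Co a b d' m n) : d = d' :=
  D.root_inj (h.trans h'.symm)

include hP Δ ha hb hab in
lemma nodup_of_co (L : List (D.idx × ℤ × ℤ)) (h : ∀ t ∈ L, Co a b t.1 t.2.1 t.2.2)
    (hn : (L.map Prod.snd).Nodup) : (L.map Prod.fst).Nodup := by
  rw [List.Nodup, List.pairwise_map] at hn ⊢
  refine hn.imp_of_mem ?_
  intro t s ht hs hne heq
  apply hne
  obtain ⟨h1, h2⟩ := (h t ht).inj P hP Δ ha hb hab (h s hs) heq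
  exact Prod.ext h1 h2

include hP Δ ha hb in
lemma exists_lam : ∃ lam : D.M →+ ℤ, ∀ (d : D.idx) (m n : ℤ), Co a b d m n → 0 < m + n →
    0 < lam (D.root d) := by
  obtain ⟨lam, N, hN, h⟩ := PinComb.exists_height_functional Δ
  refine ⟨lam, ?_⟩
  intro d m n hd hmn
  have h1 := h a
  have h2 := h b
  rw [RootPairing.Base.height_one_of_mem_support ha, hP, mul_one] at h1
  rw [RootPairing.Base.height_one_of_mem_support hb, hP, mul_one] at h2
  rw [hd, map_add, map_zsmul, map_zsmul, h1, h2, smul_eq_mul, smul_eq_mul]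
  nlinarith

include hP Δ hG ha hb hab in
/-- exchanging two root group elements, with coordinates -/
theorem swap_co {p q : D.idx} {p1 p2 q1 q2 : ℤ} (hp : Co a b p p1 p2) (hq : Co a b q q1 q2)
    (hp0 : 0 < p1 + p2) (hq0 : 0 < q1 + q2) (hdet : p1 * q2 - p2 * q1 ≠ 0)
    (L₀ : List (D.idx × ℕ × ℕ))
    (he : ∀ t ∈ L₀, Co a b t.1 (t.2.1 * p1 + t.2.2 * q1) (t.2.1 * p2 + t.2.2 * q2))
    (hn : (L₀.map Prod.snd).Nodup)
    (hall : ∀ (d : D.idx) (i j : ℕ), i ≠ 0 → j ≠ 0 → Co a b d (i * p1 + j * q1) (i * p2 + j * q2) →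
      d ∈ L₀.map Prod.fst) :
    ∃ C : D.idx → R, ∀ {B : Type u} [CommRing B] [Algebra R B] (x y : B),
      D.uu q B y * D.uu p B x = D.uu p B x * (D.uu q B y *
        (L₀.map (fun t => D.uu t.1 B (algebraMap R B (C t.1) * x ^ t.2.1 * y ^ t.2.2))).prod) := by
  obtain ⟨lam, hlam⟩ := exists_lam P hP Δ ha hb
  have hco : ∀ (i j : ℕ), i • D.root p + j • D.root q =
      ((i : ℤ) * p1 + j * q1) • D.root a + ((i : ℤ) * p2 + j * q2) • D.root b := by
    intro i j
    rw [hp, hq]
    module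
  have hlin : ∀ i j i' j' : ℕ, i • D.root p + j • D.root q = i' • D.root p + j' • D.root q →
      i = i' ∧ j = j' := by
    intro i j i' j' h
    rw [hco, hco, ← hP, ← hP] at h
    obtain ⟨h1, h2⟩ := Comb.coeff_inj Δ ha hb hab h
    have h3 : ((i : ℤ) - i') * (p1 * q2 - p2 * q1) = 0 := by linear_combination q2 * h1 - q1 * h2
    have h4 : ((j : ℤ) - j') * (p1 * q2 - p2 * q1) = 0 := by linear_combination p1 * h2 - p2 * h1
    have h5 := (mul_eq_zero.mp h3).resolve_right hdet
    have h6 := (mul_eq_zero.mp h4).resolve_right hdet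
    omega
  refine swap_list hG p q lam (hlam p p1 p2 hp hp0) (hlam q q1 q2 hq hq0) hlin L₀ ?_ ?_ ?_
  · rw [List.Nodup, List.pairwise_map] at hn ⊢
    refine hn.imp_of_mem ?_
    intro t s ht hs hne heq
    apply hne
    have h1 := he t ht
    have h2 := he s hs
    obtain ⟨h1, h2⟩ := hlin t.2.1 t.2.2 s.2.1 s.2.2 (by
      rw [hco, hco]
      rw [heq] at h1
      exact h1.symm.trans h2)
    exact Prod.ext h1 h2
  · intro t ht
    rw [hco]
    exact (he t ht).symm
  · intro d i j hi hj h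
    exact hall d i j hi hj (h.symm.trans (hco i j))

include hP Δ hG ha hb hab in
/-- commuting root groups -/
theorem comm_co {p q : D.idx} {p1 p2 q1 q2 : ℤ} (hp : Co a b p p1 p2) (hq : Co a b q q1 q2)
    (hp0 : 0 < p1 + p2) (hq0 : 0 < q1 + q2) (hdet : p1 * q2 - p2 * q1 ≠ 0)
    (hall : ∀ (d : D.idx) (i j : ℕ), i ≠ 0 → j ≠ 0 → Co a b d (i * p1 + j * q1) (i * p2 + j * q2) →
      False)
    {B : Type u} [CommRing B] [Algebra R B] (x y : B) :
    D.uu q B y * D.uu p B x = D.uu p B x * D.uu q B y := by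
  obtain ⟨C, hC⟩ := swap_co P hP Δ hG ha hb hab hp hq hp0 hq0 hdet [] (by simp) (by simp)
    (fun d i j hi hj h => (hall d i j hi hj h).elim)
  have := hC x y
  simpa using this

include hP in
lemma co_refl_left {d : D.idx} {m n : ℤ} (h : Co a b d m n) {k : ℤ} (hk : P.pairing b a = k) :
    Co a b (P.reflectionPerm a d) (-m - n * k) n := by
  have := Comb.refl_left (Co.root P hP h)
  rw [hP, hP, hP, hk] at this
  exact this

include hP in
lemma co_refl_right {d : D.idx} {m n : ℤ} (h : Co a b d m n) {k : ℤ} (hk : P.pairing a b = k) :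
    Co a b (P.reflectionPerm b d) m (-n - m * k) := by
  have := Comb.refl_right (Co.root P hP h)
  rw [hP, hP, hP, hk] at this
  exact this

include hP in
lemma pairing_left {d : D.idx} {m n : ℤ} (h : Co a b d m n) :
    P.pairing d a = 2 * m + n * P.pairing b a := by
  have h1 := P.root_coroot'_eq_pairing a d
  rw [Co.root P hP h, map_add, map_smul, map_smul, P.root_coroot'_eq_pairing,
    P.root_coroot'_eq_pairing, P.pairing_same] at h1
  rw [← h1]; simp [mul_comm]

include hP in
lemma pairing_right {d : D.idx} {m n : ℤ} (h : Co a b d m n) :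
    P.pairing d b = m * P.pairing a b + 2 * n := by
  have h1 := P.root_coroot'_eq_pairing b d
  rw [Co.root P hP h, map_add, map_smul, map_smul, P.root_coroot'_eq_pairing,
    P.root_coroot'_eq_pairing, P.pairing_same] at h1
  rw [← h1]; simp [mul_comm]

end two

section conj

variable (P : RootPairing D.idx ℤ D.M (Module.Dual ℤ D.M)) (hP : ∀ a, P.root a = D.root a)
  (hpe : P.toLinearMap = Module.Dual.eval ℤ D.M) (Δ : P.Base) (hG : D.Good)
  {a : D.idx} (hr : Rank1 P a)

include hP hpe hr in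
/-- conjugation by `n_a²` -/
theorem nn_sq_conj (c : D.idx) {B : Type u} [CommRing B] [Algebra R B] (x : B) :
    nn P a B * (nn P a B * D.uu c B x * (nn P a B)⁻¹) * (nn P a B)⁻¹ =
      D.uu c B ((((-1 : ℤˣ) ^ (P.pairing c a) : ℤˣ) : ℤ) * x) := by
  have h1 := nn_sq P hP hpe hr (B := B)
  have h2 : nn P a B * (nn P a B * D.uu c B x * (nn P a B)⁻¹) * (nn P a B)⁻¹ =
    (nn P a B * nn P a B) * D.uu c B x * (nn P a B * nn P a B)⁻¹ := by group
  rw [h2, h1, D.rel, ch_cow_neg_one, coroot_root' P hP hpe]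

include hP hpe Δ hG hr in
/-- conjugation by `n_a` -/
theorem nn_conj (c : D.idx) : ∃ r : Rˣ, ∀ {B : Type u} [CommRing B] [Algebra R B] (x : B),
      nn P a B * D.uu c B x * (nn P a B)⁻¹ =
        D.uu (P.reflectionPerm a c) B (algebraMap R B r * x) :=
  pin_conj P hP Δ hG hpe hr c

include hP hpe hr in
theorem nn_sq_conj_odd {c : D.idx} (hc : Odd (P.pairing c a)) {B : Type u} [CommRing B]
    [Algebra R B] (x : B) :
    nn P a B * (nn P a B * D.uu c B x * (nn P a B)⁻¹) * (nn P a B)⁻¹ = D.uu c B (-x) := by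
  rw [nn_sq_conj P hP hpe hr, hc.neg_one_zpow]
  simp

include hP hpe hr in
theorem nn_sq_conj_even {c : D.idx} (hc : Even (P.pairing c a)) {B : Type u} [CommRing B]
    [Algebra R B] (x : B) :
    nn P a B * (nn P a B * D.uu c B x * (nn P a B)⁻¹) * (nn P a B)⁻¹ = D.uu c B x := by
  rw [nn_sq_conj P hP hpe hr, hc.neg_one_zpow]
  simp

end conj

section rescale

variable (ε : D.idx → Rˣ) (P : RootPairing D.idx ℤ D.M (Module.Dual ℤ D.M)) {a : D.idx}

lemma nn_rescale (h1 : ε a = 1) (h2 : ε (P.reflectionPerm a a) = 1) (B : Type u) [CommRing B]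
    [Algebra R B] : nn (D := D.rescale ε) P a B = nn P a B := by
  change D.uu a B (algebraMap R B (ε a) * 1) *
    D.uu (P.reflectionPerm a a) B (algebraMap R B (ε (P.reflectionPerm a a)) * (-1)) *
    D.uu a B (algebraMap R B (ε a) * 1) = _
  rw [h1, h2, Units.val_one, map_one, one_mul, one_mul]
  rfl

lemma rank1_rescale (h1 : ε a = 1) (h2 : ε (P.reflectionPerm a a) = 1) (hr : Rank1 P a) :
    Rank1 (D := D.rescale ε) P a := by
  intro B _ _ x y v hv
  have := hr x y v hv
  change D.uu a B (algebraMap R B (ε a) * x) *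
    D.uu (P.reflectionPerm a a) B (algebraMap R B (ε (P.reflectionPerm a a)) * y) =
    D.uu (P.reflectionPerm a a) B (algebraMap R B (ε (P.reflectionPerm a a)) * ((v⁻¹ : Bˣ) * y)) *
      D.i B (TPt.cow (P.coroot a) v) * D.uu a B (algebraMap R B (ε a) * ((v⁻¹ : Bˣ) * x))
  rw [h1, h2, Units.val_one, map_one, one_mul, one_mul, one_mul, one_mul]
  exact this

end rescale

end K213.Rk2
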