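import Groth.Agent.Sga3B.WordRel
import Groth.Agent.Sga3B.PinComb829

/-!
# `p`-morphisms of pinned root data and the twisted word model

`Tw P b P' b'` = a `p`-morphism of pinned root data.  For pinned cells `E`, `E'` the letters
`x ↦ u'_{d(a)}(x^{q(a)})` and the torus `t ↦ i'(h(t))` form a word model for the data of `E`.
-/

set_option autoImplicit false
set_option linter.unusedSectionVars false
universe u v

namespace K213.PMor

open Groth.Agent.Sga3B.Cell Groth.Agent.Sga3B.Word Groth.Agent.Sga3B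

variable {idx M : Type} [Fintype idx] [AddCommGroup M] [Module.Free ℤ M]
    [Module.Finite ℤ M] (P : RootPairing idx ℤ M (Module.Dual ℤ M)) (b : P.Base)
    {idx' M' : Type} [Fintype idx'] [AddCommGroup M'] [Module.Free ℤ M']
    [Module.Finite ℤ M'] (P' : RootPairing idx' ℤ M' (Module.Dual ℤ M')) (b' : P'.Base)

/-- a `p`-morphism of pinned root data -/
structure Tw where
  /-- the exponent -/
  p : ℕ
  p_pos : 0 < p
  /-- the map of characters -/
  hM : M' →ₗ[ℤ] M
  /-- the bijection of roots -/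
  d : idx ≃ idx'
  /-- the exponents -/
  q : idx → ℕ
  hq : ∀ a, ∃ n : ℕ, q a = p ^ n
  hroot : ∀ a, hM (P'.root (d a)) = (q a : ℤ) • P.root a
  hcoroot : ∀ a, hM.dualMap (P.coroot a) = (q a : ℤ) • P'.coroot (d a)
  hΔ : ∀ a, a ∈ b.support ↔ d a ∈ b'.support
  pe : P.toLinearMap = Module.Dual.eval ℤ M
  pe' : P'.toLinearMap = Module.Dual.eval ℤ M'

variable {P b P' b'}

namespace Tw

variable (τ : Tw P b P' b')

lemma q_pos (a : idx) : 0 < τ.q a := by
  obtain ⟨n, hn⟩ := τ.hq a
  rw [hn]; exact Nat.pow_pos τ.p_pos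

lemma coroot_root {ι N : Type} [AddCommGroup N] {Q : RootPairing ι ℤ N (Module.Dual ℤ N)}
    (h : Q.toLinearMap = Module.Dual.eval ℤ N) (a c : ι) : Q.coroot a (Q.root c) = Q.pairing c a := by
  have h1 : Q.toLinearMap (Q.root c) (Q.coroot a) = Q.pairing c a := rfl
  rw [h] at h1
  exact h1

lemma pairing (a c : idx) :
    (τ.q a : ℤ) * P'.pairing (τ.d c) (τ.d a) = τ.q c * P.pairing c a := by
  have h1 := congrArg (fun f : Module.Dual ℤ M' => f (P'.root (τ.d c))) (τ.hcoroot a)
  simp only [LinearMap.dualMap_apply, LinearMap.smul_apply, smul_eq_mul] at h1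
  rw [τ.hroot, map_smul, coroot_root τ.pe, coroot_root τ.pe', smul_eq_mul] at h1
  exact h1.symm

lemma eq_of_smul (b : P.Base) {e f : idx} {m n : ℕ} (hm : 0 < m) (hn : 0 < n)
    (h : (m : ℤ) • P.root e = (n : ℤ) • P.root f) : e = f ∧ m = n := by
  have : P.IsReduced := PinComb.isReduced b
  have hli : ¬ LinearIndependent ℤ ![P.root e, P.root f] := by
    intro hli
    rw [LinearIndependent.pair_iff] at hli
    have := (hli (m : ℤ) (-(n : ℤ)) (by rw [h]; module)).1
    omega
  have htf : IsAddTorsionFree M := .of_isTorsionFree ℤ M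
  have hcan : ∀ k : ℤ, k • P.root f = 0 → k = 0 := by
    intro k hk
    rcases smul_eq_zero.mp hk with h | h
    · exact h
    · exact absurd h (P.ne_zero f)
  rcases RootPairing.IsReduced.eq_or_eq_neg (P := P) e f hli with h2 | h2
  · refine ⟨P.root.injective h2, ?_⟩
    rw [h2, ← sub_eq_zero, ← sub_smul] at h
    have := hcan _ h
    omega
  · exfalso
    rw [h2, ← sub_eq_zero, smul_neg, ← neg_smul, ← sub_smul] at h
    have := hcan _ h
    omega

lemma refl (a c : idx) : τ.d (P.reflectionPerm a c) = P'.reflectionPerm (τ.d a) (τ.d c) ∧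
    τ.q (P.reflectionPerm a c) = τ.q c := by
  obtain ⟨e, he⟩ := τ.d.surjective (P'.reflectionPerm (τ.d a) (τ.d c))
  have h1 : (τ.q e : ℤ) • P.root e = (τ.q c : ℤ) • P.root (P.reflectionPerm a c) := by
    rw [← τ.hroot, he, P'.root_reflectionPerm, P'.reflection_apply_root, map_sub, map_smul,
      τ.hroot, τ.hroot, P.root_reflectionPerm, P.reflection_apply_root, smul_smul, mul_comm,
      τ.pairing, smul_sub, smul_smul]
  obtain ⟨h2, h3⟩ := eq_of_smul b (τ.q_pos e) (τ.q_pos c) h1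
  rw [← h2, he]
  exact ⟨rfl, h3⟩

lemma d_neg (a : idx) : τ.d (P.reflectionPerm a a) = P'.reflectionPerm (τ.d a) (τ.d a) :=
  (τ.refl a a).1

lemma q_neg (a : idx) : τ.q (P.reflectionPerm a a) = τ.q a := (τ.refl a a).2

/-- the torus map -/
def hT {B : Type u} [CommRing B] : TPt M B →* TPt M' B where
  toFun t := t.comp (AddMonoidHom.toMultiplicative τ.hM.toAddMonoidHom)
  map_one' := rfl
  map_mul' _ _ := rfl

lemma hT_apply {B : Type u} [CommRing B] (t : TPt M B) (m : M') :
    τ.hT t (Multiplicative.ofAdd m) = t (Multiplicative.ofAdd (τ.hM m)) := rfl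

lemma hT_nat {R B C : Type u} [CommRing R] [CommRing B] [Algebra R B] [CommRing C] [Algebra R C]
    (φ : B →ₐ[R] C) (t : TPt M B) : TPt.map φ (τ.hT t) = τ.hT (TPt.map φ t) := rfl

lemma ch_hT {B : Type u} [CommRing B] (t : TPt M B) (a : idx) :
    TPt.ch (P'.root (τ.d a)) (τ.hT t) = TPt.ch (P.root a) t ^ τ.q a := by
  rw [TPt.ch, hT_apply, τ.hroot, natCast_zsmul, ofAdd_nsmul, map_pow, Units.val_pow_eq_pow_val]
  rfl

lemma hT_cow {B : Type u} [CommRing B] (v : Bˣ) (a : idx) :
    τ.hT (TPt.cow (P.coroot a) v) = TPt.cow (P'.coroot (τ.d a)) (v ^ τ.q a) := by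
  apply MonoidHom.ext
  intro m
  have h1 := congrArg (fun f : Module.Dual ℤ M' => f m.toAdd) (τ.hcoroot a)
  simp only [LinearMap.dualMap_apply, LinearMap.smul_apply, smul_eq_mul] at h1
  change v ^ (P.coroot a (τ.hM m.toAdd)) = (v ^ τ.q a) ^ (P'.coroot (τ.d a) m.toAdd)
  rw [h1, ← zpow_natCast v, ← zpow_mul]

end Tw

/-- `x ↦ x^p` is additive on all algebras -/
def Add (R : Type u) [CommRing R] (p : ℕ) : Prop :=
  ∀ (B : Type u) [CommRing B] [Algebra R B] (x y : B), (x + y) ^ p = x ^ p + y ^ p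

section frob

variable {R : Type u} [CommRing R] (τ : Tw P b P' b') (hp : Add R τ.p) {B : Type u} [CommRing B]
  [Algebra R B]

include hp

lemma add_pow (a : idx) (x y : B) : (x + y) ^ τ.q a = x ^ τ.q a + y ^ τ.q a := by
  obtain ⟨n, hn⟩ := τ.hq a
  rw [hn]
  clear hn
  induction n generalizing x y with
  | zero => simp
  | succ n ih => rw [pow_succ, pow_mul, pow_mul, pow_mul, ih, hp]

omit hp in
lemma zero_pow' (a : idx) : (0 : B) ^ τ.q a = 0 := zero_pow (τ.q_pos a).ne'

lemma neg_pow' (a : idx) (x : B) : (-x) ^ τ.q a = -(x ^ τ.q a) := by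
  rw [eq_neg_iff_add_eq_zero, ← add_pow τ hp, neg_add_cancel, zero_pow']

end frob

end K213.PMor
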