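import Groth.Agent.Red.K213.TwBase

/-!
# The twisted graph subgroup and small words
-/

set_option autoImplicit false
set_option linter.unusedSectionVars false
universe u v

namespace K213.PMor

open Groth.Agent.Sga3B.Cell Groth.Agent.Sga3B.Word Groth.Agent.Sga3B

variable {idx M : Type} [Fintype idx] [AddCommGroup M] [Module.Free ℤ M]
    [Module.Finite ℤ M] {P : RootPairing idx ℤ M (Module.Dual ℤ M)} {b : P.Base}
    {idx' M' : Type} [Fintype idx'] [AddCommGroup M'] [Module.Free ℤ M']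
    [Module.Finite ℤ M'] {P' : RootPairing idx' ℤ M' (Module.Dual ℤ M')} {b' : P'.Base}
    {R A A' : Type u} [CommRing R] [CommRing A] [Algebra R A] [PtGrp R A]
    [CommRing A'] [Algebra R A'] [PtGrp R A']

section

variable (τ : Tw P b P' b') (hp : Add R τ.p) (E' : PinCell P' b' R A')
  (B : Type u) [CommRing B] [Algebra R B]

/-- the twisted root homomorphisms -/
def tu (c : idx) (x : B) : Pt R A' B := E'.uu (τ.d c) B (x ^ τ.q c)

include hp in
lemma tu_add (c : idx) (x y : B) : tu τ E' B c (x + y) = tu τ E' B c x * tu τ E' B c y := by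
  rw [tu, add_pow τ hp, E'.uu_add]; rfl

lemma tu_rel (c : idx) (t : TPt M B) (x : B) :
    E'.i B (τ.hT t) * tu τ E' B c x * (E'.i B (τ.hT t))⁻¹ = tu τ E' B c (TPt.ch (P.root c) t * x) := by
  rw [tu, E'.rel, τ.ch_hT, tu, mul_pow]

lemma tu_one (c : idx) : tu τ E' B c 0 = 1 := by rw [tu, zero_pow', E'.uu_zero]

variable {B} in
lemma tu_nat {C : Type u} [CommRing C] [Algebra R C] (φ : B →ₐ[R] C) (c : idx) (x : B) :
    Pt.map φ (tu τ E' B c x) = tu τ E' C c (φ x) := by
  rw [tu, E'.uu_nat, map_pow]; rfl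

/-- the twisted model -/
def tmdl : Model (lwt b) (lcor b) B (Pt R A' B) where
  i := (E'.i B).comp τ.hT
  u l x := tu τ E' B (lidx b l) x
  u_add l x y := tu_add τ hp E' B _ x y
  rel l t x := tu_rel τ E' B _ t x
  rank1 a x y v hv := by
    have h1 := E'.rank1 (τ.d a) ((τ.hΔ a).mp a.2) (x ^ τ.q a) (y ^ τ.q a) (v ^ τ.q a) (by
      rw [Units.val_pow_eq_pow_val, hv, add_pow τ hp, one_pow, mul_pow])
    have h2 : ((E'.i B).comp τ.hT) (TPt.cow (lcor b a) v) =
        E'.i B (TPt.cow (P'.coroot (τ.d a)) (v ^ τ.q a)) := by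
      rw [← τ.hT_cow]; rfl
    rw [h2]
    simp only [tu, lidx_true, lidx_false, τ.d_neg, τ.q_neg]
    rw [h1]
    congr 2
    · congr 2
      rw [mul_pow, ← inv_pow, Units.val_pow_eq_pow_val]
    · rw [mul_pow, ← inv_pow, Units.val_pow_eq_pow_val]
  comm a c x y hac := by
    simp only [tu, lidx_true, lidx_false, τ.d_neg, τ.q_neg]
    exact E'.comm (τ.d a) ((τ.hΔ a).mp a.2) (τ.d c) ((τ.hΔ c).mp c.2)
      (fun h => hac (Subtype.ext (τ.d.injective h))) _ _

@[simp] lemma tmdl_i (t : TPt M B) : (tmdl τ hp E' B).i t = E'.i B (τ.hT t) := rfl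
@[simp] lemma tmdl_u (l : Lt b.support) (x : B) :
    (tmdl τ hp E' B).u l x = tu τ E' B (lidx b l) x := rfl

end

section graph

variable (τ : Tw P b P' b') (hp : Add R τ.p) (E : PinCell P b R A) (E' : PinCell P' b' R A')
  (B : Type u) [CommRing B] [Algebra R B]

/-- the twisted graph subgroup -/
def tgraph : Subgroup (Pt R A B × Pt R A' B) where
  carrier := {p | ∃ (L : List (Lt b.support × B)) (t : TPt M B),
    p = ((mdl E B).evL L * E.i B t, (tmdl τ hp E' B).evL L * E'.i B (τ.hT t))}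
  one_mem' := ⟨[], 1, by simp; rfl⟩
  mul_mem' := by
    rintro _ _ ⟨L, t, rfl⟩ ⟨L', t', rfl⟩
    refine ⟨L ++ act (lwt b) t L', t * t', ?_⟩
    have h1 := (mdl E B).i_mul_evL t L'
    have h2 := (tmdl τ hp E' B).i_mul_evL t L'
    rw [mdl_i] at h1
    rw [tmdl_i] at h2
    rw [Prod.mk_mul_mk, Model.evL_append, Model.evL_append, map_mul, map_mul, map_mul]
    refine Prod.ext ?_ ?_
    · change (mdl E B).evL L * E.i B t * ((mdl E B).evL L' * E.i B t') = _
      rw [mul_assoc, ← mul_assoc (E.i B t), h1]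
      simp only [mul_assoc]
    · change (tmdl τ hp E' B).evL L * E'.i B (τ.hT t) *
        ((tmdl τ hp E' B).evL L' * E'.i B (τ.hT t')) = _
      rw [mul_assoc, ← mul_assoc (E'.i B (τ.hT t)), h2]
      simp only [mul_assoc]
  inv_mem' := by
    rintro _ ⟨L, t, rfl⟩
    refine ⟨act (lwt b) t⁻¹ (inv L), t⁻¹, ?_⟩
    have h1 := (mdl E B).i_mul_evL t⁻¹ (inv L)
    have h2 := (tmdl τ hp E' B).i_mul_evL t⁻¹ (inv L)
    rw [mdl_i] at h1
    rw [tmdl_i] at h2
    rw [← h1, ← h2, Prod.inv_mk, mul_inv_rev, mul_inv_rev, Model.evL_inv, Model.evL_inv, i_inv]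
    refine Prod.ext rfl ?_
    change (E'.i B (τ.hT t))⁻¹ * _ = E'.i B (τ.hT t⁻¹) * _
    congr 1
    rw [← i_inv]
    rfl

variable {B}

lemma mem_tgraph {p : Pt R A B × Pt R A' B} : p ∈ tgraph τ hp E E' B ↔
    ∃ (L : List (Lt b.support × B)) (t : TPt M B),
      p = ((mdl E B).evL L * E.i B t, (tmdl τ hp E' B).evL L * E'.i B (τ.hT t)) := Iff.rfl

lemma i_mem_tgraph (t : TPt M B) : (E.i B t, E'.i B (τ.hT t)) ∈ tgraph τ hp E E' B :=
  ⟨[], t, by simp⟩

lemma uu_lidx_mem_tgraph (l : Lt b.support) (x : B) :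
    (E.uu (lidx b l) B x, tu τ E' B (lidx b l) x) ∈ tgraph τ hp E E' B :=
  ⟨[(l, x)], 1, by simp⟩

variable {C : Type u} [CommRing C] [Algebra R C]

lemma tmap_evL (φ : B →ₐ[R] C) (L : List (Lt b.support × B)) :
    Pt.map φ ((tmdl τ hp E' B).evL L) = (tmdl τ hp E' C).evL (mapL b φ L) := by
  induction L with
  | nil => simp [mapL, Pt.map_one]
  | cons p L ih =>
    rw [Model.evL_cons, Pt.map_mul, ih]
    simp [mapL, tu_nat]

lemma tgraph_map (φ : B →ₐ[R] C) {g : Pt R A B} {g' : Pt R A' B}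
    (h : (g, g') ∈ tgraph τ hp E E' B) : (Pt.map φ g, Pt.map φ g') ∈ tgraph τ hp E E' C := by
  obtain ⟨L, t, h⟩ := h
  refine ⟨mapL b φ L, TPt.map φ t, ?_⟩
  rw [← map_evL, ← tmap_evL, ← E.i_nat, ← τ.hT_nat, ← E'.i_nat, ← Pt.map_mul, ← Pt.map_mul]
  exact Prod.ext (congrArg (Pt.map φ) (congrArg Prod.fst h))
    (congrArg (Pt.map φ) (congrArg Prod.snd h))

end graph

section agree

variable (τ : Tw P b P' b') (hp : Add R τ.p) (E : PinCell P b R A) (E' : PinCell P' b' R A')
  {B : Type u} [CommRing B] [Algebra R B] [DecidableEq idx] [DecidableEq idx']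

lemma exists_tposP (N : List (b.support × B)) : ∃ z : idx' → B,
    (tmdl τ hp E' B).evS true N = posP E' z ∧
      ∀ a : b.support, z (τ.d a) = sumAt N a ^ τ.q a := by
  induction N with
  | nil => exact ⟨0, by simp, fun a => by simp [zero_pow']⟩
  | cons p N ih =>
    obtain ⟨z, h1, h2⟩ := ih
    obtain ⟨w, h3, h4⟩ := exists_posP_mul E' (Pi.single (τ.d p.1) (p.2 ^ τ.q p.1)) z
    refine ⟨w, ?_, ?_⟩
    · rw [Model.evS_cons, h1, ← h3, posP_single E' (isPos_simple ((τ.hΔ p.1).mp p.1.2))]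
      rfl
    · intro a
      rw [h4 _ ((τ.hΔ a).mp a.2), h2, sumAt_cons, add_pow τ hp]
      congr 1
      by_cases h : p.1 = a
      · subst h; simp
      · rw [if_neg h, Pi.single_eq_of_ne, zero_pow']
        exact fun h' => h (Subtype.ext (τ.d.injective h'.symm))

lemma exists_tnegP (N : List (b.support × B)) : ∃ z : idx' → B,
    (tmdl τ hp E' B).evS false N = negP E' z ∧
      ∀ a : b.support, z (P'.reflectionPerm (τ.d a) (τ.d a)) = sumAt N a ^ τ.q a := by
  induction N with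
  | nil => exact ⟨0, by simp, fun a => by simp [zero_pow']⟩
  | cons p N ih =>
    obtain ⟨z, h1, h2⟩ := ih
    obtain ⟨w, h3, h4⟩ := exists_negP_mul E'
      (Pi.single (P'.reflectionPerm (τ.d p.1) (τ.d p.1)) (p.2 ^ τ.q p.1)) z
    refine ⟨w, ?_, ?_⟩
    · rw [Model.evS_cons, h1, ← h3,
        negP_single E' (not_isPos_neg (isPos_simple ((τ.hΔ p.1).mp p.1.2)))]
      congr 1
      simp only [tmdl_u, lidx_false, tu, τ.d_neg, τ.q_neg]
    · intro a
      rw [h4 _ ((τ.hΔ a).mp a.2), h2, sumAt_cons, add_pow τ hp]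
      congr 1
      by_cases h : p.1 = a
      · subst h; simp
      · rw [if_neg h, Pi.single_eq_of_ne, zero_pow']
        exact fun h' => h (Subtype.ext (τ.d.injective (negidx_inj h').symm))

end agree

/-- two points in the two big cells correspond on the torus part and on the simple coordinates -/
def TAgree (τ : Tw P b P' b') (E : PinCell P b R A) (E' : PinCell P' b' R A') {B : Type u}
    [CommRing B] [Algebra R B] (g : Pt R A B) (g' : Pt R A' B) : Prop :=
  ∃ (x : idx → B) (x' : idx' → B) (t : TPt M B), g = E.cell x t ∧ g' = E'.cell x' (τ.hT t) ∧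
    ∀ a ∈ b.support, x' (τ.d a) = x a ^ τ.q a ∧
      x' (P'.reflectionPerm (τ.d a) (τ.d a)) = x (P.reflectionPerm a a) ^ τ.q a

section

variable (τ : Tw P b P' b') (hp : Add R τ.p) (E : PinCell P b R A) (E' : PinCell P' b' R A')
  {B : Type u} [CommRing B] [Algebra R B]

/-- **small words agree** -/
theorem tagree_small (I : Ideal B) (hI : ∀ z ∈ I, IsUnit (1 + z))
    (L : List (Lt b.support × B)) (hL : ∀ p ∈ L, p.2 ∈ I) :
    TAgree τ E E' ((mdl E B).evL L) ((tmdl τ hp E' B).evL L) := by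
  classical
  obtain ⟨N, Q, h, key⟩ := exists_norm.{u, u} (wt := lwt b) (cor := lcor b) I hI L hL
  have h1 := key (mdl E B)
  have h2 := key (tmdl τ hp E' B)
  obtain ⟨y, hy1, hy2⟩ := exists_negP E N
  obtain ⟨z, hz1, hz2⟩ := exists_posP E Q
  obtain ⟨y', hy1', hy2'⟩ := exists_tnegP τ hp E' N
  obtain ⟨z', hz1', hz2'⟩ := exists_tposP τ hp E' Q
  refine ⟨glue b y (fun a => TPt.ch (P.root a) h * z a),
    glue b' y' (fun a => TPt.ch (P'.root a) (τ.hT h) * z' a), h, ?_, ?_, ?_⟩
  · rw [h1, hy1, hz1]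
    exact norm_eq_cell E y z h
  · rw [h2, hy1', hz1']
    exact norm_eq_cell E' y' z' (τ.hT h)
  · intro a ha
    have ha' := (τ.hΔ a).mp ha
    refine ⟨?_, ?_⟩
    · rw [glue, glue, if_pos (isPos_simple ha), if_pos (isPos_simple ha'), hz2 ⟨a, ha⟩,
        hz2' ⟨a, ha⟩, τ.ch_hT, mul_pow]
    · rw [glue, glue, if_neg (not_isPos_neg (isPos_simple ha)),
        if_neg (not_isPos_neg (isPos_simple ha')), hy2 ⟨a, ha⟩, hy2' ⟨a, ha⟩]

lemma TAgree.map {C : Type u} [CommRing C] [Algebra R C] (φ : B →ₐ[R] C) {g : Pt R A B}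
    {g' : Pt R A' B} (h : TAgree τ E E' g g') : TAgree τ E E' (Pt.map φ g) (Pt.map φ g') := by
  obtain ⟨x, x', t, h1, h2, h3⟩ := h
  refine ⟨fun a => φ (x a), fun a => φ (x' a), TPt.map φ t, ?_, ?_, ?_⟩
  · rw [h1, E.cell_nat]
  · rw [h2, E'.cell_nat]; rfl
  · intro a ha
    simp only [(h3 a ha).1, (h3 a ha).2, map_pow, and_self]

lemma TAgree.mul_i {g : Pt R A B} {g' : Pt R A' B} (h : TAgree τ E E' g g') (s : TPt M B) :
    TAgree τ E E' (g * E.i B s) (g' * E'.i B (τ.hT s)) := by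
  obtain ⟨x, x', t, h1, h2, h3⟩ := h
  exact ⟨x, x', t * s, by rw [h1, cell_mul_i], by rw [h2, cell_mul_i, map_mul], h3⟩

/-- agreement descends along injective ring maps, given that the points are in the cells -/
lemma tagree_of_injective {C : Type u} [CommRing C] [Algebra R C]
    (φ : B →ₐ[R] C) (hφ : Function.Injective φ) {g : Pt R A B} {g' : Pt R A' B}
    (h : InCell E g) (h' : InCell E' g') (ha : TAgree τ E E' (Pt.map φ g) (Pt.map φ g')) :
    TAgree τ E E' g g' := by
  obtain ⟨x, t, rfl⟩ := (inCell_iff E).mp h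
  obtain ⟨x', t', rfl⟩ := (inCell_iff E').mp h'
  obtain ⟨y, y', s, h1, h2, h3⟩ := ha
  rw [E.cell_nat] at h1
  rw [E'.cell_nat] at h2
  obtain ⟨h4, h5⟩ := E.cell_injective h1
  obtain ⟨h6, h7⟩ := E'.cell_injective h2
  have ht : t' = τ.hT t := by
    apply TPt.ext_ch
    intro m
    apply hφ
    rw [← TPt.ch_map, ← TPt.ch_map, h7, τ.hT_nat, h5]
  refine ⟨x, x', t, rfl, by rw [ht], ?_⟩
  intro a ha
  have hx : ∀ c, φ (x c) = y c := fun c => congrFun h4 c
  have hx' : ∀ c, φ (x' c) = y' c := fun c => congrFun h6 c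
  exact ⟨hφ (by rw [map_pow, hx, hx', (h3 a ha).1]), hφ (by rw [map_pow, hx, hx', (h3 a ha).2])⟩

/-- agreement can be checked locally -/
lemma tagree_of_away {P₀ C : Type u} [CommRing P₀] [CommRing C] [Algebra R C] (φ : P₀ →+* C)
    (J : Ideal P₀) (hJ : J.map φ = ⊤) {g : Pt R A C} {g' : Pt R A' C}
    (h : InCell E g) (h' : InCell E' g')
    (ha : ∀ f ∈ J, TAgree τ E E' (Pt.map (IsScalarTower.toAlgHom R C (Localization.Away (φ f))) g)
      (Pt.map (IsScalarTower.toAlgHom R C (Localization.Away (φ f))) g')) :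
    TAgree τ E E' g g' := by
  obtain ⟨x, t, rfl⟩ := (inCell_iff E).mp h
  obtain ⟨x', t', rfl⟩ := (inCell_iff E').mp h'
  have key : ∀ f ∈ J, TPt.map (IsScalarTower.toAlgHom R C (Localization.Away (φ f))) t' =
      TPt.map (IsScalarTower.toAlgHom R C (Localization.Away (φ f))) (τ.hT t) ∧
      ∀ a ∈ b.support, algebraMap C (Localization.Away (φ f)) (x' (τ.d a)) =
        algebraMap C _ (x a ^ τ.q a) ∧
        algebraMap C (Localization.Away (φ f)) (x' (P'.reflectionPerm (τ.d a) (τ.d a))) =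
        algebraMap C _ (x (P.reflectionPerm a a) ^ τ.q a) := by
    intro f hf
    obtain ⟨y, y', s, h1, h2, h3⟩ := ha f hf
    rw [E.cell_nat] at h1
    rw [E'.cell_nat] at h2
    obtain ⟨h4, h5⟩ := E.cell_injective h1
    obtain ⟨h6, h7⟩ := E'.cell_injective h2
    refine ⟨by rw [h7, τ.hT_nat, h5], fun a ha => ?_⟩
    have hx : ∀ c, algebraMap C (Localization.Away (φ f)) (x c) = y c := fun c => congrFun h4 c
    have hx' : ∀ c, algebraMap C (Localization.Away (φ f)) (x' c) = y' c := fun c => congrFun h6 c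
    exact ⟨by rw [map_pow, hx, hx', (h3 a ha).1], by rw [map_pow, hx, hx', (h3 a ha).2]⟩
  have ht : t' = τ.hT t := by
    apply TPt.ext_ch
    intro m
    apply eq_of_away φ J hJ
    intro f hf
    exact congrArg (TPt.ch m) (key f hf).1
  refine ⟨x, x', t, rfl, by rw [ht], ?_⟩
  intro a ha
  exact ⟨eq_of_away φ J hJ _ _ fun f hf => ((key f hf).2 a ha).1,
    eq_of_away φ J hJ _ _ fun f hf => ((key f hf).2 a ha).2⟩

/-- transfer of the agreement from a ring `S ⊇ P₀` to an arbitrary specialization `P₀ → C` -/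
theorem tagree_transfer {P₀ S C : Type u} [CommRing P₀] [Algebra R P₀] [CommRing S] [Algebra R S]
    [CommRing C] [Algebra R C] (j : P₀ →ₐ[R] S) (hj : Function.Injective j) (φ : P₀ →ₐ[R] C)
    (g : Pt R A P₀) (g' : Pt R A' P₀) (hS : TAgree τ E E' (Pt.map j g) (Pt.map j g'))
    (h : InCell E (Pt.map φ g)) (h' : InCell E' (Pt.map φ g')) :
    TAgree τ E E' (Pt.map φ g) (Pt.map φ g') := by
  have mul_le : ∀ I₁ I₂ : Ideal P₀, ∀ f ∈ I₁ * I₂, f ∈ I₁ ∧ f ∈ I₂ := fun I₁ I₂ f hf =>
    Ideal.mul_le_inf hf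
  have hJ : (E.cellIdeal.map g.hom.toRingHom * E'.cellIdeal.map g'.hom.toRingHom).map
      φ.toRingHom = ⊤ := by
    rw [Ideal.map_mul, Ideal.map_map, Ideal.map_map]
    have e1 : E.cellIdeal.map (φ.toRingHom.comp g.hom.toRingHom) = ⊤ := h
    have e2 : E'.cellIdeal.map (φ.toRingHom.comp g'.hom.toRingHom) = ⊤ := h'
    rw [e1, e2, Ideal.top_mul]
  -- agreement over the localizations of the polynomial ring
  have hloc : ∀ f, f ∈ E.cellIdeal.map g.hom.toRingHom → f ∈ E'.cellIdeal.map g'.hom.toRingHom →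
      TAgree τ E E' (Pt.map (IsScalarTower.toAlgHom R P₀ (Localization.Away f)) g)
        (Pt.map (IsScalarTower.toAlgHom R P₀ (Localization.Away f)) g') := by
    intro f hf1 hf2
    have hu : IsUnit ((IsScalarTower.toAlgHom R P₀ (Localization.Away f)) f) := by
      rw [IsScalarTower.toAlgHom_apply]
      exact IsLocalization.Away.algebraMap_isUnit f
    have i1 : InCell E (Pt.map (IsScalarTower.toAlgHom R P₀ (Localization.Away f)) g) :=
      inCell_away E hf1 _ hu
    have i2 : InCell E' (Pt.map (IsScalarTower.toAlgHom R P₀ (Localization.Away f)) g') :=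
      inCell_away E' hf2 _ hu
    refine tagree_of_injective τ E E' (Localization.awayMapₐ j f)
      (IsLocalization.Away.mapₐ_injective_of_injective _ hj) i1 i2 ?_
    rw [Pt.map_map, Pt.map_map, awayMapₐ_comp, ← Pt.map_map, ← Pt.map_map]
    exact hS.map τ E E' _
  refine tagree_of_away τ E E' φ.toRingHom _ hJ h h' ?_
  intro f hf
  have e := awayMapₐ_comp φ f
  have hf' := mul_le _ _ f hf
  have key := (hloc f hf'.1 hf'.2).map τ E E' (Localization.awayMapₐ φ f)
  rw [Pt.map_map, Pt.map_map, e, ← Pt.map_map, ← Pt.map_map] at key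
  exact key

/-- **words in both cells agree** (lists of letters) -/
theorem tagree_evL {C : Type u} [CommRing C] [Algebra R C] (L : List (Lt b.support × C))
    (h : InCell E ((mdl E C).evL L)) (h' : InCell E' ((tmdl τ hp E' C).evL L)) :
    TAgree τ E E' ((mdl E C).evL L) ((tmdl τ hp E' C).evL L) := by
  -- the universal word
  obtain ⟨U, hU, hU0⟩ : ∃ U : List (Lt b.support × MvPolynomial (Fin L.length) R),
      mapL b (MvPolynomial.aeval (R := R) (fun k => (L.get k).2)) U = L ∧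
      ∀ p ∈ U, MvPolynomial.constantCoeff p.2 = 0 := by
    refine ⟨List.ofFn (fun k : Fin L.length => ((L.get k).1, MvPolynomial.X k)), ?_, ?_⟩
    · rw [mapL, List.map_ofFn]
      conv_rhs => rw [← List.ofFn_get L]
      congr 1
      funext k
      exact Prod.ext rfl (MvPolynomial.aeval_X _ _)
    · intro p hp
      obtain ⟨k, rfl⟩ := List.mem_ofFn.mp hp
      simp
  -- power series
  have hj : ∀ p : MvPolynomial (Fin L.length) R,
      (MvPolynomial.coeToMvPowerSeries.algHom R : MvPolynomial (Fin L.length) R →ₐ[R]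
        MvPowerSeries (Fin L.length) R) p = (p : MvPowerSeries (Fin L.length) R) := by
    intro p
    rw [MvPolynomial.coeToMvPowerSeries.algHom_apply, Algebra.algebraMap_self, MvPowerSeries.map_id]
    rfl
  have key := tagree_transfer τ E E' (MvPolynomial.coeToMvPowerSeries.algHom R :
      MvPolynomial (Fin L.length) R →ₐ[R] MvPowerSeries (Fin L.length) R)
      (fun p q hpq => MvPolynomial.coe_injective _ _ (by rwa [hj, hj] at hpq))
      (MvPolynomial.aeval (R := R) (fun k => (L.get k).2))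
      ((mdl E _).evL U) ((tmdl τ hp E' _).evL U)
  rw [map_evL, tmap_evL, map_evL, tmap_evL, hU] at key
  refine key ?_ h h'
  refine tagree_small τ hp E E'
    (RingHom.ker (MvPowerSeries.constantCoeff (σ := Fin L.length) (R := R))) ?_ _ ?_
  · intro z hz
    rw [MvPowerSeries.isUnit_iff_constantCoeff, map_add, map_one, (RingHom.mem_ker).mp hz]
    simp
  · intro p hp
    obtain ⟨q, hq, rfl⟩ := List.mem_map.mp hp
    have := hU0 q hq
    rw [RingHom.mem_ker]
    change MvPowerSeries.constantCoeff ((MvPolynomial.coeToMvPowerSeries.algHom R :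
      MvPolynomial (Fin L.length) R →ₐ[R] MvPowerSeries (Fin L.length) R) q.2) = 0
    rw [hj, ← this]
    rfl

/-- **words in both cells agree** -/
theorem tagree_of_mem_tgraph {C : Type u} [CommRing C] [Algebra R C] {g : Pt R A C}
    {g' : Pt R A' C} (hg : (g, g') ∈ tgraph τ hp E E' C) (h : InCell E g) (h' : InCell E' g') :
    TAgree τ E E' g g' := by
  obtain ⟨L, t, hL⟩ := hg
  have h1 : g = (mdl E C).evL L * E.i C t := congrArg Prod.fst hL
  have h2 : g' = (tmdl τ hp E' C).evL L * E'.i C (τ.hT t) := congrArg Prod.snd hL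
  have h3 : (mdl E C).evL L = g * E.i C t⁻¹ := by rw [h1, i_inv, mul_inv_cancel_right]
  have h4 : (tmdl τ hp E' C).evL L = g' * E'.i C (τ.hT t)⁻¹ := by
    rw [h2, i_inv, mul_inv_cancel_right]
  rw [h1, h2]
  refine TAgree.mul_i τ E E' (tagree_evL τ hp E E' L ?_ ?_) t
  · obtain ⟨x, s, rfl⟩ := (inCell_iff E).mp h
    rw [h3, cell_mul_i]
    exact inCell_cell E _ _
  · obtain ⟨x, s, rfl⟩ := (inCell_iff E').mp h'
    rw [h4, cell_mul_i]
    exact inCell_cell E' _ _

end

end K213.PMor
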