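import Groth.Agent.Red.K213.TwGraph
import Groth.Agent.Sga3B.PtDescent

/-!
# The twisted word relations
-/

set_option autoImplicit false
set_option linter.unusedSectionVars false
universe u v

namespace K213.PMor

open Groth.Agent.Sga3B.Cell Groth.Agent.Sga3B.Word Groth.Agent.Sga3B Polynomial
  Groth.Agent.Sga3B.PtDescent

variable {idx M : Type} [Fintype idx] [AddCommGroup M] [Module.Free ℤ M]
    [Module.Finite ℤ M] {P : RootPairing idx ℤ M (Module.Dual ℤ M)} {b : P.Base}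
    {idx' M' : Type} [Fintype idx'] [AddCommGroup M'] [Module.Free ℤ M']
    [Module.Finite ℤ M'] {P' : RootPairing idx' ℤ M' (Module.Dual ℤ M')} {b' : P'.Base}
    {R A A' : Type u} [CommRing R] [CommRing A] [Algebra R A] [PtGrp R A]
    [CommRing A'] [Algebra R A'] [PtGrp R A']
    (τ : Tw P b P' b') (hp : Add R τ.p) (E : PinCell P b R A) (E' : PinCell P' b' R A')

section

variable {B : Type u} [CommRing B] [Algebra R B]

lemma tuu_simple_mem {a : idx} (ha : a ∈ b.support) (x : B) :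
    (E.uu a B x, tu τ E' B a x) ∈ tgraph τ hp E E' B := uu_lidx_mem_tgraph τ hp E E' (true, ⟨a, ha⟩) x

lemma tuu_neg_simple_mem {a : idx} (ha : a ∈ b.support) (x : B) :
    (E.uu (P.reflectionPerm a a) B x, tu τ E' B (P.reflectionPerm a a) x) ∈ tgraph τ hp E E' B :=
  uu_lidx_mem_tgraph τ hp E E' (false, ⟨a, ha⟩) x

include hp in
lemma tu_nn (a : idx) : tu τ E' B a 1 * tu τ E' B (P.reflectionPerm a a) (-1) * tu τ E' B a 1 =
    E'.nn (τ.d a) B := by
  simp only [tu, τ.d_neg, τ.q_neg, one_pow, neg_pow' τ hp, PinCell.nn]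

lemma tnn_mem {a : idx} (ha : a ∈ b.support) : (E.nn a B, E'.nn (τ.d a) B) ∈ tgraph τ hp E E' B := by
  rw [← tu_nn τ hp E' a]
  exact (tgraph τ hp E E' B).mul_mem ((tgraph τ hp E E' B).mul_mem
    (tuu_simple_mem τ hp E E' ha 1) (tuu_neg_simple_mem τ hp E E' ha (-1)))
    (tuu_simple_mem τ hp E E' ha 1)

end

/-- section words -/
theorem exists_tuu_mem (c : idx) : ∃ r : Rˣ, ∀ (B : Type u) [CommRing B] [Algebra R B] (x : B),
    (E.uu c B x, E'.uu (τ.d c) B (algebraMap R B r * x ^ τ.q c)) ∈ tgraph τ hp E E' B := by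
  have : P.IsReduced := PinComb.isReduced b
  have key : ∀ (a : idx), a ∈ b.support → ∀ c : idx, 
      (∃ r : Rˣ, ∀ (B : Type u) [CommRing B] [Algebra R B] (x : B),
        (E.uu c B x, E'.uu (τ.d c) B (algebraMap R B r * x ^ τ.q c)) ∈ tgraph τ hp E E' B) →
      (∃ r : Rˣ, ∀ (B : Type u) [CommRing B] [Algebra R B] (x : B),
        (E.uu (P.reflectionPerm a c) B x, E'.uu (τ.d (P.reflectionPerm a c)) B
          (algebraMap R B r * x ^ τ.q (P.reflectionPerm a c))) ∈ tgraph τ hp E E' B) := by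
    rintro a ha c ⟨r, hr⟩
    obtain ⟨s, hs⟩ := E.nn_conj ha c
    obtain ⟨s', hs'⟩ := E'.nn_conj ((τ.hΔ a).mp ha) (τ.d c)
    refine ⟨s' * r * (s⁻¹) ^ τ.q c, fun B _ _ x => ?_⟩
    have h1 := (tgraph τ hp E E' B).mul_mem ((tgraph τ hp E E' B).mul_mem (tnn_mem τ hp E E' ha)
      (hr B (algebraMap R B (s⁻¹ : Rˣ) * x))) ((tgraph τ hp E E' B).inv_mem (tnn_mem τ hp E E' ha))
    rw [Prod.mk_mul_mk, Prod.inv_mk, Prod.mk_mul_mk, hs, hs'] at h1
    rw [(τ.refl a c).1, (τ.refl a c).2]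
    convert h1 using 3
    · rw [← mul_assoc, ← map_mul, Units.mul_inv, map_one, one_mul]
    · rw [Units.val_mul, Units.val_mul, map_mul, map_mul, Units.val_pow_eq_pow_val, map_pow,
        mul_pow]
      ring
  refine (b.induction_reflect c (p := fun c =>
    (∃ r : Rˣ, ∀ (B : Type u) [CommRing B] [Algebra R B] (x : B),
        (E.uu c B x, E'.uu (τ.d c) B (algebraMap R B r * x ^ τ.q c)) ∈ tgraph τ hp E E' B) ∧ 
    (∃ r : Rˣ, ∀ (B : Type u) [CommRing B] [Algebra R B] (x : B),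
        (E.uu (P.reflectionPerm c c) B x, E'.uu (τ.d (P.reflectionPerm c c)) B
          (algebraMap R B r * x ^ τ.q (P.reflectionPerm c c))) ∈
          tgraph τ hp E E' B)) ?_ ?_ ?_).1
  · intro i hi
    refine ⟨hi.2, ?_⟩
    rw [negidx_negidx]
    exact hi.1
  · intro i hi
    refine ⟨⟨1, fun B _ _ x => ?_⟩, ⟨1, fun B _ _ x => ?_⟩⟩
    · rw [Units.val_one, map_one, one_mul]
      exact tuu_simple_mem τ hp E E' hi x
    · rw [Units.val_one, map_one, one_mul]
      exact tuu_neg_simple_mem τ hp E E' hi x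
  · intro i j hi hj
    refine ⟨key j hj i hi.1, ?_⟩
    rw [← refl_negidx]
    exact key j hj _ hi.2

/-- section words for the cell, starting from the first group -/
theorem exists_tcell_mem (B : Type u) [CommRing B] [Algebra R B] (x : idx → B) (t : TPt M B) :
    ∃ g' : Pt R A' B, (E.cell x t, g') ∈ tgraph τ hp E E' B := by
  choose r hr using exists_tuu_mem τ hp E E'
  have h : ∀ L : List idx, ∃ g' : Pt R A' B,
      ((L.map (fun a => E.uu a B (x a))).prod, g') ∈ tgraph τ hp E E' B := by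
    intro L
    induction L with
    | nil => exact ⟨1, (tgraph τ hp E E' B).one_mem⟩
    | cons a L ih =>
      obtain ⟨g', hg'⟩ := ih
      simp only [List.map_cons, List.prod_cons]
      exact ⟨_, (tgraph τ hp E E' B).mul_mem (hr a B (x a)) hg'⟩
  obtain ⟨g', hg'⟩ := h (allList b)
  exact ⟨_, (tgraph τ hp E E' B).mul_mem hg' (i_mem_tgraph τ hp E E' t)⟩

section

variable {C : Type u} [CommRing C] [Algebra R C]

lemma pow_eq_of (c : idx) {x : C} (h : x = 0) : x ^ τ.q c = 0 := by rw [h, zero_pow']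

/-- **infinitesimal case** -/
theorem eq_one_of_sq_zero' (hcomm : ∀ (I : Ideal C), I ^ 2 = ⊥ → ∀ g ∈ kerI R A' I,
      ∀ g' ∈ kerI R A' I, Commute g g') {I : Ideal C} (hI : I ^ 2 = ⊥) (h' : Pt R A' C)
    (hm : ((1 : Pt R A C), h') ∈ tgraph τ hp E E' C) (hk : h' ∈ kerI R A' I) : h' = 1 := by
  have hnil : IsNilpotent I := ⟨2, hI⟩
  have : P.IsReduced := PinComb.isReduced b
  -- simple coordinates
  have step : ∀ x' : idx' → C, ((1 : Pt R A C), E'.cell x' 1) ∈ tgraph τ hp E E' C →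
      E'.cell x' 1 ∈ kerI R A' I → ∀ a ∈ b.support, x' (τ.d a) = 0 ∧
        x' (τ.d (P.reflectionPerm a a)) = 0 := by
    intro x' h1 h2 a ha
    obtain ⟨y, y', t, e1, e2, e3⟩ := tagree_of_mem_tgraph τ hp E E' h1 (inCell_one E)
      (inCell_of_mem_kerI E' hnil h2)
    rw [← cell_zero E] at e1
    obtain ⟨e4, -⟩ := E.cell_injective e1
    obtain ⟨e5, -⟩ := E'.cell_injective e2
    rw [e5, τ.d_neg, (e3 a ha).1, (e3 a ha).2, ← e4]
    exact ⟨zero_pow' τ a, zero_pow' τ a⟩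
  -- all coordinates
  have key : ∀ c : idx, ∀ x' : idx' → C, ((1 : Pt R A C), E'.cell x' 1) ∈ tgraph τ hp E E' C →
      E'.cell x' 1 ∈ kerI R A' I → x' (τ.d c) = 0 ∧ x' (τ.d (P.reflectionPerm c c)) = 0 := by
    intro c
    refine b.induction_reflect c (p := fun c => ∀ x' : idx' → C,
      ((1 : Pt R A C), E'.cell x' 1) ∈ tgraph τ hp E E' C →
      E'.cell x' 1 ∈ kerI R A' I → x' (τ.d c) = 0 ∧ x' (τ.d (P.reflectionPerm c c)) = 0) ?_ ?_ ?_
    · intro i hi x' h1 h2
      obtain ⟨h3, h4⟩ := hi x' h1 h2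
      refine ⟨h4, ?_⟩
      rw [negidx_negidx]
      exact h3
    · intro i hi x' h1 h2
      exact step x' h1 h2 i hi
    · intro i j hi hj x' h1 h2
      obtain ⟨r, hr⟩ := exists_conj_cell E' hcomm hI ((τ.hΔ j).mp hj)
      have hx : ∀ c, x' c ∈ I := mem_of_cell_mem_kerI E' h2
      have h3 := hr x' hx
      have h4 := (tgraph τ hp E E' C).mul_mem ((tgraph τ hp E E' C).mul_mem
        (tnn_mem τ hp E E' hj) h1) ((tgraph τ hp E E' C).inv_mem (tnn_mem τ hp E E' hj))
      rw [Prod.mk_mul_mk, Prod.inv_mk, Prod.mk_mul_mk, h3, mul_one, mul_inv_cancel] at h4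
      have h5 := conj_mem_kerI h2 (E'.nn (τ.d j) C)
      rw [h3] at h5
      obtain ⟨h6, h7⟩ := hi _ h4 h5
      have hu : ∀ (s : Rˣ) (z : C), algebraMap R C s * z = 0 → z = 0 := by
        intro s z hz
        have := congrArg (fun w => algebraMap R C (s⁻¹ : Rˣ) * w) hz
        simp only [← mul_assoc, ← map_mul, Units.inv_mul, map_one, one_mul, mul_zero] at this
        exact this
      refine ⟨?_, ?_⟩
      · rw [(τ.refl j i).1]
        exact hu _ _ h6
      · rw [← refl_negidx, (τ.refl j _).1]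
        exact hu _ _ h7
  obtain ⟨y, y', t, e1, e2, e3⟩ := tagree_of_mem_tgraph τ hp E E' hm (inCell_one E)
      (inCell_of_mem_kerI E' hnil hk)
  rw [← cell_zero E] at e1
  obtain ⟨-, e4⟩ := E.cell_injective e1
  rw [← e4, map_one] at e2
  rw [e2] at hm hk
  have e5 : y' = 0 := by
    funext c
    obtain ⟨c, rfl⟩ := τ.d.surjective c
    exact (key c y' hm hk).1
  rw [e2, e5, cell_zero]

end

section

/-- the set of the second values of the words with first value `1` -/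
def ZZ' (C : Type u) [CommRing C] [Algebra R C] : Set (Pt R A' C) :=
  {h' | ((1 : Pt R A C), h') ∈ tgraph τ hp E E' C}

lemma ZZ'_map {C D : Type u} [CommRing C] [Algebra R C] [CommRing D] [Algebra R D]
    (φ : C →ₐ[R] D) (g : Pt R A' C) (hg : g ∈ ZZ' τ hp E E' C) : Pt.map φ g ∈ ZZ' τ hp E E' D := by
  have := tgraph_map τ hp E E' φ hg
  rwa [Pt.map_one] at this

/-- **nilpotent case** -/
theorem eq_one_of_nilpotent' (C : Type u) [CommRing C] [Algebra R C] (I : Ideal C)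
    (hI : IsNilpotent I) (g : Pt R A' C) (hg : g ∈ ZZ' τ hp E E' C) (hk : g ∈ kerI R A' I) :
    g = 1 := by
  refine nil_of_sq_zero (R := R) (A := A') (fun C _ _ => ZZ' τ hp E E' C)
    (fun φ g hg => ZZ'_map τ hp E E' φ g hg) ?_ C I hI g hg hk
  intro C _ _ I hI g hg hk
  exact eq_one_of_sq_zero' τ hp E E' (fun I hI g hg g' hg' => commute_of_sq_zero I hI g hg g' hg')
    hI g hg hk

/-- **commutation** of the elements of `ZZ'` with the root groups -/
theorem commute_tuu (c : idx) : ∃ r : Rˣ, ∀ (C : Type u) [CommRing C] [Algebra R C]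
    (h' : Pt R A' C), h' ∈ ZZ' τ hp E E' C → ∀ (x : C),
    Commute (E'.uu (τ.d c) C (algebraMap R C r * x ^ τ.q c)) h' := by
  obtain ⟨r, hr⟩ := exists_tuu_mem τ hp E E' c
  refine ⟨r, fun C _ _ h' hh x => ?_⟩
  -- over the polynomial ring
  let k : Pt R A' C[X] := Pt.map (IsScalarTower.toAlgHom R C C[X]) h'
  have hk : k ∈ ZZ' τ hp E E' C[X] := ZZ'_map τ hp E E' _ h' hh
  let y : C[X] := algebraMap R C[X] r * X ^ τ.q c
  let w : Pt R A' C[X] := E'.uu (τ.d c) C[X] y * k * (E'.uu (τ.d c) C[X] y)⁻¹ * k⁻¹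
  have hu := hr C[X] X
  have hw : w ∈ ZZ' τ hp E E' C[X] := by
    have h1 := (tgraph τ hp E E' C[X]).mul_mem ((tgraph τ hp E E' C[X]).mul_mem
      ((tgraph τ hp E E' C[X]).mul_mem hu hk) ((tgraph τ hp E E' C[X]).inv_mem hu))
      ((tgraph τ hp E E' C[X]).inv_mem hk)
    rw [Prod.mk_mul_mk, Prod.inv_mk, Prod.mk_mul_mk, Prod.inv_mk, Prod.mk_mul_mk, mul_one,
      mul_inv_cancel, inv_one, mul_one] at h1
    exact h1
  have hwk : w ∈ kerI R A' (Ideal.span {(X : C[X])}) := by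
    rw [mem_kerI, Pt.map_mul, Pt.map_mul, Pt.map_mul, Pt.map_inv, Pt.map_inv, E'.uu_nat]
    have : (Ideal.Quotient.mkₐ R (Ideal.span {(X : C[X])})) y = 0 := by
      have h1 : (Ideal.Quotient.mkₐ R (Ideal.span {(X : C[X])})) X = 0 :=
        Ideal.Quotient.eq_zero_iff_mem.mpr (Ideal.mem_span_singleton_self _)
      rw [map_mul, map_pow, h1, zero_pow', mul_zero]
    rw [this, PinCell.uu_zero, one_mul, inv_one, mul_one, mul_inv_cancel]
  have hwm : ∀ m : ℕ, w ∈ kerI R A' (Ideal.span {(X : C[X])} ^ m) := by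
    intro m
    rw [mem_kerI]
    refine eq_one_of_nilpotent' τ hp E E' _ ((Ideal.span {(X : C[X])}).map
      (Ideal.Quotient.mk (Ideal.span {(X : C[X])} ^ m))) ⟨m, ?_⟩ _ (ZZ'_map τ hp E E' _ w hw) ?_
    · rw [← Ideal.map_pow, Ideal.zero_eq_bot, Ideal.map_eq_bot_iff_le_ker, Ideal.mk_ker]
    · rw [mem_kerI_iff]
      intro f
      have h2 := (mem_kerI_iff.mp hwk) f
      rw [← Pt.map_one (Ideal.Quotient.mkₐ R (Ideal.span {(X : C[X])} ^ m)), Pt.map_hom_apply,
        Pt.map_hom_apply, ← map_sub]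
      exact Ideal.mem_map_of_mem _ h2
  have hw1 : w = 1 := by
    apply Pt.ext
    intro f
    rw [← sub_eq_zero]
    ext n
    have h3 := (mem_kerI_iff.mp (hwm (n + 1))) f
    rw [Ideal.span_singleton_pow, Ideal.mem_span_singleton] at h3
    rw [coeff_zero]
    exact (X_pow_dvd_iff.mp h3) n (Nat.lt_succ_self n)
  -- specialize
  have h4 := congrArg (Pt.map ((aeval x : C[X] →ₐ[C] C).restrictScalars R)) hw1
  have h5 : Pt.map ((aeval x : C[X] →ₐ[C] C).restrictScalars R) k = h' := by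
    rw [Pt.map_map]
    apply Pt.ext
    intro f
    simp
  rw [Pt.map_mul, Pt.map_mul, Pt.map_mul, Pt.map_inv, Pt.map_inv, Pt.map_one, h5, E'.uu_nat] at h4
  have h6 : ((aeval x : C[X] →ₐ[C] C).restrictScalars R) y = algebraMap R C r * x ^ τ.q c := by
    have h8 : ((aeval x : C[X] →ₐ[C] C).restrictScalars R) X = x := by simp
    rw [map_mul, map_pow, h8, AlgHom.commutes]
  rw [h6] at h4
  have h7 := mul_inv_eq_one.mp h4
  exact mul_inv_eq_iff_eq_mul.mp h7

/-- over an algebraically closed field, a point commuting with all the root groups is in the torus -/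
theorem exists_torus_of_commute (K : Type u) [Field K] [IsAlgClosed K] [Algebra R K]
    (h' : Pt R A' K) (hc : ∀ (c : idx') (x : K), Commute (E'.uu c K x) h') :
    ∃ t : TPt M' K, h' = E'.i K t := by
  classical
  have hinf : Infinite K := IsAlgClosed.instInfinite
  obtain ⟨x₁, t, x₂, t₂, hx⟩ := exists_mul_mem_cell E' h'
  rw [cell_eq_mul, cell_eq_mul] at hx
  -- the conjugate by the torus element
  set k : Pt R A' K := E'.i K t * h' * (E'.i K t)⁻¹ with hk
  have hkc : ∀ (c : idx') (z : K), Commute (E'.uu c K z) k := by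
    intro c z
    have h2 : E'.i K t * E'.uu c K (TPt.ch (P'.root c) t⁻¹ * z) * (E'.i K t)⁻¹ = E'.uu c K z := by
      rw [E'.rel, ← mul_assoc, ch_mul_ch_inv, one_mul]
    have h3 := (hc c (TPt.ch (P'.root c) t⁻¹ * z)).eq
    change E'.uu c K z * k = k * E'.uu c K z
    rw [← h2, hk]
    calc _ = E'.i K t * (E'.uu c K (TPt.ch (P'.root c) t⁻¹ * z) * h') * (E'.i K t)⁻¹ := by group
      _ = _ := by rw [h3]; group
  have hk1 : negP E' x₁ * (posP E' x₁ * k) * E'.i K t = negP E' x₂ * posP E' x₂ * E'.i K t₂ := by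
    rw [← hx, hk]; group
  have hpk : Commute (posP E' x₁) k := commute_list E' hkc _ _
  obtain ⟨n₁, hn₁⟩ := exists_negP_inv E' x₁
  obtain ⟨p₁, hp₁⟩ := exists_posP_inv E' x₁
  obtain ⟨n₂, hn₂, -⟩ := exists_negP_mul E' n₁ x₂
  let t₃ : TPt M' K := t₂ * t⁻¹
  obtain ⟨p₂, hp₂, -⟩ := exists_posP_mul E' x₂ (fun a => TPt.ch (P'.root a) t₃ * p₁ a)
  have ht₃ : E'.i K t₃ = E'.i K t₂ * (E'.i K t)⁻¹ := by rw [← i_inv]; exact map_mul _ _ _
  have hk2 : k = negP E' n₂ * posP E' p₂ * E'.i K t₃ := by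
    have h3 : k = (negP E' x₁)⁻¹ * (negP E' x₁ * (k * posP E' x₁) * E'.i K t) * (E'.i K t)⁻¹ *
        (posP E' x₁)⁻¹ := by group
    rw [h3, ← hpk.eq, hk1, hn₁, hp₁, ← hn₂, ← hp₂]
    have h4 := posP_mul_i E' p₁ t₃
    calc negP E' n₁ * (negP E' x₂ * posP E' x₂ * E'.i K t₂) * (E'.i K t)⁻¹ * posP E' p₁ =
        negP E' n₁ * negP E' x₂ * posP E' x₂ * (E'.i K t₃ * posP E' p₁) := by rw [ht₃]; group
      _ = _ := by rw [h4]; group
  set z : idx' → K := glue b' n₂ p₂ with hz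
  have hk3 : k = E'.cell z t₃ := by
    rw [cell_eq_mul, hz, negP_glue, posP_glue, hk2]
  have hz0 : z = 0 := by
    funext c
    by_contra hzc
    change z c ≠ 0 at hzc
    obtain ⟨a, ha, hac⟩ : ∃ a ∈ b'.support, P'.pairing c a ≠ 0 := by
      obtain ⟨a, ha, h2⟩ := b'.exists_mem_support_pos_pairingIn_ne_zero c
      refine ⟨a, ha, fun h3 => h2 ?_⟩
      have h4 : P'.pairing a c = 0 := P'.pairing_eq_zero_iff.mp h3
      have h5 := P'.algebraMap_pairingIn ℤ a c
      rw [h4] at h5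
      simpa using h5
    obtain ⟨v, hv⟩ := exists_zpow_ne_one (K := K) (k := P'.coroot a (P'.root c)) (by
      have h2 : P'.pairing c a = P'.coroot a (P'.root c) := by
        rw [← P'.root_coroot_eq_pairing, E'.pairing_eq]
        rfl
      rwa [← h2])
    have h2 := commute_cow E' hkc ha v
    have h3 := E'.toDatum.conj_cell (allList b') z t₃ (TPt.cow (P'.coroot a) v)
    have h4 : E'.i K (TPt.cow (P'.coroot a) v) * E'.cell z t₃ *
        (E'.i K (TPt.cow (P'.coroot a) v))⁻¹ = E'.cell z t₃ := by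
      rw [← hk3, h2.eq]; group
    have h5 := E'.cell_injective (h4.symm.trans h3)
    have h6 : z c = ((v ^ (P'.coroot a (P'.root c)) : Kˣ) : K) * z c := congrFun h5.1 c
    exact hv (mul_right_cancel₀ hzc (by rw [one_mul]; exact h6.symm))
  have hk4 : k = E'.i K t₃ := by
    rw [hk3, hz0, cell_eq_mul, negP_zero, posP_zero, one_mul, one_mul]
  have h5 : h' = (E'.i K t)⁻¹ * k * E'.i K t := by rw [hk]; group
  refine ⟨t₃, ?_⟩
  rw [h5, hk4, ht₃]
  have h6 : E'.i K t₂ * (E'.i K t)⁻¹ = (E'.i K t)⁻¹ * E'.i K t₂ := by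
    rw [← i_inv, ← map_mul, ← map_mul]
    exact congrArg _ (MonoidHom.ext fun m => mul_comm _ _)
  rw [h6]
  have h7 : E'.i K t₂ * E'.i K t = E'.i K t * E'.i K t₂ := by
    rw [← map_mul, ← map_mul]
    exact congrArg _ (MonoidHom.ext fun m => mul_comm _ _)
  calc (E'.i K t)⁻¹ * ((E'.i K t)⁻¹ * E'.i K t₂) * E'.i K t =
      (E'.i K t)⁻¹ * (E'.i K t)⁻¹ * (E'.i K t₂ * E'.i K t) := by group
    _ = _ := by rw [h7]; group

/-- **word relations, field case** -/
theorem eq_one_field' (K : Type u) [Field K] [IsAlgClosed K] [Algebra R K] (h' : Pt R A' K)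
    (hh : h' ∈ ZZ' τ hp E E' K) : h' = 1 := by
  have hc : ∀ (c : idx') (x : K), Commute (E'.uu c K x) h' := by
    intro c x
    obtain ⟨c, rfl⟩ := τ.d.surjective c
    obtain ⟨r, hr⟩ := commute_tuu τ hp E E' c
    obtain ⟨z, hz⟩ := IsAlgClosed.exists_pow_nat_eq (algebraMap R K ((r⁻¹ : Rˣ) : R) * x)
      (τ.q_pos c)
    have h1 := hr K h' hh z
    rwa [hz, ← mul_assoc, ← map_mul, Units.mul_inv, map_one, one_mul] at h1
  obtain ⟨t, rfl⟩ := exists_torus_of_commute E' K h' hc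
  have h1 : E'.i K t = E'.cell 0 t := by
    rw [cell_eq_mul, negP_zero, posP_zero, one_mul, one_mul]
  obtain ⟨y, y', s, e1, e2, -⟩ := tagree_of_mem_tgraph τ hp E E' hh (inCell_one E)
    (by rw [h1]; exact inCell_cell E' _ _)
  rw [← cell_zero E] at e1
  obtain ⟨-, e3⟩ := E.cell_injective e1
  rw [h1] at e2
  obtain ⟨-, e4⟩ := E'.cell_injective e2
  rw [e4, ← e3, map_one, map_one]

/-- **word relations** -/
theorem eq_one_of_mem_tgraph (C : Type u) [CommRing C] [Algebra R C] (h' : Pt R A' C)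
    (hh : ((1 : Pt R A C), h') ∈ tgraph τ hp E E' C) : h' = 1 := by
  have : Algebra.FinitePresentation R A' := E'.fp
  exact eq_one_of_field (R := R) (A := A') (fun C _ _ => ZZ' τ hp E E' C)
    (fun φ g hg => ZZ'_map τ hp E E' φ g hg)
    (fun C _ _ I hI g hg hk => eq_one_of_nilpotent' τ hp E E' C I hI g hg hk)
    (fun K _ _ _ g hg => eq_one_field' τ hp E E' K g hg) C h' hh

end

/-! ### the homomorphism -/

/-- the word system given by the graph -/
def tW : WordSys R where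
  Wd B _ _ := tgraph τ hp E E' B
  mon B _ _ := inferInstance
  map φ w := ⟨(Pt.map φ w.1.1, Pt.map φ w.1.2), tgraph_map τ hp E E' φ w.2⟩

/-- first projection -/
def tF : WordEv (tW τ hp E E') A where
  ev B _ _ := (MonoidHom.fst _ _).comp (tgraph τ hp E E' B).subtype
  ev_nat _ _ := rfl

/-- second projection -/
def tS : WordEv (tW τ hp E E') A' where
  ev B _ _ := (MonoidHom.snd _ _).comp (tgraph τ hp E E' B).subtype
  ev_nat _ _ := rfl

lemma tF_covers : (tF τ hp E E').Covers := by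
  refine PinCover.covers E (tF τ hp E E') ?_
  intro B _ _ x t
  obtain ⟨g', hg'⟩ := exists_tcell_mem τ hp E E' B x t
  exact ⟨⟨_, hg'⟩, rfl⟩

lemma tRel : Rel (tF τ hp E E') (tS τ hp E E') := by
  intro B _ _ w v h
  have h0 : w.1.1 = v.1.1 := h
  have h1 : ((1 : Pt R A B), (w.1.2)⁻¹ * v.1.2) ∈ tgraph τ hp E E' B := by
    have h2 := (tgraph τ hp E E' B).mul_mem ((tgraph τ hp E E' B).inv_mem w.2) v.2
    have h3 : w.1⁻¹ * v.1 = ((1 : Pt R A B), (w.1.2)⁻¹ * v.1.2) := by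
      refine Prod.ext ?_ rfl
      change (w.1.1)⁻¹ * v.1.1 = 1
      rw [h0, inv_mul_cancel]
    rwa [h3] at h2
  have h2 := eq_one_of_mem_tgraph τ hp E E' B _ h1
  exact inv_mul_eq_one.mp h2

include hp in
/-- **The homomorphism attached to a `p`-morphism**, ring level. -/
theorem exists_algHom : ∃ φ : A' →ₐ[R] A,
    (∀ (B : Type u) [CommRing B] [Algebra R B] (g h : Pt R A B),
      comap φ (g * h) = comap φ g * comap φ h) ∧
    (∀ (B : Type u) [CommRing B] [Algebra R B] (t : TPt M B),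
      comap φ (E.i B t) = E'.i B (τ.hT t)) ∧
    (∀ a ∈ b.support, ∀ (B : Type u) [CommRing B] [Algebra R B] (x : B),
      comap φ (E.uu a B x) = E'.uu (τ.d a) B (x ^ τ.q a) ∧
      comap φ (E.uu (P.reflectionPerm a a) B x) =
        E'.uu (P'.reflectionPerm (τ.d a) (τ.d a)) B (x ^ τ.q a)) := by
  obtain ⟨φ, hφ⟩ := exists_hom (tF_covers τ hp E E') (tRel τ hp E E')
  refine ⟨φ, ?_, ?_, ?_⟩
  · intro B _ _ g h
    exact comap_mul (tF_covers τ hp E E') hφ g h
  · intro B _ _ t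
    exact hφ B ⟨_, i_mem_tgraph τ hp E E' t⟩
  · intro a ha B _ _ x
    refine ⟨hφ B ⟨_, tuu_simple_mem τ hp E E' ha x⟩, ?_⟩
    have h1 := hφ B ⟨_, tuu_neg_simple_mem τ hp E E' ha x⟩
    refine h1.trans ?_
    change tu τ E' B (P.reflectionPerm a a) x = _
    rw [tu, τ.d_neg, τ.q_neg]

end K213.PMor
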