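import Groth.Agent.Red.K213.TwRel
import Groth.Agent.Red.K213.Rigid

/-!
# Uniqueness of homomorphisms with prescribed values on the torus and the simple root groups
-/

set_option autoImplicit false
set_option linter.unusedSectionVars false
universe u v

namespace K213.PMor

open Groth.Agent.Sga3B.Cell Groth.Agent.Sga3B.Word Groth.Agent.Sga3B Groth.Agent.Sga3B.PtDescent

variable {idx M : Type} [Fintype idx] [AddCommGroup M] [Module.Free ℤ M]
    [Module.Finite ℤ M] {P : RootPairing idx ℤ M (Module.Dual ℤ M)} {b : P.Base}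
    {R A A' : Type u} [CommRing R] [CommRing A] [Algebra R A] [PtGrp R A]
    [CommRing A'] [Algebra R A'] [PtGrp R A']

/-- the points on which two maps agree -/
def agSub {φ φ' : A' →ₐ[R] A}
    (hm : ∀ (B : Type u) [CommRing B] [Algebra R B] (g h : Pt R A B),
      comap φ (g * h) = comap φ g * comap φ h)
    (hm' : ∀ (B : Type u) [CommRing B] [Algebra R B] (g h : Pt R A B),
      comap φ' (g * h) = comap φ' g * comap φ' h)
    (B : Type u) [CommRing B] [Algebra R B] : Subgroup (Pt R A B) :=
  let f : Pt R A B →* Pt R A' B := MonoidHom.mk' (comap φ) (hm B)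
  let f' : Pt R A B →* Pt R A' B := MonoidHom.mk' (comap φ') (hm' B)
  f.eqLocus f'

section

variable {φ φ' : A' →ₐ[R] A}
    (hm : ∀ (B : Type u) [CommRing B] [Algebra R B] (g h : Pt R A B),
      comap φ (g * h) = comap φ g * comap φ h)
    (hm' : ∀ (B : Type u) [CommRing B] [Algebra R B] (g h : Pt R A B),
      comap φ' (g * h) = comap φ' g * comap φ' h)

lemma mem_agSub {B : Type u} [CommRing B] [Algebra R B] {g : Pt R A B} :
    g ∈ agSub hm hm' B ↔ comap φ g = comap φ' g := Iff.rfl

variable (E : PinCell P b R A)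
    (hu : ∀ a ∈ b.support, ∀ (B : Type u) [CommRing B] [Algebra R B] (x : B),
      comap φ (E.uu a B x) = comap φ' (E.uu a B x) ∧
      comap φ (E.uu (P.reflectionPerm a a) B x) = comap φ' (E.uu (P.reflectionPerm a a) B x))

include hu in
lemma agree_uu (c : idx) (B : Type u) [CommRing B] [Algebra R B] (x : B) :
    E.uu c B x ∈ agSub hm hm' B := by
  have : P.IsReduced := PinComb.isReduced b
  have hn : ∀ j ∈ b.support, ∀ {B : Type u} [CommRing B] [Algebra R B], E.nn j B ∈ agSub hm hm' B := by
    intro j hj B _ _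
    rw [PinCell.nn]
    exact (agSub hm hm' B).mul_mem ((agSub hm hm' B).mul_mem (hu j hj B 1).1 (hu j hj B (-1)).2)
      (hu j hj B 1).1
  have hstep : ∀ j ∈ b.support, ∀ c : idx, (∀ (B : Type u) [CommRing B] [Algebra R B] (x : B),
        E.uu c B x ∈ agSub hm hm' B) → (∀ (B : Type u) [CommRing B] [Algebra R B] (x : B),
        E.uu (P.reflectionPerm j c) B x ∈ agSub hm hm' B) := by
    intro j hj c hc B _ _ x
    obtain ⟨r, hr⟩ := E.nn_conj hj c
    have h1 := hr (algebraMap R B ((r⁻¹ : Rˣ) : R) * x)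
    rw [← mul_assoc, ← map_mul, Units.mul_inv, map_one, one_mul] at h1
    rw [← h1]
    exact (agSub hm hm' B).mul_mem ((agSub hm hm' B).mul_mem (hn j hj) (hc B _))
      ((agSub hm hm' B).inv_mem (hn j hj))
  refine (b.induction_reflect c (p := fun c => (∀ (B : Type u) [CommRing B] [Algebra R B] (x : B),
        E.uu c B x ∈ agSub hm hm' B) ∧ (∀ (B : Type u) [CommRing B] [Algebra R B] (x : B),
        E.uu (P.reflectionPerm c c) B x ∈ agSub hm hm' B)) ?_ ?_ ?_).1 B x
  · intro i hi
    refine ⟨hi.2, ?_⟩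
    rw [negidx_negidx]
    exact hi.1
  · intro i hi
    exact ⟨fun B _ _ x => (hu i hi B x).1, fun B _ _ x => (hu i hi B x).2⟩
  · intro i j hi hj
    refine ⟨hstep j hj i hi.1, ?_⟩
    rw [← refl_negidx]
    exact hstep j hj _ hi.2

include hm hm' hu in
/-- **Uniqueness**, ring level -/
theorem algHom_unique (hi : ∀ (B : Type u) [CommRing B] [Algebra R B] (t : TPt M B),
      comap φ (E.i B t) = comap φ' (E.i B t)) : φ = φ' := by
  obtain ⟨T, _, _, _, _, _, x, t, x', t', hT⟩ := PinCover.exists_cover E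
  have hcell : ∀ (x : idx → T) (t : TPt M T), E.cell x t ∈ agSub hm hm' T := by
    intro x t
    refine (agSub hm hm' T).mul_mem ((agSub hm hm' T).list_prod_mem ?_) (hi T t)
    intro y hy
    obtain ⟨d, hd, rfl⟩ := List.mem_map.mp hy
    exact agree_uu hm hm' E hu d T _
  have h1 : Pt.mk (IsScalarTower.toAlgHom R A T) ∈ agSub hm hm' T := by
    rw [hT]
    exact (agSub hm hm' T).mul_mem (hcell x t) (hcell x' t')
  rw [mem_agSub] at h1
  refine AlgHom.ext fun a => ?_
  have h2 := congrArg (fun p : Pt R A' T => p.hom a) h1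
  exact (FaithfulSMul.algebraMap_injective A T) h2

end

end K213.PMor
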